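import Cfsg.Agent.Chev.Trie

/-! Tables for the twelve dimensional representation of `U3(4)` over the field with five elements: matrices
over the field with sixteen elements are coded row by row in base 16, rows over the small field in base 5. -/

set_option autoImplicit false
set_option maxRecDepth 100000
set_option linter.style.longLine false

namespace CfsgLib.U3Four.Data

open CfsgLib.Chev

noncomputable def elT : Trie Nat := .node (.node (.node (.node (.node (.node (.node (.node (.node (.node (.node (.node (.leaf 19269168) (.leaf 50515663834)) (.node (.leaf 25656993893) (.leaf 0))) (.node (.node (.leaf 18505651991) (.leaf 0)) (.node (.leaf 33164727044) (.leaf 0)))) (.node (.node (.node (.leaf 3593719493) (.leaf 55065383677)) (.node (.leaf 29259514512) (.leaf 0))) (.node (.node (.leaf 21853830981) (.leaf 0)) (.node (.leaf 44393983114) (.leaf 0))))) (.node (.node (.node (.node (.leaf 1575286722) (.leaf 53303349882)) (.node (.leaf 27549711879) (.leaf 0))) (.node (.node (.leaf 20029313237) (.leaf 0)) (.node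 (.leaf 40202738346) (.leaf 0)))) (.node (.node (.node (.leaf 13591701605) (.leaf 60550872740)) (.node (.leaf 30895038269) (.leaf 0))) (.node (.node (.leaf 23872281749) (.leaf 0)) (.node (.leaf 46123437559) (.leaf 0)))))) (.node (.node (.node (.node (.node (.leaf 903054757) (.leaf 52466558554)) (.node (.leaf 26575146304) (.leaf 0))) (.node (.node (.leaf 19403699598) (.leaf 0)) (.node (.leaf 33816896005) (.leaf 0)))) (.node (.node (.node (.leaf 9051607648) (.leaf 56069983747)) (.node (.leaf 30173237606) (.leaf 0))) (.node (.node (.leaf 23018634231) (.leaf 0)) (.node (.leaf 45304419494) (.leaf 0))))) (.node (.node (.node (.node (.leaf 2474259692) (.leaf 54192307302)) (.node (.leaf 28403066500) (.leaf 0))) (.node (.node (.leaf 21194923122) (.leaf 0)) (.node (.leaf 43542175324) (.leaf 0)))) (.node (.node (.node (.leaf 17370022263) (.leaf 0)) (.node (.leaf 32247633786) (.leaf 0))) (.node (.node (.leaf 24792737056) (.leaf 0)) (.node (.leaf 47002020501) (.leaf 0))))))) (.node (.node (.node (.node (.node (.node (.leaf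 609903484) (.leaf 52061706980)) (.node (.leaf 26001596576) (.leaf 0))) (.node (.node (.leaf 18815934086) (.leaf 0)) (.node (.leaf 33480425623) (.leaf 0)))) (.node (.node (.node (.leaf 3953131574) (.leaf 55452547904)) (.node (.leaf 29884796133) (.leaf 0))) (.node (.node (.leaf 22692248275) (.leaf 0)) (.node (.leaf 44864875435) (.leaf 0))))) (.node (.node (.node (.node (.leaf 1963384576) (.leaf 53829984078)) (.node (.leaf 28024916138) (.leaf 0))) (.node (.node (.leaf 20637846014) (.leaf 0)) (.node (.leaf 42590346410) (.leaf 0)))) (.node (.node (.node (.leaf 16152613456) (.leaf 62927972084)) (.node (.leaf 31423110599) (.leaf 0))) (.node (.node (.leaf 24246722772) (.leaf 0)) (.node (.leaf 46561778128) (.leaf 0)))))) (.node (.node (.node (.node (.node (.leaf 1262809794) (.leaf 52959834060)) (.node (.leaf 27141708165) (.leaf 0))) (.node (.node (.leaf 19769899554) (.leaf 0)) (.node (.leaf 34359803919) (.leaf 0)))) (.node (.node (.node (.leaf 11679060452) (.leaf 58645273388)) (.node (.leaf 30534384508) (.leaf 0)))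 (.node (.node (.leaf 23348045445) (.leaf 0)) (.node (.leaf 45769682841) (.leaf 0))))) (.node (.node (.node (.node (.leaf 3046916826) (.leaf 54615756464)) (.node (.leaf 28722628416) (.leaf 0))) (.node (.node (.leaf 21523378135) (.leaf 0)) (.node (.leaf 43976994215) (.leaf 0)))) (.node (.node (.node (.leaf 17696598478) (.leaf 0)) (.node (.leaf 32793933610) (.leaf 0))) (.node (.node (.leaf 25400996855) (.leaf 0)) (.node (.leaf 47961483895) (.leaf 0)))))))) (.node (.node (.node (.node (.node (.node (.node (.leaf 204867952) (.leaf 51826805844)) (.node (.leaf 25831727264) (.leaf 0))) (.node (.node (.leaf 18691167478) (.leaf 0)) (.node (.leaf 33321914197) (.leaf 0)))) (.node (.node (.node (.leaf 3799786906) (.leaf 55249990429)) (.node (.leaf 29712099658) (.leaf 0))) (.node (.node (.leaf 22027926004) (.leaf 0)) (.node (.leaf 44647341020) (.leaf 0))))) (.node (.node (.node (.node (.leaf 1743096739) (.leaf 53539765021)) (.node (.leaf 27648887616) (.leaf 0))) (.node (.node (.leaf 20484109344) (.leaf 0)) (.node (.leaf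 41287002650) (.leaf 0)))) (.node (.node (.node (.leaf 15076811360) (.leaf 61914545324)) (.node (.leaf 31080094469) (.leaf 0))) (.node (.node (.leaf 24092359559) (.leaf 0)) (.node (.leaf 46376875754) (.leaf 0)))))) (.node (.node (.node (.node (.node (.leaf 1111258474) (.leaf 52698700972)) (.node (.leaf 27022091396) (.leaf 0))) (.node (.node (.leaf 19563427120) (.leaf 0)) (.node (.leaf 34154986282) (.leaf 0)))) (.node (.node (.node (.leaf 10616856980) (.leaf 56914804744)) (.node (.leaf 30380723428) (.leaf 0))) (.node (.node (.leaf 23226600618) (.leaf 0)) (.node (.leaf 45469184912) (.leaf 0))))) (.node (.node (.node (.node (.leaf 2646376042) (.leaf 54430930252)) (.node (.leaf 28559330372) (.leaf 0))) (.node (.node (.leaf 21319792944) (.leaf 0)) (.node (.leaf 43792463815) (.leaf 0)))) (.node (.node (.node (.leaf 17544216693) (.leaf 0)) (.node (.leaf 32400215189) (.leaf 0))) (.node (.node (.leaf 24945957014) (.leaf 0)) (.node (.leaf 47236865861) (.leaf 0))))))) (.node (.node (.node (.node (.node (.node (.leaf 694982442)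 (.leaf 52264029127)) (.node (.leaf 26194253852) (.leaf 0))) (.node (.node (.leaf 19001302898) (.leaf 0)) (.node (.leaf 33691581053) (.leaf 0)))) (.node (.node (.node (.leaf 4295602398) (.leaf 55738951110)) (.node (.leaf 30036920871) (.leaf 0))) (.node (.node (.leaf 22816396821) (.leaf 0)) (.node (.leaf 45049432059) (.leaf 0))))) (.node (.node (.node (.node (.leaf 2124048252) (.leaf 54024503702)) (.node (.leaf 28215551495) (.leaf 0))) (.node (.node (.leaf 21073647236) (.leaf 0)) (.node (.leaf 43387535701) (.leaf 0)))) (.node (.node (.node (.leaf 17217998007) (.leaf 64249177332)) (.node (.leaf 32094054149) (.leaf 0))) (.node (.node (.leaf 24399706182) (.leaf 0)) (.node (.leaf 46793421286) (.leaf 0)))))) (.node (.node (.node (.node (.node (.leaf 1406973530) (.leaf 53127571708)) (.node (.leaf 27329550599) (.leaf 0))) (.node (.node (.leaf 19941962800) (.leaf 0)) (.node (.leaf 38872877838) (.leaf 0)))) (.node (.node (.node (.leaf 12679680864) (.leaf 59529526327)) (.node (.leaf 30769897206) (.leaf 0))) (.node (.node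 (.leaf 23719507081) (.leaf 0)) (.node (.leaf 45938878375) (.leaf 0))))) (.node (.node (.node (.node (.leaf 3230674182) (.leaf 54896389998)) (.node (.leaf 29098290324) (.leaf 0))) (.node (.node (.leaf 21697458551) (.leaf 0)) (.node (.leaf 44185615078) (.leaf 0)))) (.node (.node (.node (.leaf 18283294230) (.leaf 0)) (.node (.leaf 32947571813) (.leaf 0))) (.node (.node (.leaf 25571037364) (.leaf 0)) (.node (.leaf 49427196794) (.leaf 0))))))))) (.node (.node (.node (.node (.node (.node (.node (.node (.leaf 146146416) (.leaf 50943635319)) (.node (.leaf 25805471872) (.leaf 0))) (.node (.node (.leaf 18547627396) (.leaf 0)) (.node (.leaf 33222737707) (.leaf 0)))) (.node (.node (.node (.leaf 3656018812) (.leaf 55149308813)) (.node (.leaf 29670874757) (.leaf 0))) (.node (.node (.leaf 21910246448) (.leaf 0)) (.node (.leaf 44528230906) (.leaf 0))))) (.node (.node (.node (.node (.leaf 1663858282) (.leaf 53455848109)) (.node (.leaf 27594626724) (.leaf 0))) (.node (.node (.leaf 20134181285) (.leaf 0)) (.node (.leaf 40885732741)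 (.leaf 0)))) (.node (.node (.node (.leaf 13965787144) (.leaf 61460482188)) (.node (.leaf 31016530219) (.leaf 0))) (.node (.node (.leaf 24029215347) (.leaf 0)) (.node (.leaf 46309746074) (.leaf 0)))))) (.node (.node (.node (.node (.node (.leaf 961341242) (.leaf 52567225450)) (.node (.leaf 26876406261) (.leaf 0))) (.node (.node (.leaf 19433658596) (.leaf 0)) (.node (.leaf 34127285332) (.leaf 0)))) (.node (.node (.node (.leaf 9532662100) (.leaf 56542132279)) (.node (.leaf 30302272086) (.leaf 0))) (.node (.node (.leaf 23079543942) (.leaf 0)) (.node (.leaf 45435599680) (.leaf 0))))) (.node (.node (.node (.node (.leaf 2605041603) (.leaf 54363881068)) (.node (.leaf 28527923093) (.leaf 0))) (.node (.node (.leaf 21298135221) (.leaf 0)) (.node (.leaf 43676345708) (.leaf 0)))) (.node (.node (.node (.leaf 17413044775) (.leaf 0)) (.node (.leaf 32270256356) (.leaf 0))) (.node (.node (.leaf 24856108569) (.leaf 0)) (.node (.leaf 47152980325) (.leaf 0))))))) (.node (.node (.node (.node (.node (.node (.leaf 637939968) (.leaf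 52129793959)) (.node (.leaf 26128879543) (.leaf 0))) (.node (.node (.leaf 18958630343) (.leaf 0)) (.node (.leaf 33520598314) (.leaf 0)))) (.node (.node (.node (.leaf 4031787782) (.leaf 55587914774)) (.node (.leaf 29906734180) (.leaf 0))) (.node (.node (.leaf 22751339910) (.leaf 0)) (.node (.leaf 44948753691) (.leaf 0))))) (.node (.node (.node (.node (.leaf 1993525748) (.leaf 53897128606)) (.node (.leaf 28156824247) (.leaf 0))) (.node (.node (.leaf 20680521413) (.leaf 0)) (.node (.leaf 43236547141) (.leaf 0)))) (.node (.node (.node (.leaf 16579095653) (.leaf 63596956036)) (.node (.leaf 31963404411) (.leaf 0))) (.node (.node (.leaf 24268471984) (.leaf 0)) (.node (.leaf 46662479472) (.leaf 0)))))) (.node (.node (.node (.node (.node (.leaf 1304065388) (.leaf 52993366668)) (.node (.leaf 27288442020) (.leaf 0))) (.node (.node (.leaf 19813258372) (.leaf 0)) (.node (.leaf 34360614979) (.leaf 0)))) (.node (.node (.node (.leaf 12045293408) (.leaf 59102442172)) (.node (.leaf 30631324933) (.leaf 0))) (.node (.node (.leaf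 23697268948) (.leaf 0)) (.node (.leaf 45836770025) (.leaf 0))))) (.node (.node (.node (.node (.leaf 3108694844) (.leaf 54716425520)) (.node (.leaf 29073662348) (.leaf 0))) (.node (.node (.leaf 21598894199) (.leaf 0)) (.node (.leaf 44118491462) (.leaf 0)))) (.node (.node (.node (.leaf 17994036389) (.leaf 0)) (.node (.leaf 32870043620) (.leaf 0))) (.node (.node (.leaf 25444321530) (.leaf 0)) (.node (.leaf 48333193231) (.leaf 0)))))))) (.node (.node (.node (.node (.node (.node (.node (.leaf 265684336) (.leaf 51977842580)) (.node (.leaf 25957556384) (.leaf 0))) (.node (.node (.leaf 18738085842) (.leaf 0)) (.node (.leaf 33349818172) (.leaf 0)))) (.node (.node (.node (.leaf 3881094642) (.leaf 55385402704)) (.node (.leaf 29790512391) (.leaf 0))) (.node (.node (.leaf 22565649911) (.leaf 0)) (.node (.leaf 44714463932) (.leaf 0))))) (.node (.node (.node (.node (.leaf 1832564060) (.leaf 53640369149)) (.node (.leaf 27999448917) (.leaf 0))) (.node (.node (.leaf 20506258502) (.leaf 0)) (.node (.leaf 41954215365) (.leaf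 0)))) (.node (.node (.node (.leaf 15695452992) (.leaf 62528473364)) (.node (.leaf 31147311751) (.leaf 0))) (.node (.node (.leaf 24151155878) (.leaf 0)) (.node (.leaf 46477907376) (.leaf 0)))))) (.node (.node (.node (.node (.node (.leaf 1133846003) (.leaf 52765823372)) (.node (.leaf 27097081452) (.leaf 0))) (.node (.node (.leaf 19628199164) (.leaf 0)) (.node (.leaf 34281492583) (.leaf 0)))) (.node (.node (.node (.leaf 10956851008) (.leaf 58026586684)) (.node (.leaf 30459785946) (.leaf 0))) (.node (.node (.leaf 23269336710) (.leaf 0)) (.node (.leaf 45603413328) (.leaf 0))))) (.node (.node (.node (.node (.leaf 3022177524) (.leaf 54531872288)) (.node (.leaf 28615273162) (.leaf 0))) (.node (.node (.leaf 21451177876) (.leaf 0)) (.node (.leaf 43876336375) (.leaf 0)))) (.node (.node (.node (.leaf 17604849478) (.leaf 0)) (.node (.leaf 32441725628) (.leaf 0))) (.node (.node (.leaf 25258513605) (.leaf 0)) (.node (.leaf 47480505346) (.leaf 0))))))) (.node (.node (.node (.node (.node (.node (.leaf 875734180) (.leaf 52382710090))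 (.node (.leaf 26282936549) (.leaf 0))) (.node (.node (.leaf 19075120805) (.leaf 0)) (.node (.leaf 33756240374) (.leaf 0)))) (.node (.node (.node (.leaf 8658030091) (.leaf 55822816902)) (.node (.leaf 30145976422) (.leaf 0))) (.node (.node (.leaf 22956530227) (.leaf 0)) (.node (.leaf 45237331702) (.leaf 0))))) (.node (.node (.node (.node (.leaf 2151731974) (.leaf 54058078182)) (.node (.leaf 28362712428) (.leaf 0))) (.node (.node (.leaf 21121786902) (.leaf 0)) (.node (.leaf 43471433573) (.leaf 0)))) (.node (.node (.node (.leaf 17240017079) (.leaf 64424677531)) (.node (.leaf 32149134397) (.leaf 0))) (.node (.node (.leaf 24768840165) (.leaf 0)) (.node (.leaf 46860503654) (.leaf 0)))))) (.node (.node (.node (.node (.node (.leaf 1529534796) (.leaf 53236226858)) (.node (.leaf 27408025877) (.leaf 0))) (.node (.node (.leaf 19969517636) (.leaf 0)) (.node (.leaf 39750799786) (.leaf 0)))) (.node (.node (.node (.leaf 13120310797) (.leaf 60163162889)) (.node (.leaf 30817434749) (.leaf 0))) (.node (.node (.leaf 23783129430)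 (.leaf 0)) (.node (.leaf 46022754839) (.leaf 0))))) (.node (.node (.node (.node (.leaf 3564246148) (.leaf 54963493454)) (.node (.leaf 29230788554) (.leaf 0))) (.node (.node (.leaf 21824532596) (.leaf 0)) (.node (.leaf 44360420042) (.leaf 0)))) (.node (.node (.node (.leaf 18427588556) (.leaf 0)) (.node (.leaf 33035676933) (.leaf 0))) (.node (.node (.leaf 25601672441) (.leaf 0)) (.node (.leaf 50057395642) (.leaf 0)))))))))) (.node (.node (.node (.node (.node (.node (.node (.node (.node (.leaf 30803632) (.leaf 50700187434)) (.node (.leaf 25738846420) (.leaf 0))) (.node (.node (.leaf 18518137222) (.leaf 0)) (.node (.leaf 33197668573) (.leaf 0)))) (.node (.node (.node (.leaf 3641060352) (.leaf 55082192301)) (.node (.leaf 29555635719) (.leaf 0))) (.node (.node (.leaf 21898830182) (.leaf 0)) (.node (.leaf 44444327850) (.leaf 0))))) (.node (.node (.node (.node (.leaf 1647998572) (.leaf 53387256794)) (.node (.leaf 27564738028) (.leaf 0))) (.node (.node (.leaf 20109776240) (.leaf 0)) (.node (.leaf 40439762058) (.leaf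 0)))) (.node (.node (.node (.leaf 13838076565) (.leaf 61225615644)) (.node (.leaf 31004792006) (.leaf 0))) (.node (.node (.leaf 23916272070) (.leaf 0)) (.node (.leaf 46192315978) (.leaf 0)))))) (.node (.node (.node (.node (.node (.leaf 912941692) (.leaf 52533712362)) (.node (.leaf 26862220364) (.leaf 0))) (.node (.node (.leaf 19417798886) (.leaf 0)) (.node (.leaf 33833771799) (.leaf 0)))) (.node (.node (.node (.leaf 9306139284) (.leaf 56303761276)) (.node (.leaf 30219406406) (.leaf 0))) (.node (.node (.leaf 23031336693) (.leaf 0)) (.node (.leaf 45354741382) (.leaf 0))))) (.node (.node (.node (.node (.leaf 2539949330) (.leaf 54246418780)) (.node (.leaf 28450477319) (.leaf 0))) (.node (.node (.leaf 21283376212) (.leaf 0)) (.node (.leaf 43609241164) (.leaf 0)))) (.node (.node (.node (.leaf 17402530423) (.leaf 0)) (.node (.leaf 32257203516) (.leaf 0))) (.node (.node (.leaf 24808759508) (.leaf 0)) (.node (.leaf 47119441125) (.leaf 0))))))) (.node (.node (.node (.node (.node (.node (.leaf 623101381) (.leaf 52112989687))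 (.node (.leaf 26115178341) (.leaf 0))) (.node (.node (.leaf 18931914780) (.leaf 0)) (.node (.leaf 33506460133) (.leaf 0)))) (.node (.node (.node (.leaf 3984383562) (.leaf 55536400224)) (.node (.leaf 29895614746) (.leaf 0))) (.node (.node (.leaf 22722187546) (.leaf 0)) (.node (.leaf 44881671115) (.leaf 0))))) (.node (.node (.node (.node (.leaf 1978438186) (.leaf 53863554286)) (.node (.leaf 28073840452) (.leaf 0))) (.node (.node (.leaf 20651845040) (.leaf 0)) (.node (.leaf 42774201541) (.leaf 0)))) (.node (.node (.node (.leaf 16337167328) (.leaf 63429191156)) (.node (.leaf 31676851991) (.leaf 0))) (.node (.node (.leaf 24261592825) (.leaf 0)) (.node (.leaf 46628889632) (.leaf 0)))))) (.node (.node (.node (.node (.node (.leaf 1295826522) (.leaf 52976569372)) (.node (.leaf 27257514348) (.leaf 0))) (.node (.node (.leaf 19797471879) (.leaf 0)) (.node (.leaf 34359971933) (.leaf 0)))) (.node (.node (.node (.leaf 11860724544) (.leaf 58929764903)) (.node (.leaf 30565272212) (.leaf 0))) (.node (.node (.leaf 23362748036)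 (.leaf 0)) (.node (.leaf 45803195481) (.leaf 0))))) (.node (.node (.node (.node (.leaf 3061054997) (.leaf 54682884464)) (.node (.leaf 29063048218) (.leaf 0))) (.node (.node (.leaf 21534874295) (.leaf 0)) (.node (.leaf 44101672022) (.leaf 0)))) (.node (.node (.node (.leaf 17729812869) (.leaf 0)) (.node (.leaf 32808728508) (.leaf 0))) (.node (.node (.leaf 25413641894) (.leaf 0)) (.node (.leaf 48188010807) (.leaf 0)))))))) (.node (.node (.node (.node (.node (.node (.node (.leaf 254150064) (.leaf 51944253540)) (.node (.leaf 25894608912) (.leaf 0))) (.node (.node (.leaf 18723709687) (.leaf 0)) (.node (.leaf 33336031194) (.leaf 0)))) (.node (.node (.node (.leaf 3815099843) (.leaf 55368643472)) (.node (.leaf 29742640748) (.leaf 0))) (.node (.node (.leaf 22291100804) (.leaf 0)) (.node (.leaf 44664121132) (.leaf 0))))) (.node (.node (.node (.node (.leaf 1804903074) (.leaf 53606852493)) (.node (.leaf 27989051431) (.leaf 0))) (.node (.node (.leaf 20491669988) (.leaf 0)) (.node (.leaf 41452996293) (.leaf 0)))) (.node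 (.node (.node (.leaf 15261324112) (.leaf 62360712612)) (.node (.leaf 31129891261) (.leaf 0))) (.node (.node (.leaf 24107358234) (.leaf 0)) (.node (.leaf 46427179370) (.leaf 0)))))) (.node (.node (.node (.node (.node (.leaf 1119540812) (.leaf 52715481852)) (.node (.leaf 27053734151) (.leaf 0))) (.node (.node (.leaf 19571460526) (.leaf 0)) (.node (.leaf 34216347749) (.leaf 0)))) (.node (.node (.node (.leaf 10772310928) (.leaf 57860192823)) (.node (.leaf 30395337365) (.leaf 0))) (.node (.node (.leaf 23253492679) (.leaf 0)) (.node (.leaf 45519480672) (.leaf 0))))) (.node (.node (.node (.node (.leaf 2699063814) (.leaf 54481306860)) (.node (.leaf 28569960759) (.leaf 0))) (.node (.node (.leaf 21368675870) (.leaf 0)) (.node (.leaf 43809184647) (.leaf 0)))) (.node (.node (.node (.leaf 17557498288) (.leaf 0)) (.node (.leaf 32432160218) (.leaf 0))) (.node (.node (.leaf 24966051348) (.leaf 0)) (.node (.leaf 47312735746) (.leaf 0))))))) (.node (.node (.node (.node (.node (.node (.leaf 777688876) (.leaf 52297593367)) (.node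 (.leaf 26204221332) (.leaf 0))) (.node (.node (.leaf 19050817990) (.leaf 0)) (.node (.leaf 33723620612) (.leaf 0)))) (.node (.node (.node (.leaf 4295913593) (.leaf 55772470950)) (.node (.leaf 30134470726) (.leaf 0))) (.node (.node (.leaf 22844643606) (.leaf 0)) (.node (.leaf 45119853846) (.leaf 0))))) (.node (.node (.node (.node (.leaf 2151686662) (.leaf 54041291350)) (.node (.leaf 28331087594) (.leaf 0))) (.node (.node (.leaf 21106077175) (.leaf 0)) (.node (.leaf 43421112549) (.leaf 0)))) (.node (.node (.node (.leaf 17228438743) (.leaf 64424574984)) (.node (.leaf 32120327428) (.leaf 0))) (.node (.node (.leaf 24440682884) (.leaf 0)) (.node (.leaf 46810179734) (.leaf 0)))))) (.node (.node (.node (.node (.node (.leaf 1465195507) (.leaf 53219446202)) (.node (.leaf 27376608453) (.leaf 0))) (.node (.node (.leaf 19957852230) (.leaf 0)) (.node (.leaf 39075892869) (.leaf 0)))) (.node (.node (.node (.leaf 12952536589) (.leaf 59912961404)) (.node (.leaf 30785531140) (.leaf 0))) (.node (.node (.leaf 23733677600) (.leaf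 0)) (.node (.leaf 45955677127) (.leaf 0))))) (.node (.node (.node (.node (.leaf 3230716422) (.leaf 54929976478)) (.node (.leaf 29147627925) (.leaf 0))) (.node (.node (.leaf 21707931943) (.leaf 0)) (.node (.leaf 44269481878) (.leaf 0)))) (.node (.node (.node (.leaf 18398725796) (.leaf 0)) (.node (.leaf 32978451770) (.leaf 0))) (.node (.node (.leaf 25586529712) (.leaf 0)) (.node (.leaf 49611790298) (.leaf 0))))))))) (.node (.node (.node (.node (.node (.node (.node (.node (.leaf 175509024) (.leaf 51334574890)) (.node (.leaf 25817026752) (.leaf 0))) (.node (.node (.leaf 18661439628) (.leaf 0)) (.node (.leaf 33270546949) (.leaf 0)))) (.node (.node (.node (.leaf 3732055460) (.leaf 55216424909)) (.node (.leaf 29697041652) (.leaf 0))) (.node (.node (.leaf 21992292388) (.leaf 0)) (.node (.leaf 44630560060) (.leaf 0))))) (.node (.node (.node (.node (.leaf 1729101942) (.leaf 53472644557)) (.node (.leaf 27642926213) (.leaf 0))) (.node (.node (.leaf 20470080974) (.leaf 0)) (.node (.leaf 41053460901) (.leaf 0)))) (.node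 (.node (.node (.leaf 14909762149) (.leaf 61677554204)) (.node (.leaf 31048686852) (.leaf 0))) (.node (.node (.leaf 24060007701) (.leaf 0)) (.node (.leaf 46343263322) (.leaf 0)))))) (.node (.node (.node (.node (.node (.leaf 1043498260) (.leaf 52681920284)) (.node (.leaf 26991064730) (.leaf 0))) (.node (.node (.leaf 19482001589) (.leaf 0)) (.node (.leaf 34143582076) (.leaf 0)))) (.node (.node (.node (.leaf 9679077391) (.leaf 56788527831)) (.node (.leaf 30313786086) (.leaf 0))) (.node (.node (.leaf 23113143317) (.leaf 0)) (.node (.leaf 45452391136) (.leaf 0))))) (.node (.node (.node (.node (.leaf 2613051574) (.leaf 54397404828)) (.node (.leaf 28544113180) (.leaf 0))) (.node (.node (.leaf 21305280614) (.leaf 0)) (.node (.leaf 43709936796) (.leaf 0)))) (.node (.node (.node (.leaf 17528788254) (.leaf 0)) (.node (.leaf 32334344279) (.leaf 0))) (.node (.node (.leaf 24936643653) (.leaf 0)) (.node (.leaf 47186528341) (.leaf 0))))))) (.node (.node (.node (.node (.node (.node (.leaf 649206148) (.leaf 52196909959)) (.node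 (.leaf 26144827594) (.leaf 0))) (.node (.node (.leaf 18971257284) (.leaf 0)) (.node (.leaf 33581997317) (.leaf 0)))) (.node (.node (.node (.leaf 4295491599) (.leaf 55705364982)) (.node (.leaf 29954427132) (.leaf 0))) (.node (.node (.leaf 22800544279) (.leaf 0)) (.node (.leaf 45015831179) (.leaf 0))))) (.node (.node (.node (.node (.leaf 2041808037) (.leaf 53947418718)) (.node (.leaf 28167211157) (.leaf 0))) (.node (.node (.leaf 20959996082) (.leaf 0)) (.node (.leaf 43354025109) (.leaf 0)))) (.node (.node (.node (.leaf 16963169760) (.leaf 64065162268)) (.node (.leaf 32078517494) (.leaf 0))) (.node (.node (.leaf 24316934213) (.leaf 0)) (.node (.leaf 46776634438) (.leaf 0)))))) (.node (.node (.node (.node (.node (.leaf 1390680962) (.leaf 53043679660)) (.node (.leaf 27315053642) (.leaf 0))) (.node (.node (.leaf 19863050780) (.leaf 0)) (.node (.leaf 38688326414) (.leaf 0)))) (.node (.node (.node (.leaf 12288290708) (.leaf 59286958972)) (.node (.leaf 30743884251) (.leaf 0))) (.node (.node (.leaf 23704551765) (.leaf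 0)) (.node (.leaf 45887088745) (.leaf 0))))) (.node (.node (.node (.node (.leaf 3189904772) (.leaf 54778937694)) (.node (.leaf 29084815319) (.leaf 0))) (.node (.node (.leaf 21664955511) (.leaf 0)) (.node (.leaf 44135254118) (.leaf 0)))) (.node (.node (.node (.leaf 18270727159) (.leaf 0)) (.node (.leaf 32881688727) (.leaf 0))) (.node (.node (.leaf 25493399205) (.leaf 0)) (.node (.leaf 49272201591) (.leaf 0)))))))) (.node (.node (.node (.node (.node (.node (.node (.leaf 274775302) (.leaf 52011356484)) (.node (.leaf 25990041792) (.leaf 0))) (.node (.node (.leaf 18782514884) (.leaf 0)) (.node (.leaf 33415302996) (.leaf 0)))) (.node (.node (.node (.leaf 3889880652) (.leaf 55402222304)) (.node (.leaf 29869148279) (.leaf 0))) (.node (.node (.leaf 22581495029) (.leaf 0)) (.node (.leaf 44798370684) (.leaf 0))))) (.node (.node (.node (.node (.leaf 1956307772) (.leaf 53712544110)) (.node (.leaf 28011424428) (.leaf 0))) (.node (.node (.leaf 20554678389) (.leaf 0)) (.node (.leaf 42122017269) (.leaf 0)))) (.node (.node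 (.node (.leaf 15979289157) (.leaf 62761736908)) (.node (.leaf 31147355047) (.leaf 0))) (.node (.node (.leaf 24231907302) (.leaf 0)) (.node (.leaf 46494664240) (.leaf 0)))))) (.node (.node (.node (.node (.node (.leaf 1199571126) (.leaf 52849731788)) (.node (.leaf 27111277589) (.leaf 0))) (.node (.node (.leaf 19740771750) (.leaf 0)) (.node (.leaf 34311834340) (.leaf 0)))) (.node (.node (.node (.leaf 11402501600) (.leaf 58211152828)) (.node (.leaf 30524502103) (.leaf 0))) (.node (.node (.leaf 23301471443) (.leaf 0)) (.node (.leaf 45652201801) (.leaf 0))))) (.node (.node (.node (.node (.leaf 3037081344) (.leaf 54548686032)) (.node (.leaf 28695722085) (.leaf 0))) (.node (.node (.leaf 21512855479) (.leaf 0)) (.node (.leaf 43943428887) (.leaf 0)))) (.node (.node (.node (.leaf 17614437012) (.leaf 0)) (.node (.leaf 32493706183) (.leaf 0))) (.node (.node (.leaf 25373473459) (.leaf 0)) (.node (.leaf 47706501674) (.leaf 0))))))) (.node (.node (.node (.node (.node (.node (.leaf 889601792) (.leaf 52399472282)) (.node (.leaf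 26306717664) (.leaf 0))) (.node (.node (.leaf 19395671248) (.leaf 0)) (.node (.leaf 33770057659) (.leaf 0)))) (.node (.node (.node (.leaf 8825799691) (.leaf 55902209539)) (.node (.leaf 30160658278) (.leaf 0))) (.node (.node (.leaf 22989611466) (.leaf 0)) (.node (.leaf 45270845894) (.leaf 0))))) (.node (.node (.node (.node (.leaf 2461848906) (.leaf 54108362822)) (.node (.leaf 28388464005) (.leaf 0))) (.node (.node (.leaf 21149708684) (.leaf 0)) (.node (.leaf 43525372396) (.leaf 0)))) (.node (.node (.node (.leaf 17303965559) (.leaf 64425250914)) (.node (.leaf 32198261979) (.leaf 0))) (.node (.node (.leaf 24778231638) (.leaf 0)) (.node (.leaf 46944362326) (.leaf 0)))))) (.node (.node (.node (.node (.node (.leaf 1542455334) (.leaf 53253007162)) (.node (.leaf 27523720778) (.leaf 0))) (.node (.node (.leaf 19981444814) (.leaf 0)) (.node (.leaf 39985740026) (.leaf 0)))) (.node (.node (.node (.leaf 13353969632) (.leaf 60347714313)) (.node (.leaf 30866166277) (.leaf 0))) (.node (.node (.leaf 23865032756) (.leaf 0))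 (.node (.leaf 46089835399) (.leaf 0))))) (.node (.node (.node (.node (.leaf 3579634234) (.leaf 55013841134)) (.node (.leaf 29241404588) (.leaf 0))) (.node (.node (.leaf 21838304281) (.leaf 0)) (.node (.leaf 44377200666) (.leaf 0)))) (.node (.node (.node (.leaf 18459144114) (.leaf 0)) (.node (.leaf 33152296102) (.leaf 0))) (.node (.node (.leaf 25608686310) (.leaf 0)) (.node (.leaf 50334413239) (.leaf 0))))))))))) (.node (.node (.node (.node (.node (.node (.node (.node (.node (.node (.leaf 24512112) (.leaf 50599542074)) (.node (.leaf 25668792009) (.leaf 0))) (.node (.node (.leaf 18511493772) (.leaf 0)) (.node (.leaf 33186681605) (.leaf 0)))) (.node (.node (.node (.leaf 3597830420) (.leaf 55067690672)) (.node (.leaf 29546008260) (.leaf 0))) (.node (.node (.leaf 21858029748) (.leaf 0)) (.node (.leaf 44401621222) (.leaf 0))))) (.node (.node (.node (.node (.leaf 1645215798) (.leaf 53312530518)) (.node (.leaf 27559061189) (.leaf 0))) (.node (.node (.leaf 20103700452) (.leaf 0)) (.node (.leaf 40288776698) (.leaf 0))))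 (.node (.node (.node (.leaf 13675565381) (.leaf 60670148609)) (.node (.leaf 30897707780) (.leaf 0))) (.node (.node (.leaf 23909000357) (.leaf 0)) (.node (.leaf 46124770412) (.leaf 0)))))) (.node (.node (.node (.node (.node (.leaf 909310404) (.leaf 52476888007)) (.node (.leaf 26575161232) (.leaf 0))) (.node (.node (.leaf 19414847701) (.leaf 0)) (.node (.leaf 33833765767) (.leaf 0)))) (.node (.node (.node (.leaf 9155176532) (.leaf 56169541084)) (.node (.leaf 30179557702) (.leaf 0))) (.node (.node (.leaf 23023594531) (.leaf 0)) (.node (.leaf 45311421033) (.leaf 0))))) (.node (.node (.node (.node (.leaf 2478833782) (.leaf 54199228556)) (.node (.leaf 28446619212) (.leaf 0))) (.node (.node (.leaf 21205654006) (.leaf 0)) (.node (.leaf 43547137712) (.leaf 0)))) (.node (.node (.node (.leaf 17374224695) (.leaf 0)) (.node (.leaf 32250429511) (.leaf 0))) (.node (.node (.leaf 24802414421) (.leaf 0)) (.node (.leaf 47008063066) (.leaf 0))))))) (.node (.node (.node (.node (.node (.node (.leaf 615707844) (.leaf 52069983942))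 (.node (.leaf 26111265962) (.leaf 0))) (.node (.node (.leaf 18820293908) (.leaf 0)) (.node (.leaf 33483991852) (.leaf 0)))) (.node (.node (.node (.leaf 3981748130) (.leaf 55457908886)) (.node (.leaf 29887359628) (.leaf 0))) (.node (.node (.leaf 22716625799) (.leaf 0)) (.node (.leaf 44871723372) (.leaf 0))))) (.node (.node (.node (.node (.leaf 1974727957) (.leaf 53836814726)) (.node (.leaf 28033022565) (.leaf 0))) (.node (.node (.leaf 20640436710) (.leaf 0)) (.node (.leaf 42674260170) (.leaf 0)))) (.node (.node (.node (.leaf 16236497808) (.leaf 63062153668)) (.node (.leaf 31676845447) (.leaf 0))) (.node (.node (.leaf 24249813589) (.leaf 0)) (.node (.leaf 46570872203) (.leaf 0)))))) (.node (.node (.node (.node (.node (.leaf 1268090787) (.leaf 52962304342)) (.node (.leaf 27247953514) (.leaf 0))) (.node (.node (.leaf 19779223436) (.leaf 0)) (.node (.leaf 34359955613) (.leaf 0)))) (.node (.node (.node (.leaf 11746209620) (.leaf 58745889756)) (.node (.leaf 30560476538) (.leaf 0))) (.node (.node (.leaf 23353201686)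 (.leaf 0)) (.node (.leaf 45778126154) (.leaf 0))))) (.node (.node (.node (.node (.leaf 3055724964) (.leaf 54619330282)) (.node (.leaf 28722645904) (.leaf 0))) (.node (.node (.leaf 21530716887) (.leaf 0)) (.node (.leaf 43985139659) (.leaf 0)))) (.node (.node (.node (.leaf 17729791477) (.leaf 0)) (.node (.leaf 32797814871) (.leaf 0))) (.node (.node (.leaf 25409504757) (.leaf 0)) (.node (.leaf 48045374647) (.leaf 0)))))))) (.node (.node (.node (.node (.node (.node (.node (.leaf 213256624) (.leaf 51835081862)) (.node (.leaf 25889398944) (.leaf 0))) (.node (.node (.leaf 18698619300) (.leaf 0)) (.node (.leaf 33331416132) (.leaf 0)))) (.node (.node (.node (.leaf 3805951724) (.leaf 55252260208)) (.node (.leaf 29737960725) (.leaf 0))) (.node (.node (.leaf 22027951780) (.leaf 0)) (.node (.leaf 44653013242) (.leaf 0))))) (.node (.node (.node (.node (.leaf 1798100042) (.leaf 53548487671)) (.node (.leaf 27648902032) (.leaf 0))) (.node (.node (.leaf 20487598117) (.leaf 0)) (.node (.leaf 41419412901) (.leaf 0)))) (.node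 (.node (.node (.leaf 15160667104) (.leaf 61998373068)) (.node (.leaf 31083626459) (.leaf 0))) (.node (.node (.leaf 24096308403) (.leaf 0)) (.node (.leaf 46380960345) (.leaf 0)))))) (.node (.node (.node (.node (.node (.leaf 1115684902) (.leaf 52711554448)) (.node (.leaf 27027412613) (.leaf 0))) (.node (.node (.leaf 19567923044) (.leaf 0)) (.node (.leaf 34211172244) (.leaf 0)))) (.node (.node (.node (.leaf 10683965412) (.leaf 57449578504)) (.node (.leaf 30390264039) (.leaf 0))) (.node (.node (.leaf 23234357795) (.leaf 0)) (.node (.leaf 45477174442) (.leaf 0))))) (.node (.node (.node (.node (.leaf 2699044614) (.leaf 54438826468)) (.node (.leaf 28561492709) (.leaf 0))) (.node (.node (.leaf 21365256229) (.leaf 0)) (.node (.leaf 43800533899) (.leaf 0)))) (.node (.node (.node (.leaf 17547313508) (.leaf 0)) (.node (.leaf 32404472148) (.leaf 0))) (.node (.node (.leaf 24966018436) (.leaf 0)) (.node (.leaf 47243000298) (.leaf 0))))))) (.node (.node (.node (.node (.node (.node (.leaf 772176384) (.leaf 52271147312)) (.node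 (.leaf 26195987495) (.leaf 0))) (.node (.node (.leaf 19042498439) (.leaf 0)) (.node (.leaf 33702990203) (.leaf 0)))) (.node (.node (.node (.leaf 4295893049) (.leaf 55743258596)) (.node (.leaf 30040957332) (.leaf 0))) (.node (.node (.leaf 22838581786) (.leaf 0)) (.node (.leaf 45056316508) (.leaf 0))))) (.node (.node (.node (.node (.leaf 2127754692) (.leaf 54031446012)) (.node (.leaf 28321377989) (.leaf 0))) (.node (.node (.leaf 21082581196) (.leaf 0)) (.node (.leaf 43396754585) (.leaf 0)))) (.node (.node (.node (.leaf 17220086839) (.leaf 64316251844)) (.node (.leaf 32114391595) (.leaf 0))) (.node (.node (.leaf 24402667040) (.leaf 0)) (.node (.leaf 46805306172) (.leaf 0)))))) (.node (.node (.node (.node (.node (.leaf 1408237622) (.leaf 53130071190)) (.node (.leaf 27372308932) (.leaf 0))) (.node (.node (.leaf 19947898286) (.leaf 0)) (.node (.leaf 39008736421) (.leaf 0)))) (.node (.node (.node (.leaf 12813877824) (.leaf 59607547912)) (.node (.leaf 30782284549) (.leaf 0))) (.node (.node (.leaf 23730843764) (.leaf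 0)) (.node (.leaf 45940226380) (.leaf 0))))) (.node (.node (.node (.node (.leaf 3230692102) (.leaf 54906493156)) (.node (.leaf 29107199772) (.leaf 0))) (.node (.node (.leaf 21699498423) (.leaf 0)) (.node (.leaf 44187414410) (.leaf 0)))) (.node (.node (.node (.leaf 18392076658) (.leaf 0)) (.node (.leaf 32970705492) (.leaf 0))) (.node (.node (.leaf 25575104406) (.leaf 0)) (.node (.leaf 49511103786) (.leaf 0))))))))) (.node (.node (.node (.node (.node (.node (.node (.node (.leaf 170266224) (.leaf 51007062031)) (.node (.leaf 25810755744) (.leaf 0))) (.node (.node (.leaf 18656645911) (.leaf 0)) (.node (.leaf 33231815172) (.leaf 0)))) (.node (.node (.node (.leaf 3727947285) (.leaf 55151619792)) (.node (.leaf 29675538780) (.leaf 0))) (.node (.node (.leaf 21988019429) (.leaf 0)) (.node (.leaf 44535811942) (.leaf 0))))) (.node (.node (.node (.node (.leaf 1670693874) (.leaf 53464649159)) (.node (.leaf 27633628423) (.leaf 0))) (.node (.node (.leaf 20134215365) (.leaf 0)) (.node (.leaf 40919279125) (.leaf 0)))) (.node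 (.node (.node (.leaf 14500560904) (.leaf 61610430348)) (.node (.leaf 31046023293) (.leaf 0))) (.node (.node (.leaf 24040307850) (.leaf 0)) (.node (.leaf 46313873385) (.leaf 0)))))) (.node (.node (.node (.node (.node (.leaf 970171525) (.leaf 52577542791)) (.node (.leaf 26986619911) (.leaf 0))) (.node (.node (.leaf 19437196830) (.leaf 0)) (.node (.leaf 34132463509) (.leaf 0)))) (.node (.node (.node (.leaf 9599754084) (.leaf 56626041127)) (.node (.leaf 30307502742) (.leaf 0))) (.node (.node (.leaf 23102536983) (.leaf 0)) (.node (.leaf 45443640058) (.leaf 0))))) (.node (.node (.node (.node (.leaf 2608511324) (.leaf 54371739796)) (.node (.leaf 28536408247) (.leaf 0))) (.node (.node (.leaf 21301601486) (.leaf 0)) (.node (.leaf 43681334320) (.leaf 0)))) (.node (.node (.node (.leaf 17523987568) (.leaf 0)) (.node (.leaf 32331510314) (.leaf 0))) (.node (.node (.leaf 24859882608) (.leaf 0)) (.node (.leaf 47159092378) (.leaf 0))))))) (.node (.node (.node (.node (.node (.node (.leaf 643453628) (.leaf 52136920240)) (.node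 (.leaf 26137102436) (.leaf 0))) (.node (.node (.leaf 18966922406) (.leaf 0)) (.node (.leaf 33572612868) (.leaf 0)))) (.node (.node (.node (.leaf 4031820294) (.leaf 55592250468)) (.node (.leaf 29951914341) (.leaf 0))) (.node (.node (.leaf 22759390323) (.leaf 0)) (.node (.leaf 44955629292) (.leaf 0))))) (.node (.node (.node (.node (.leaf 2030451712) (.leaf 53903904278)) (.node (.leaf 28159139722) (.leaf 0))) (.node (.node (.leaf 20955118535) (.leaf 0)) (.node (.leaf 43245715801) (.leaf 0)))) (.node (.node (.node (.leaf 16658530312) (.leaf 63914176940)) (.node (.leaf 31969336068) (.leaf 0))) (.node (.node (.leaf 24313794740) (.leaf 0)) (.node (.leaf 46671562523) (.leaf 0)))))) (.node (.node (.node (.node (.node (.leaf 1381352131) (.leaf 52995882854)) (.node (.leaf 27292685989) (.leaf 0))) (.node (.node (.leaf 19853769938) (.leaf 0)) (.node (.leaf 34360647907) (.leaf 0)))) (.node (.node (.node (.leaf 12221169988) (.leaf 59186293724)) (.node (.leaf 30634494724) (.leaf 0))) (.node (.node (.leaf 23700166960) (.leaf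 0)) (.node (.leaf 45845227162) (.leaf 0))))) (.node (.node (.node (.node (.leaf 3114031034) (.leaf 54719947866)) (.node (.leaf 29080550501) (.leaf 0))) (.node (.node (.leaf 21607254071) (.leaf 0)) (.node (.leaf 44120316074) (.leaf 0)))) (.node (.node (.node (.leaf 17994070469) (.leaf 0)) (.node (.leaf 32877781690) (.leaf 0))) (.node (.node (.leaf 25484907175) (.leaf 0)) (.node (.leaf 48860626959) (.leaf 0)))))))) (.node (.node (.node (.node (.node (.node (.node (.leaf 274739718) (.leaf 51986060710)) (.node (.leaf 25965924544) (.leaf 0))) (.node (.node (.leaf 18775034278) (.leaf 0)) (.node (.leaf 33405798549) (.leaf 0)))) (.node (.node (.node (.leaf 3883694442) (.leaf 55390829158)) (.node (.leaf 29796007578) (.leaf 0))) (.node (.node (.leaf 22571240106) (.leaf 0)) (.node (.leaf 44720082890) (.leaf 0))))) (.node (.node (.node (.node (.leaf 1843774403) (.leaf 53649179303)) (.node (.leaf 28006684756) (.leaf 0))) (.node (.node (.leaf 20517648848) (.leaf 0)) (.node (.leaf 41987786373) (.leaf 0)))) (.node (.node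 (.node (.leaf 15796093840) (.leaf 62694686636)) (.node (.leaf 31147322647) (.leaf 0))) (.node (.node (.leaf 24228009241) (.leaf 0)) (.node (.leaf 46487030779) (.leaf 0)))))) (.node (.node (.node (.node (.node (.leaf 1195129322) (.leaf 52778642256)) (.node (.leaf 27105974548) (.leaf 0))) (.node (.node (.leaf 19730379719) (.leaf 0)) (.node (.leaf 34289185754) (.leaf 0)))) (.node (.node (.node (.leaf 11318631264) (.leaf 58110458748)) (.node (.leaf 30464610116) (.leaf 0))) (.node (.node (.leaf 23293700298) (.leaf 0)) (.node (.leaf 45611377034) (.leaf 0))))) (.node (.node (.node (.node (.leaf 3027478917) (.leaf 54535403882)) (.node (.leaf 28693557732) (.leaf 0))) (.node (.node (.leaf 21454026192) (.leaf 0)) (.node (.leaf 43884457387) (.leaf 0)))) (.node (.node (.node (.leaf 17611333685) (.leaf 0)) (.node (.leaf 32493690359) (.leaf 0))) (.node (.node (.leaf 25262680454) (.leaf 0)) (.node (.leaf 47572300602) (.leaf 0))))))) (.node (.node (.node (.node (.node (.node (.leaf 879379420) (.leaf 52393016599)) (.node (.leaf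 26306679648) (.leaf 0))) (.node (.node (.leaf 19075151301) (.leaf 0)) (.node (.leaf 33758674109) (.leaf 0)))) (.node (.node (.node (.leaf 8691582219) (.leaf 55827122772)) (.node (.leaf 30152326998) (.leaf 0))) (.node (.node (.leaf 22964246805) (.leaf 0)) (.node (.leaf 45244305241) (.leaf 0))))) (.node (.node (.node (.node (.leaf 2456071074) (.leaf 54064994988)) (.node (.leaf 28366568967) (.leaf 0))) (.node (.node (.leaf 21140792340) (.leaf 0)) (.node (.leaf 43480619241) (.leaf 0)))) (.node (.node (.node (.leaf 17301839831) (.leaf 64425033729)) (.node (.leaf 32161159941) (.leaf 0))) (.node (.node (.leaf 24775213092) (.leaf 0)) (.node (.leaf 46872416988) (.leaf 0)))))) (.node (.node (.node (.node (.node (.leaf 1541174378) (.leaf 53245414038)) (.node (.leaf 27413750892) (.leaf 0))) (.node (.node (.leaf 19975551264) (.leaf 0)) (.node (.leaf 39901834266) (.leaf 0)))) (.node (.node (.node (.leaf 13219745168) (.leaf 60247049993)) (.node (.leaf 30853817766) (.leaf 0))) (.node (.node (.leaf 23786589945) (.leaf 0))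 (.node (.leaf 46024152668) (.leaf 0))))) (.node (.node (.node (.node (.leaf 3573972736) (.leaf 54973579604)) (.node (.leaf 29232468308) (.leaf 0))) (.node (.node (.leaf 21831716070) (.leaf 0)) (.node (.leaf 44368047254) (.leaf 0)))) (.node (.node (.node (.leaf 18434254022) (.leaf 0)) (.node (.leaf 33046691773) (.leaf 0))) (.node (.node (.leaf 25604620340) (.leaf 0)) (.node (.leaf 50158090042) (.leaf 0)))))))))) (.node (.node (.node (.node (.node (.node (.node (.node (.node (.leaf 137757904) (.leaf 50876568023)) (.node (.leaf 25742911590) (.leaf 0))) (.node (.node (.leaf 18540162758) (.leaf 0)) (.node (.leaf 33219385798) (.leaf 0)))) (.node (.node (.node (.leaf 3646703578) (.leaf 55084475440)) (.node (.leaf 29561066986) (.leaf 0))) (.node (.node (.leaf 21905460905) (.leaf 0)) (.node (.leaf 44451940934) (.leaf 0))))) (.node (.node (.node (.node (.leaf 1659216515) (.leaf 53396425958)) (.node (.leaf 27590849690) (.leaf 0))) (.node (.node (.leaf 20115626270) (.leaf 0)) (.node (.leaf 40523638810) (.leaf 0)))) (.node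 (.node (.node (.leaf 13905194213) (.leaf 61376568524)) (.node (.leaf 31013005061) (.leaf 0))) (.node (.node (.leaf 24025245639) (.leaf 0)) (.node (.leaf 46196449689) (.leaf 0)))))) (.node (.node (.node (.node (.node (.leaf 956726272) (.leaf 52543982503)) (.node (.leaf 26871131892) (.leaf 0))) (.node (.node (.leaf 19429251440) (.leaf 0)) (.node (.leaf 33833807271) (.leaf 0)))) (.node (.node (.node (.leaf 9390021860) (.leaf 56391118807)) (.node (.leaf 30227811478) (.leaf 0))) (.node (.node (.leaf 23073521546) (.leaf 0)) (.node (.leaf 45361784985) (.leaf 0))))) (.node (.node (.node (.node (.leaf 2545727834) (.leaf 54254263364)) (.node (.leaf 28525759076) (.leaf 0))) (.node (.node (.leaf 21286233264) (.leaf 0)) (.node (.leaf 43614234912) (.leaf 0)))) (.node (.node (.node (.leaf 17404644023) (.leaf 0)) (.node (.leaf 32265996869) (.leaf 0))) (.node (.node (.leaf 24811776614) (.leaf 0)) (.node (.leaf 47125529962) (.leaf 0))))))) (.node (.node (.node (.node (.node (.node (.leaf 627856058) (.leaf 52120163952)) (.node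 (.leaf 26127129292) (.leaf 0))) (.node (.node (.leaf 18934165970) (.leaf 0)) (.node (.leaf 33515965028) (.leaf 0)))) (.node (.node (.node (.leaf 3990496668) (.leaf 55541767238)) (.node (.leaf 29902700983) (.leaf 0))) (.node (.node (.leaf 22732531077) (.leaf 0)) (.node (.leaf 44888505932) (.leaf 0))))) (.node (.node (.node (.node (.leaf 1989841452) (.leaf 53870355958)) (.node (.leaf 28078565516) (.leaf 0))) (.node (.node (.leaf 20680488357) (.leaf 0)) (.node (.leaf 42841320981) (.leaf 0)))) (.node (.node (.node (.leaf 16511949397) (.leaf 63462766244)) (.node (.leaf 31676883879) (.leaf 0))) (.node (.node (.leaf 24265476694) (.leaf 0)) (.node (.leaf 46638035659) (.leaf 0)))))) (.node (.node (.node (.node (.node (.leaf 1300234294) (.leaf 52979046982)) (.node (.leaf 27262415879) (.leaf 0))) (.node (.node (.leaf 19807889094) (.leaf 0)) (.node (.leaf 34360606819) (.leaf 0)))) (.node (.node (.node (.leaf 11944652112) (.leaf 58996829399)) (.node (.leaf 30618916550) (.leaf 0))) (.node (.node (.leaf 23362778388) (.leaf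 0)) (.node (.leaf 45811692778) (.leaf 0))))) (.node (.node (.node (.node (.leaf 3104226304) (.leaf 54686414234)) (.node (.leaf 29064743492) (.leaf 0))) (.node (.node (.leaf 21596776663) (.leaf 0)) (.node (.leaf 44103522842) (.leaf 0)))) (.node (.node (.node (.leaf 17729838613) (.leaf 0)) (.node (.leaf 32813353557) (.leaf 0))) (.node (.node (.leaf 25440607283) (.leaf 0)) (.node (.leaf 48255106855) (.leaf 0)))))))) (.node (.node (.node (.node (.node (.node (.node (.leaf 259392976) (.leaf 51952503062)) (.node (.leaf 25900896496) (.leaf 0))) (.node (.node (.leaf 18728489244) (.leaf 0)) (.node (.leaf 33346191431) (.leaf 0)))) (.node (.node (.node (.leaf 3818913974) (.leaf 55374037478)) (.node (.leaf 29780908452) (.leaf 0))) (.node (.node (.leaf 22291134740) (.leaf 0)) (.node (.leaf 44669754394) (.leaf 0))))) (.node (.node (.node (.node (.leaf 1829765302) (.leaf 53615655703)) (.node (.leaf 27991383290) (.leaf 0))) (.node (.node (.leaf 20503656078) (.leaf 0)) (.node (.leaf 41587222805) (.leaf 0)))) (.node (.node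 (.node (.leaf 15611552480) (.leaf 62394209988)) (.node (.leaf 31132608260) (.leaf 0))) (.node (.node (.leaf 24143873781) (.leaf 0)) (.node (.leaf 46431295561) (.leaf 0)))))) (.node (.node (.node (.node (.node (.leaf 1128571810) (.leaf 52728345152)) (.node (.leaf 27058115818) (.leaf 0))) (.node (.node (.leaf 19618912370) (.leaf 0)) (.node (.leaf 34277784508) (.leaf 0)))) (.node (.node (.node (.leaf 10856209760) (.leaf 57927326759)) (.node (.leaf 30400133084) (.leaf 0))) (.node (.node (.leaf 23264122309) (.leaf 0)) (.node (.leaf 45527490330) (.leaf 0))))) (.node (.node (.node (.node (.leaf 2699091206) (.leaf 54489148004)) (.node (.leaf 28611209388) (.leaf 0))) (.node (.node (.leaf 21372403606) (.leaf 0)) (.node (.leaf 43817337627) (.leaf 0)))) (.node (.node (.node (.leaf 17562371838) (.leaf 0)) (.node (.leaf 32434950247) (.leaf 0))) (.node (.node (.leaf 25249983943) (.leaf 0)) (.node (.leaf 47346287874) (.leaf 0))))))) (.node (.node (.node (.node (.node (.node (.leaf 783468020) (.leaf 52304733648)) (.node (.leaf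 26279079706) (.leaf 0))) (.node (.node (.leaf 19055140484) (.leaf 0)) (.node (.leaf 33732973317) (.leaf 0)))) (.node (.node (.node (.leaf 4295938233) (.leaf 55776829844)) (.node (.leaf 30139742294) (.leaf 0))) (.node (.node (.leaf 22951540503) (.leaf 0)) (.node (.leaf 45126881769) (.leaf 0))))) (.node (.node (.node (.node (.leaf 2151709446) (.leaf 54048255180)) (.node (.leaf 28335949252) (.leaf 0))) (.node (.node (.leaf 21111012050) (.leaf 0)) (.node (.leaf 43430271561) (.leaf 0)))) (.node (.node (.node (.leaf 17235777751) (.leaf 64424661099)) (.node (.leaf 32145664422) (.leaf 0))) (.node (.node (.leaf 24440716820) (.leaf 0)) (.node (.leaf 46822102972) (.leaf 0)))))) (.node (.node (.node (.node (.node (.leaf 1474604450) (.leaf 53228663142)) (.node (.leaf 27398731271) (.leaf 0))) (.node (.node (.leaf 19962241077) (.leaf 0)) (.node (.leaf 39195639809) (.leaf 0)))) (.node (.node (.node (.leaf 12986090509) (.leaf 60047210428)) (.node (.leaf 30811021179) (.leaf 0))) (.node (.node (.leaf 23738101605) (.leaf 0))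 (.node (.leaf 45957037724) (.leaf 0))))) (.node (.node (.node (.node (.leaf 3560147365) (.leaf 54940036964)) (.node (.leaf 29151923383) (.leaf 0))) (.node (.node (.leaf 21820252517) (.leaf 0)) (.node (.leaf 44271288778) (.leaf 0)))) (.node (.node (.node (.leaf 18421742983) (.leaf 0)) (.node (.leaf 32982343911) (.leaf 0))) (.node (.node (.leaf 25589877477) (.leaf 0)) (.node (.leaf 49973525290) (.leaf 0))))))))) (.node (.node (.node (.node (.node (.node (.node (.node (.leaf 181800656) (.leaf 51468817114)) (.node (.leaf 25823301872) (.leaf 0))) (.node (.node (.leaf 18670989602) (.leaf 0)) (.node (.leaf 33281585533) (.leaf 0)))) (.node (.node (.node (.leaf 3797220290) (.leaf 55218690336)) (.node (.leaf 29706673671) (.leaf 0))) (.node (.node (.leaf 22027904452) (.leaf 0)) (.node (.leaf 44636203658) (.leaf 0))))) (.node (.node (.node (.node (.leaf 1731870444) (.leaf 53481416583)) (.node (.leaf 27648640604) (.leaf 0))) (.node (.node (.leaf 20472711782) (.leaf 0)) (.node (.leaf 41219903370) (.leaf 0)))) (.node (.node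 (.node (.leaf 14976851013) (.leaf 61763518860)) (.node (.leaf 31071881606) (.leaf 0))) (.node (.node (.leaf 24067262198) (.leaf 0)) (.node (.leaf 46347414633) (.leaf 0)))))) (.node (.node (.node (.node (.node (.leaf 1047193404) (.leaf 52694758240)) (.node (.leaf 27013203292) (.leaf 0))) (.node (.node (.leaf 19484954470) (.leaf 0)) (.node (.leaf 34147332183) (.leaf 0)))) (.node (.node (.node (.leaf 10206511119) (.leaf 56855641207)) (.node (.leaf 30375880634) (.leaf 0))) (.node (.node (.leaf 23118301686) (.leaf 0)) (.node (.leaf 45460375754) (.leaf 0))))) (.node (.node (.node (.node (.leaf 2640627698) (.leaf 54405254996)) (.node (.leaf 28548174330) (.leaf 0))) (.node (.node (.leaf 21316946020) (.leaf 0)) (.node (.leaf 43714895568) (.leaf 0)))) (.node (.node (.node (.leaf 17537730646) (.leaf 0)) (.node (.leaf 32341078908) (.leaf 0))) (.node (.node (.leaf 24942940340) (.leaf 0)) (.node (.leaf 47192655434) (.leaf 0))))))) (.node (.node (.node (.node (.node (.node (.leaf 690222101) (.leaf 52204035616)) (.node (.leaf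 26148674117) (.leaf 0))) (.node (.node (.leaf 18999050748) (.leaf 0)) (.node (.leaf 33689134102) (.leaf 0)))) (.node (.node (.node (.leaf 4295569454) (.leaf 55709685828)) (.node (.leaf 29962685098) (.leaf 0))) (.node (.node (.leaf 22806106106) (.leaf 0)) (.node (.leaf 45022754204) (.leaf 0))))) (.node (.node (.node (.node (.leaf 2045536122) (.leaf 53954238118)) (.node (.leaf 28211680412) (.leaf 0))) (.node (.node (.leaf 20970753702) (.leaf 0)) (.node (.leaf 43363168105) (.leaf 0)))) (.node (.node (.node (.leaf 17097381712) (.leaf 64149039356)) (.node (.leaf 32082000573) (.leaf 0))) (.node (.node (.leaf 24395819465) (.leaf 0)) (.node (.leaf 46788570492) (.leaf 0)))))) (.node (.node (.node (.node (.node (.leaf 1395291244) (.leaf 53046200550)) (.node (.leaf 27324644940) (.leaf 0))) (.node (.node (.leaf 19935972452) (.leaf 0)) (.node (.leaf 38772213518) (.leaf 0)))) (.node (.node (.node (.leaf 12352946191) (.leaf 59462433463)) (.node (.leaf 30750292701) (.leaf 0))) (.node (.node (.leaf 23715978390) (.leaf 0))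 (.node (.leaf 45895522650) (.leaf 0))))) (.node (.node (.node (.node (.leaf 3195242149) (.leaf 54789074068)) (.node (.leaf 29096581370) (.leaf 0))) (.node (.node (.leaf 21669121079) (.leaf 0)) (.node (.leaf 44137114874) (.leaf 0)))) (.node (.node (.node (.leaf 18276555804) (.leaf 0)) (.node (.leaf 32942971708) (.leaf 0))) (.node (.node (.leaf 25497523398) (.leaf 0)) (.node (.leaf 49339318199) (.leaf 0)))))))) (.node (.node (.node (.node (.node (.node (.node (.leaf 604383232) (.leaf 52019621622)) (.node (.leaf 25995268336) (.leaf 0))) (.node (.node (.leaf 18807642903) (.leaf 0)) (.node (.leaf 33419899450) (.leaf 0)))) (.node (.node (.node (.leaf 3949307779) (.leaf 55407587158)) (.node (.leaf 29873150548) (.leaf 0))) (.node (.node (.leaf 22684196550) (.leaf 0)) (.node (.leaf 44803985834) (.leaf 0))))) (.node (.node (.node (.node (.leaf 1959953428) (.leaf 53719393478)) (.node (.leaf 28022604247) (.leaf 0))) (.node (.node (.leaf 20558826084) (.leaf 0)) (.node (.leaf 42439393674) (.leaf 0)))) (.node (.node (.node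 (.leaf 16046378133) (.leaf 62894425364)) (.node (.leaf 31423091703) (.leaf 0))) (.node (.node (.leaf 24234932592) (.leaf 0)) (.node (.leaf 46503797675) (.leaf 0)))))) (.node (.node (.node (.node (.node (.leaf 1203420764) (.leaf 52862572512)) (.node (.leaf 27137437316) (.leaf 0))) (.node (.node (.leaf 19746154180) (.leaf 0)) (.node (.leaf 34317009221) (.leaf 0)))) (.node (.node (.node (.leaf 11503200080) (.leaf 58561344124)) (.node (.leaf 30529555685) (.leaf 0))) (.node (.node (.leaf 23337382535) (.leaf 0)) (.node (.leaf 45660671594) (.leaf 0))))) (.node (.node (.node (.node (.leaf 3041553788) (.leaf 54552215114)) (.node (.leaf 28704180951) (.leaf 0))) (.node (.node (.leaf 21514981175) (.leaf 0)) (.node (.leaf 43951571707) (.leaf 0)))) (.node (.node (.node (.leaf 17691751712) (.leaf 0)) (.node (.leaf 32786156644) (.leaf 0))) (.node (.node (.leaf 25377184794) (.leaf 0)) (.node (.leaf 47810525239) (.leaf 0))))))) (.node (.node (.node (.node (.node (.node (.leaf 894198394) (.leaf 52409735159)) (.node (.leaf 26306739024)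 (.leaf 0))) (.node (.node (.leaf 19400162452) (.leaf 0)) (.node (.leaf 33807484676) (.leaf 0)))) (.node (.node (.node (.leaf 8917410640) (.leaf 55935763459)) (.node (.leaf 30168039830) (.leaf 0))) (.node (.node (.leaf 22995621574) (.leaf 0)) (.node (.leaf 45277862985) (.leaf 0))))) (.node (.node (.node (.node (.leaf 2470808995) (.leaf 54115320092)) (.node (.leaf 28398224474) (.leaf 0))) (.node (.node (.leaf 21189965735) (.leaf 0)) (.node (.leaf 43530380656) (.leaf 0)))) (.node (.node (.node (.leaf 17312362295) (.leaf 64425267346)) (.node (.leaf 32204220164) (.leaf 0))) (.node (.node (.leaf 24789034185) (.leaf 0)) (.node (.leaf 46956307244) (.leaf 0)))))) (.node (.node (.node (.node (.node (.leaf 1565885347) (.leaf 53262163782)) (.node (.leaf 27527538164) (.leaf 0))) (.node (.node (.leaf 20024926182) (.leaf 0)) (.node (.leaf 40135688186) (.leaf 0)))) (.node (.node (.node (.leaf 13440667541) (.leaf 60483748884)) (.node (.leaf 30869395204) (.leaf 0))) (.node (.node (.leaf 23867930224) (.leaf 0)) (.node (.leaf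 46091236844) (.leaf 0))))) (.node (.node (.node (.node (.leaf 3588922668) (.leaf 55023917636)) (.node (.leaf 29259498304) (.leaf 0))) (.node (.node (.leaf 21843129712) (.leaf 0)) (.node (.leaf 44384784726) (.leaf 0)))) (.node (.node (.node (.leaf 18465842372) (.leaf 0)) (.node (.leaf 33155592507) (.leaf 0))) (.node (.node (.leaf 25653617696) (.leaf 0)) (.node (.leaf 50401558327) (.leaf 0)))))))))))) (.node (.node (.node (.node (.node (.node (.node (.node (.node (.node (.node (.leaf 20317728) (.leaf 50532393850)) (.node (.leaf 25659044166) (.leaf 0))) (.node (.node (.leaf 18509511714) (.leaf 0)) (.node (.leaf 33185812102) (.leaf 0)))) (.node (.node (.node (.leaf 3596374970) (.leaf 55066856871)) (.node (.leaf 29259528016) (.leaf 0))) (.node (.node (.leaf 21855139465) (.leaf 0)) (.node (.leaf 44394628924) (.leaf 0))))) (.node (.node (.node (.node (.leaf 1576009846) (.leaf 53309266912)) (.node (.leaf 27557239274) (.leaf 0))) (.node (.node (.leaf 20031770366) (.leaf 0)) (.node (.leaf 40253114506) (.leaf 0)))) (.node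 (.node (.node (.leaf 13625220181) (.leaf 60634737140)) (.node (.leaf 30895529221) (.leaf 0))) (.node (.node (.leaf 23907851687) (.leaf 0)) (.node (.leaf 46124214187) (.leaf 0)))))) (.node (.node (.node (.node (.node (.leaf 906371328) (.leaf 52470188973)) (.node (.leaf 26575154144) (.leaf 0))) (.node (.node (.leaf 19412430512) (.leaf 0)) (.node (.leaf 33820425259) (.leaf 0)))) (.node (.node (.node (.leaf 9085151120) (.leaf 56152805932)) (.node (.leaf 30177489238) (.leaf 0))) (.node (.node (.leaf 23023175850) (.leaf 0)) (.node (.leaf 45305173594) (.leaf 0))))) (.node (.node (.node (.node (.leaf 2478581402) (.leaf 54193170256)) (.node (.leaf 28438783221) (.leaf 0))) (.node (.node (.leaf 21200014076) (.leaf 0)) (.node (.leaf 43544724475) (.leaf 0)))) (.node (.node (.node (.leaf 17371042263) (.leaf 0)) (.node (.leaf 32249220965) (.leaf 0))) (.node (.node (.leaf 24795020358) (.leaf 0)) (.node (.leaf 47003112870) (.leaf 0))))))) (.node (.node (.node (.node (.node (.node (.leaf 611077082) (.leaf 52064293964)) (.node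 (.leaf 26110345724) (.leaf 0))) (.node (.node (.leaf 18816743458) (.leaf 0)) (.node (.leaf 33482408420) (.leaf 0)))) (.node (.node (.node (.leaf 3956963692) (.leaf 55456059946)) (.node (.leaf 29885927223) (.leaf 0))) (.node (.node (.leaf 22698944933) (.leaf 0)) (.node (.leaf 44869371184) (.leaf 0))))) (.node (.node (.node (.node (.leaf 1973046748) (.leaf 53831175836)) (.node (.leaf 28028194812) (.leaf 0))) (.node (.node (.leaf 20638535893) (.leaf 0)) (.node (.leaf 42623957754) (.leaf 0)))) (.node (.node (.node (.leaf 16169430368) (.leaf 62978297476)) (.node (.leaf 31423128231) (.leaf 0))) (.node (.node (.leaf 24248691814) (.leaf 0)) (.node (.leaf 46564897479) (.leaf 0)))))) (.node (.node (.node (.node (.node (.leaf 1266679926) (.leaf 52961137632)) (.node (.leaf 27144992263) (.leaf 0))) (.node (.node (.leaf 19774329990) (.leaf 0)) (.node (.leaf 34359951469) (.leaf 0)))) (.node (.node (.node (.leaf 11712633444) (.leaf 58712356668)) (.node (.leaf 30558027847) (.leaf 0))) (.node (.node (.leaf 23351816627) (.leaf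 0)) (.node (.leaf 45773121158) (.leaf 0))))) (.node (.node (.node (.node (.leaf 3053900032) (.leaf 54618063783)) (.node (.leaf 28722635744) (.leaf 0))) (.node (.node (.leaf 21529659959) (.leaf 0)) (.node (.leaf 43979387980) (.leaf 0)))) (.node (.node (.node (.leaf 17698303812) (.leaf 0)) (.node (.leaf 32796577765) (.leaf 0))) (.node (.node (.leaf 25407006755) (.leaf 0)) (.node (.leaf 47995084759) (.leaf 0)))))))) (.node (.node (.node (.node (.node (.node (.node (.leaf 209062192) (.leaf 51829442972)) (.node (.leaf 25833783424) (.leaf 0))) (.node (.node (.leaf 18694967292) (.leaf 0)) (.node (.leaf 33329385575) (.leaf 0)))) (.node (.node (.node (.leaf 3802136694) (.leaf 55251374839)) (.node (.leaf 29730559508) (.leaf 0))) (.node (.node (.leaf 22027940884) (.leaf 0)) (.node (.leaf 44652311104) (.leaf 0))))) (.node (.node (.node (.node (.leaf 1796210902) (.leaf 53543083632)) (.node (.leaf 27648893664) (.leaf 0))) (.node (.node (.leaf 20486820894) (.leaf 0)) (.node (.leaf 41337297066) (.leaf 0)))) (.node (.node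 (.node (.leaf 15093570880) (.leaf 61948078844)) (.node (.leaf 31082242564) (.leaf 0))) (.node (.node (.leaf 24093585029) (.leaf 0)) (.node (.leaf 46379230454) (.leaf 0)))))) (.node (.node (.node (.node (.node (.leaf 1111804914) (.leaf 52700441562)) (.node (.leaf 27024591194) (.leaf 0))) (.node (.node (.leaf 19565871221) (.leaf 0)) (.node (.leaf 34210698044) (.leaf 0)))) (.node (.node (.node (.leaf 10650446420) (.leaf 57186385928)) (.node (.leaf 30383353132) (.leaf 0))) (.node (.node (.leaf 23230564853) (.leaf 0)) (.node (.leaf 45473654652) (.leaf 0))))) (.node (.node (.node (.node (.leaf 2646605862) (.leaf 54432427718)) (.node (.leaf 28560912268) (.leaf 0))) (.node (.node (.leaf 21322042454) (.leaf 0)) (.node (.leaf 43794872732) (.leaf 0)))) (.node (.node (.node (.leaf 17545610414) (.leaf 0)) (.node (.leaf 32401432807) (.leaf 0))) (.node (.node (.leaf 24966016708) (.leaf 0)) (.node (.leaf 47238016758) (.leaf 0))))))) (.node (.node (.node (.node (.node (.node (.leaf 699573924) (.leaf 52267328858)) (.node (.leaf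 26195172090) (.leaf 0))) (.node (.node (.leaf 19004802212) (.leaf 0)) (.node (.leaf 33699415813) (.leaf 0)))) (.node (.node (.node (.leaf 4295610558) (.leaf 55740601932)) (.node (.leaf 30038334492) (.leaf 0))) (.node (.node (.leaf 22834068871) (.leaf 0)) (.node (.leaf 45053943472) (.leaf 0))))) (.node (.node (.node (.node (.leaf 2125666037) (.leaf 54025433920)) (.node (.leaf 28218531492) (.leaf 0))) (.node (.node (.leaf 21077438770) (.leaf 0)) (.node (.leaf 43391566922) (.leaf 0)))) (.node (.node (.node (.leaf 17219058727) (.leaf 64265963028)) (.node (.leaf 32112090822) (.leaf 0))) (.node (.node (.leaf 24400800869) (.leaf 0)) (.node (.leaf 46795641424) (.leaf 0)))))) (.node (.node (.node (.node (.node (.leaf 1407484690) (.leaf 53128902464)) (.node (.leaf 27365351146) (.leaf 0))) (.node (.node (.leaf 19945455733) (.leaf 0)) (.node (.leaf 38991996181) (.leaf 0)))) (.node (.node (.node (.leaf 12746780048) (.leaf 59579834839)) (.node (.leaf 30777420475) (.leaf 0))) (.node (.node (.leaf 23721343557) (.leaf 0))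 (.node (.leaf 45939686347) (.leaf 0))))) (.node (.node (.node (.node (.leaf 3230676742) (.leaf 54901139910)) (.node (.leaf 29101588775) (.leaf 0))) (.node (.node (.leaf 21698478391) (.leaf 0)) (.node (.leaf 44185961020) (.leaf 0)))) (.node (.node (.node (.leaf 18388169639) (.leaf 0)) (.node (.leaf 32948781127) (.leaf 0))) (.node (.node (.leaf 25573126469) (.leaf 0)) (.node (.leaf 49443976122) (.leaf 0))))))))) (.node (.node (.node (.node (.node (.node (.node (.node (.leaf 148243504) (.leaf 50994002999)) (.node (.leaf 25806528528) (.leaf 0))) (.node (.node (.leaf 18553518130) (.leaf 0)) (.node (.leaf 33231219757) (.leaf 0)))) (.node (.node (.node (.leaf 3724990976) (.leaf 55150768919)) (.node (.leaf 29673108487) (.leaf 0))) (.node (.node (.leaf 21982726230) (.leaf 0)) (.node (.leaf 44528849884) (.leaf 0))))) (.node (.node (.node (.node (.leaf 1664799820) (.leaf 53459183152)) (.node (.leaf 27598266012) (.leaf 0))) (.node (.node (.leaf 20134196613) (.leaf 0)) (.node (.leaf 40902522101) (.leaf 0)))) (.node (.node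 (.node (.leaf 14237368328) (.leaf 61492957644)) (.node (.leaf 31038336534) (.leaf 0))) (.node (.node (.leaf 24033750662) (.leaf 0)) (.node (.leaf 46312085014) (.leaf 0)))))) (.node (.node (.node (.node (.node (.leaf 963287852) (.leaf 52570866637)) (.node (.leaf 26979604892) (.leaf 0))) (.node (.node (.leaf 19434634390) (.leaf 0)) (.node (.leaf 34130534631) (.leaf 0)))) (.node (.node (.node (.leaf 9566177860) (.leaf 56575704247)) (.node (.leaf 30303263334) (.leaf 0))) (.node (.node (.leaf 23081670341) (.leaf 0)) (.node (.leaf 45440064988) (.leaf 0))))) (.node (.node (.node (.node (.leaf 2607026818) (.leaf 54365280678)) (.node (.leaf 28531383434) (.leaf 0))) (.node (.node (.leaf 21300158788) (.leaf 0)) (.node (.leaf 43678933675) (.leaf 0)))) (.node (.node (.node (.leaf 17520982678) (.leaf 0)) (.node (.leaf 32273934124) (.leaf 0))) (.node (.node (.leaf 24859082804) (.leaf 0)) (.node (.leaf 47154092310) (.leaf 0))))))) (.node (.node (.node (.node (.node (.node (.leaf 639864485) (.leaf 52133158634)) (.node (.leaf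 26131926165) (.leaf 0))) (.node (.node (.leaf 18965516204) (.leaf 0)) (.node (.leaf 33571686022) (.leaf 0)))) (.node (.node (.node (.leaf 4031806726) (.leaf 55589652972)) (.node (.leaf 29912357002) (.leaf 0))) (.node (.node (.leaf 22755801226) (.leaf 0)) (.node (.leaf 44953299312) (.leaf 0))))) (.node (.node (.node (.node (.leaf 1995236154) (.leaf 53898298860)) (.node (.leaf 28157706596) (.leaf 0))) (.node (.node (.leaf 20680530197) (.leaf 0)) (.node (.leaf 43240586986) (.leaf 0)))) (.node (.node (.node (.leaf 16629383573) (.leaf 63631327233)) (.node (.leaf 31964577661) (.leaf 0))) (.node (.node (.leaf 24311955081) (.leaf 0)) (.node (.leaf 46665506183) (.leaf 0)))))) (.node (.node (.node (.node (.node (.leaf 1378530908) (.leaf 52994646608)) (.node (.leaf 27291030940) (.leaf 0))) (.node (.node (.leaf 19847784439) (.leaf 0)) (.node (.leaf 34360627283) (.leaf 0)))) (.node (.node (.node (.leaf 12103751780) (.leaf 59119205692)) (.node (.leaf 30632849197) (.leaf 0))) (.node (.node (.leaf 23699238758) (.leaf 0))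 (.node (.leaf 45840225302) (.leaf 0))))) (.node (.node (.node (.node (.leaf 3111371973) (.leaf 54718743239)) (.node (.leaf 29079781802) (.leaf 0))) (.node (.node (.leaf 21602027559) (.leaf 0)) (.node (.leaf 44118895484) (.leaf 0)))) (.node (.node (.node (.leaf 17994055301) (.leaf 0)) (.node (.leaf 32875815724) (.leaf 0))) (.node (.node (.leaf 25447187958) (.leaf 0)) (.node (.leaf 48593240079) (.leaf 0)))))))) (.node (.node (.node (.node (.node (.node (.node (.leaf 274735878) (.leaf 51980465772)) (.node (.leaf 25961709696) (.leaf 0))) (.node (.node (.leaf 18774079431) (.leaf 0)) (.node (.leaf 33352833914) (.leaf 0)))) (.node (.node (.node (.leaf 3882220307) (.leaf 55388949434)) (.node (.leaf 29792933532) (.leaf 0))) (.node (.node (.leaf 22566758822) (.leaf 0)) (.node (.leaf 44719437792) (.leaf 0))))) (.node (.node (.node (.node (.leaf 1838421890) (.leaf 53643724208)) (.node (.leaf 28005830519) (.leaf 0))) (.node (.node (.leaf 20508506260) (.leaf 0)) (.node (.leaf 41971000341) (.leaf 0)))) (.node (.node (.node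 (.leaf 15762581344) (.leaf 62577222140)) (.node (.leaf 31147317239) (.leaf 0))) (.node (.node (.leaf 24157736874) (.leaf 0)) (.node (.leaf 46480983831) (.leaf 0)))))) (.node (.node (.node (.node (.node (.leaf 1136272540) (.leaf 52767507130)) (.node (.leaf 27104081159) (.leaf 0))) (.node (.node (.leaf 19628705188) (.leaf 0)) (.node (.leaf 34283457621) (.leaf 0)))) (.node (.node (.node (.leaf 11016011791) (.leaf 58043391276)) (.node (.leaf 30462445653) (.leaf 0))) (.node (.node (.leaf 23287094183) (.leaf 0)) (.node (.leaf 45607830332) (.leaf 0))))) (.node (.node (.node (.node (.leaf 3024786220) (.leaf 54534188423)) (.node (.leaf 28620295287) (.leaf 0))) (.node (.node (.leaf 21452618126) (.leaf 0)) (.node (.leaf 43878721132) (.leaf 0)))) (.node (.node (.node (.leaf 17607849680) (.leaf 0)) (.node (.leaf 32493683591) (.leaf 0))) (.node (.node (.leaf 25259801226) (.leaf 0)) (.node (.leaf 47555492794) (.leaf 0))))))) (.node (.node (.node (.node (.node (.node (.leaf 877435690) (.leaf 52386308749)) (.node (.leaf 26288111940)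 (.leaf 0))) (.node (.node (.leaf 19075135109) (.leaf 0)) (.node (.leaf 33757192708) (.leaf 0)))) (.node (.node (.node (.leaf 8674805259) (.leaf 55824516252)) (.node (.leaf 30151258086) (.leaf 0))) (.node (.node (.leaf 22962065142) (.leaf 0)) (.node (.leaf 45238121962) (.leaf 0))))) (.node (.node (.node (.node (.leaf 2454000371) (.leaf 54058971792)) (.node (.leaf 28364687722) (.leaf 0))) (.node (.node (.leaf 21139673623) (.leaf 0)) (.node (.leaf 43475446170) (.leaf 0)))) (.node (.node (.node (.leaf 17245243511) (.leaf 64424697931)) (.node (.leaf 32153899524) (.leaf 0))) (.node (.node (.leaf 24772249081) (.leaf 0)) (.node (.leaf 46862710592) (.leaf 0)))))) (.node (.node (.node (.node (.node (.leaf 1532360467) (.leaf 53242150208)) (.node (.leaf 27410062868) (.leaf 0))) (.node (.node (.leaf 19974638694) (.leaf 0)) (.node (.leaf 39868272586) (.leaf 0)))) (.node (.node (.node (.leaf 13202985536) (.leaf 60179939849)) (.node (.leaf 30819045892) (.leaf 0))) (.node (.node (.leaf 23784027312) (.leaf 0)) (.node (.leaf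 46023560699) (.leaf 0))))) (.node (.node (.node (.node (.leaf 3572126652) (.leaf 54968229510)) (.node (.leaf 29231487045) (.leaf 0))) (.node (.node (.leaf 21826316576) (.leaf 0)) (.node (.leaf 44361096636) (.leaf 0)))) (.node (.node (.node (.leaf 18432285060) (.leaf 0)) (.node (.leaf 33038149819) (.leaf 0))) (.node (.node (.leaf 25603325552) (.leaf 0)) (.node (.leaf 50124497530) (.leaf 0)))))))))) (.node (.node (.node (.node (.node (.node (.node (.node (.node (.leaf 136709152) (.leaf 50759104551)) (.node (.leaf 25740889173) (.leaf 0))) (.node (.node (.leaf 18539182983) (.leaf 0)) (.node (.leaf 33198271748) (.leaf 0)))) (.node (.node (.node (.leaf 3644003573) (.leaf 55083648967)) (.node (.leaf 29558080748) (.leaf 0))) (.node (.node (.leaf 21904148565) (.leaf 0)) (.node (.leaf 44445000316) (.leaf 0))))) (.node (.node (.node (.node (.leaf 1653902098) (.leaf 53393127312)) (.node (.leaf 27583260935) (.leaf 0))) (.node (.node (.leaf 20113256485) (.leaf 0)) (.node (.leaf 40473299658) (.leaf 0)))) (.node (.node (.node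 (.leaf 13871634517) (.leaf 61343051772)) (.node (.leaf 31012432429) (.leaf 0))) (.node (.node (.leaf 23922846410) (.leaf 0)) (.node (.leaf 46194648454) (.leaf 0)))))) (.node (.node (.node (.node (.node (.leaf 919805685) (.leaf 52537268221)) (.node (.leaf 26869224967) (.leaf 0))) (.node (.node (.leaf 19420447998) (.leaf 0)) (.node (.leaf 33833785287) (.leaf 0)))) (.node (.node (.node (.leaf 9339686724) (.leaf 56337331004)) (.node (.leaf 30223609062) (.leaf 0))) (.node (.node (.leaf 23068943047) (.leaf 0)) (.node (.leaf 45355551050) (.leaf 0))))) (.node (.node (.node (.node (.leaf 2541387372) (.leaf 54247843062)) (.node (.leaf 28453431796) (.leaf 0))) (.node (.node (.leaf 21284816382) (.leaf 0)) (.node (.leaf 43611848139) (.leaf 0)))) (.node (.node (.node (.leaf 17403587127) (.leaf 0)) (.node (.leaf 32264367034) (.leaf 0))) (.node (.node (.leaf 24809561648) (.leaf 0)) (.node (.leaf 47120533190) (.leaf 0))))))) (.node (.node (.node (.node (.node (.node (.leaf 626715964) (.leaf 52116355482)) (.node (.leaf 26120354532)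 (.leaf 0))) (.node (.node (.leaf 18933409046) (.leaf 0)) (.node (.leaf 33513992279) (.leaf 0)))) (.node (.node (.node (.leaf 3986686166) (.leaf 55539950394)) (.node (.leaf 29901556373) (.leaf 0))) (.node (.node (.leaf 22725818547) (.leaf 0)) (.node (.leaf 44886156832) (.leaf 0))))) (.node (.node (.node (.node (.leaf 1980133632) (.leaf 53864736348)) (.node (.leaf 28075289114) (.leaf 0))) (.node (.node (.leaf 20680486645) (.leaf 0)) (.node (.leaf 42790950565) (.leaf 0)))) (.node (.node (.node (.leaf 16394514405) (.leaf 63445931204)) (.node (.leaf 31676863175) (.leaf 0))) (.node (.node (.leaf 24263508004) (.leaf 0)) (.node (.leaf 46631986087) (.leaf 0)))))) (.node (.node (.node (.node (.node (.leaf 1296336658) (.leaf 52977876320)) (.node (.leaf 27259129365) (.leaf 0))) (.node (.node (.leaf 19803422514) (.leaf 0)) (.node (.leaf 34359992557) (.leaf 0)))) (.node (.node (.node (.leaf 11877507984) (.leaf 58963277943)) (.node (.leaf 30567944764) (.leaf 0))) (.node (.node (.leaf 23362762484) (.leaf 0)) (.node (.leaf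 45806709238) (.leaf 0))))) (.node (.node (.node (.node (.leaf 3063714602) (.leaf 54685146103)) (.node (.leaf 29063761893) (.leaf 0))) (.node (.node (.leaf 21540174455) (.leaf 0)) (.node (.leaf 44102085932) (.leaf 0)))) (.node (.node (.node (.leaf 17729828037) (.leaf 0)) (.node (.leaf 32810695642) (.leaf 0))) (.node (.node (.leaf 25434569495) (.leaf 0)) (.node (.leaf 48221575895) (.leaf 0)))))))) (.node (.node (.node (.node (.node (.node (.node (.leaf 255198512) (.leaf 51946901228)) (.node (.leaf 25898795136) (.leaf 0))) (.node (.node (.leaf 18724742678) (.leaf 0)) (.node (.leaf 33338690149) (.leaf 0)))) (.node (.node (.node (.leaf 3816568554) (.leaf 55372213722)) (.node (.leaf 29745661034) (.leaf 0))) (.node (.node (.leaf 22291119860) (.leaf 0)) (.node (.leaf 44669084512) (.leaf 0))))) (.node (.node (.node (.node (.leaf 1810175987) (.leaf 53610211792)) (.node (.leaf 27989944980) (.leaf 0))) (.node (.node (.leaf 20500897392) (.leaf 0)) (.node (.leaf 41503358709) (.leaf 0)))) (.node (.node (.node (.leaf 15306915848)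 (.leaf 62377460868)) (.node (.leaf 31130411525) (.leaf 0))) (.node (.node (.leaf 24142705399) (.leaf 0)) (.node (.leaf 46429523654) (.leaf 0)))))) (.node (.node (.node (.node (.node (.leaf 1128060490) (.leaf 52717180714)) (.node (.leaf 27055638212) (.leaf 0))) (.node (.node (.leaf 19612908455) (.leaf 0)) (.node (.leaf 34222101114) (.leaf 0)))) (.node (.node (.node (.leaf 10789082080) (.leaf 57893726423)) (.node (.leaf 30397499476) (.leaf 0))) (.node (.node (.leaf 23260164490) (.leaf 0)) (.node (.leaf 45523952172) (.leaf 0))))) (.node (.node (.node (.node (.leaf 2699080454) (.leaf 54482716182)) (.node (.leaf 28609617748) (.leaf 0))) (.node (.node (.leaf 21370164848) (.leaf 0)) (.node (.leaf 43811634924) (.leaf 0)))) (.node (.node (.node (.leaf 17560965333) (.leaf 0)) (.node (.leaf 32433766741) (.leaf 0))) (.node (.node (.leaf 24966060452) (.leaf 0)) (.node (.leaf 47329510914) (.leaf 0))))))) (.node (.node (.node (.node (.node (.node (.leaf 778890554) (.leaf 52300919882)) (.node (.leaf 26278161548) (.leaf 0)))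 (.node (.node (.leaf 19051592754) (.leaf 0)) (.node (.leaf 33725143101) (.leaf 0)))) (.node (.node (.node (.leaf 4295930073) (.leaf 55774213484)) (.node (.leaf 30135535766) (.leaf 0))) (.node (.node (.leaf 22846825605) (.leaf 0)) (.node (.leaf 45120663194) (.leaf 0))))) (.node (.node (.node (.node (.leaf 2151693574) (.leaf 54042222048)) (.node (.leaf 28332995591) (.leaf 0))) (.node (.node (.leaf 21107218932) (.leaf 0)) (.node (.leaf 43425105514) (.leaf 0)))) (.node (.node (.node (.leaf 17234765879) (.leaf 64424657131)) (.node (.leaf 32127640325) (.leaf 0))) (.node (.node (.leaf 24440698356) (.leaf 0)) (.node (.leaf 46812394464) (.leaf 0)))))) (.node (.node (.node (.node (.node (.leaf 1474091338) (.leaf 53225333584)) (.node (.leaf 27379840263) (.leaf 0))) (.node (.node (.leaf 19958759120) (.leaf 0)) (.node (.leaf 39159761349) (.leaf 0)))) (.node (.node (.node (.leaf 12969314573) (.leaf 59980086076)) (.node (.leaf 30803454230) (.leaf 0))) (.node (.node (.leaf 23736264393) (.leaf 0)) (.node (.leaf 45956404107)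 (.leaf 0))))) (.node (.node (.node (.node (.leaf 3557177344) (.leaf 54934652182)) (.node (.leaf 29148614500) (.leaf 0))) (.node (.node (.leaf 21814968134) (.leaf 0)) (.node (.leaf 44269867964) (.leaf 0)))) (.node (.node (.node (.leaf 18400712182) (.leaf 0)) (.node (.leaf 32981123477) (.leaf 0))) (.node (.node (.leaf 25587859492) (.leaf 0)) (.node (.leaf 49670127631) (.leaf 0))))))))) (.node (.node (.node (.node (.node (.node (.node (.node (.leaf 179703344) (.leaf 51401665914)) (.node (.leaf 25822257168) (.leaf 0))) (.node (.node (.leaf 18665104916) (.leaf 0)) (.node (.leaf 33273076859) (.leaf 0)))) (.node (.node (.node (.leaf 3739895772) (.leaf 55217859463)) (.node (.leaf 29704414965) (.leaf 0))) (.node (.node (.leaf 21994108592) (.leaf 0)) (.node (.leaf 44635577168) (.leaf 0))))) (.node (.node (.node (.node (.leaf 1730947482) (.leaf 53475955744)) (.node (.leaf 27644946820) (.leaf 0))) (.node (.node (.leaf 20470808757) (.leaf 0)) (.node (.leaf 41102442954) (.leaf 0)))) (.node (.node (.node (.leaf 14943275157)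 (.leaf 61727897772)) (.node (.leaf 31050095227) (.leaf 0))) (.node (.node (.leaf 24062777395) (.leaf 0)) (.node (.leaf 46345656742) (.leaf 0)))))) (.node (.node (.node (.node (.node (.leaf 1045192122) (.leaf 52683631930)) (.node (.leaf 26993843877) (.leaf 0))) (.node (.node (.leaf 19484027460) (.leaf 0)) (.node (.leaf 34144061540) (.leaf 0)))) (.node (.node (.node (.leaf 9939124239) (.leaf 56822118583)) (.node (.leaf 30373494935) (.leaf 0))) (.node (.node (.leaf 23116963635) (.leaf 0)) (.node (.leaf 45456858044) (.leaf 0))))) (.node (.node (.node (.node (.leaf 2638607123) (.leaf 54398850438)) (.node (.leaf 28544707669) (.leaf 0))) (.node (.node (.leaf 21314895989) (.leaf 0)) (.node (.leaf 43712452491) (.leaf 0)))) (.node (.node (.node (.leaf 17530494180) (.leaf 0)) (.node (.leaf 32337366884) (.leaf 0))) (.node (.node (.leaf 24940050825) (.leaf 0)) (.node (.leaf 47187649670) (.leaf 0))))))) (.node (.node (.node (.node (.node (.node (.leaf 688315392) (.leaf 52200224362)) (.node (.leaf 26145653111) (.leaf 0)))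 (.node (.node (.leaf 18992149159) (.leaf 0)) (.node (.leaf 33585527003) (.leaf 0)))) (.node (.node (.node (.leaf 4295565374) (.leaf 55707086428)) (.node (.leaf 29957095396) (.leaf 0))) (.node (.node (.leaf 22801630454) (.leaf 0)) (.node (.leaf 45020370128) (.leaf 0))))) (.node (.node (.node (.node (.leaf 2043811460) (.leaf 53948642412)) (.node (.leaf 28203899301) (.leaf 0))) (.node (.node (.leaf 20965149868) (.leaf 0)) (.node (.leaf 43357967706) (.leaf 0)))) (.node (.node (.node (.leaf 17030310752) (.leaf 64098699916)) (.node (.leaf 32080798139) (.leaf 0))) (.node (.node (.leaf 24318784720) (.leaf 0)) (.node (.leaf 46778858384) (.leaf 0)))))) (.node (.node (.node (.node (.node (.leaf 1391460534) (.leaf 53045001104)) (.node (.leaf 27322017524) (.leaf 0))) (.node (.node (.leaf 19863609076) (.leaf 0)) (.node (.leaf 38705103374) (.leaf 0)))) (.node (.node (.node (.leaf 12338654292) (.leaf 59344961399)) (.node (.leaf 30748743429) (.leaf 0))) (.node (.node (.leaf 23714009268) (.leaf 0)) (.node (.leaf 45890576038)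 (.leaf 0))))) (.node (.node (.node (.node (.leaf 3192543164) (.leaf 54783661222)) (.node (.leaf 29090401020) (.leaf 0))) (.node (.node (.leaf 21665983703) (.leaf 0)) (.node (.leaf 44135634908) (.leaf 0)))) (.node (.node (.node (.leaf 18274613458) (.leaf 0)) (.node (.leaf 32937148820) (.leaf 0))) (.node (.node (.leaf 25494663114) (.leaf 0)) (.node (.leaf 49305795127) (.leaf 0)))))))) (.node (.node (.node (.node (.node (.node (.node (.leaf 274782982) (.leaf 52013999452)) (.node (.leaf 25991069824) (.leaf 0))) (.node (.node (.leaf 18788396210) (.leaf 0)) (.node (.leaf 33416885212) (.leaf 0)))) (.node (.node (.node (.leaf 3948184082) (.leaf 55405746042)) (.node (.leaf 29870547372) (.leaf 0))) (.node (.node (.leaf 22683113383) (.leaf 0)) (.node (.leaf 44803341712) (.leaf 0))))) (.node (.node (.node (.node (.leaf 1957939653) (.leaf 53713705292)) (.node (.leaf 28016188485) (.leaf 0))) (.node (.node (.leaf 20556582742) (.leaf 0)) (.node (.leaf 42156818433) (.leaf 0)))) (.node (.node (.node (.leaf 16012830949) (.leaf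 62812112924)) (.node (.leaf 31423088519) (.leaf 0))) (.node (.node (.leaf 24232989077) (.leaf 0)) (.node (.leaf 46497778679) (.leaf 0)))))) (.node (.node (.node (.node (.node (.leaf 1200999363) (.leaf 52851413882)) (.node (.leaf 27130496346) (.leaf 0))) (.node (.node (.leaf 19745654956) (.leaf 0)) (.node (.leaf 34315092119) (.leaf 0)))) (.node (.node (.node (.leaf 11469611664) (.leaf 58255933448)) (.node (.leaf 30526911274) (.leaf 0))) (.node (.node (.leaf 23302854086) (.leaf 0)) (.node (.leaf 45655672262) (.leaf 0))))) (.node (.node (.node (.node (.leaf 3038969540) (.leaf 54550984471)) (.node (.leaf 28699152298) (.leaf 0))) (.node (.node (.leaf 21513948967) (.leaf 0)) (.node (.leaf 43945874780) (.leaf 0)))) (.node (.node (.node (.leaf 17688740198) (.leaf 0)) (.node (.leaf 32493725607) (.leaf 0))) (.node (.node (.leaf 25375992197) (.leaf 0)) (.node (.leaf 47740036986) (.leaf 0))))))) (.node (.node (.node (.node (.node (.node (.leaf 892477060) (.leaf 52403109149)) (.node (.leaf 26306727312) (.leaf 0))) (.node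 (.node (.leaf 19398107189) (.leaf 0)) (.node (.leaf 33806587334) (.leaf 0)))) (.node (.node (.node (.leaf 8900598752) (.leaf 55918987523)) (.node (.leaf 30162800534) (.leaf 0))) (.node (.node (.leaf 22990043347) (.leaf 0)) (.node (.leaf 45271647338) (.leaf 0))))) (.node (.node (.node (.node (.leaf 2462056662) (.leaf 54109289312)) (.node (.leaf 28396277340) (.leaf 0))) (.node (.node (.leaf 21155305094) (.leaf 0)) (.node (.leaf 43527932699) (.leaf 0)))) (.node (.node (.node (.leaf 17307139879) (.leaf 64425254994)) (.node (.leaf 32199422429) (.leaf 0))) (.node (.node (.leaf 24785627749) (.leaf 0)) (.node (.leaf 46946594144) (.leaf 0)))))) (.node (.node (.node (.node (.node (.leaf 1563047404) (.leaf 53258891872)) (.node (.leaf 27525476085) (.leaf 0))) (.node (.node (.leaf 20019841620) (.leaf 0)) (.node (.leaf 40018223386) (.leaf 0)))) (.node (.node (.node (.leaf 13387555680) (.leaf 60466927044)) (.node (.leaf 30867771709) (.leaf 0))) (.node (.node (.leaf 23867001062) (.leaf 0)) (.node (.leaf 46090650139) (.leaf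 0))))) (.node (.node (.node (.node (.leaf 3581071092) (.leaf 55018546934)) (.node (.leaf 29259471712) (.leaf 0))) (.node (.node (.leaf 21841281076) (.leaf 0)) (.node (.leaf 44377860908) (.leaf 0)))) (.node (.node (.node (.leaf 18461147564) (.leaf 0)) (.node (.leaf 33153111813) (.leaf 0))) (.node (.node (.leaf 25618421273) (.leaf 0)) (.node (.leaf 50367986215) (.leaf 0))))))))))) (.node (.node (.node (.node (.node (.node (.node (.node (.node (.node (.leaf 28706512) (.leaf 50666615482)) (.node (.leaf 25737549360) (.leaf 0))) (.node (.node (.leaf 18516209172) (.leaf 0)) (.node (.leaf 33189165787) (.leaf 0)))) (.node (.node (.node (.leaf 3605717564) (.leaf 55068121578)) (.node (.leaf 29553453509) (.leaf 0))) (.node (.node (.leaf 21859876560) (.leaf 0)) (.node (.leaf 44404888400) (.leaf 0))))) (.node (.node (.node (.node (.leaf 1647097178) (.leaf 53317394892)) (.node (.leaf 27561051332) (.leaf 0))) (.node (.node (.leaf 20108865942) (.leaf 0)) (.node (.leaf 40406163370) (.leaf 0)))) (.node (.node (.node (.leaf 13720657733)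 (.leaf 60937535489)) (.node (.leaf 30899058747) (.leaf 0))) (.node (.node (.leaf 23911743443) (.leaf 0)) (.node (.leaf 46126616112) (.leaf 0)))))) (.node (.node (.node (.node (.node (.leaf 910967770) (.leaf 52477718064)) (.node (.leaf 26575172432) (.leaf 0))) (.node (.node (.leaf 19416908116) (.leaf 0)) (.node (.leaf 33833767671) (.leaf 0)))) (.node (.node (.node (.leaf 9272594788) (.leaf 56236686268)) (.node (.leaf 30218329190) (.leaf 0))) (.node (.node (.leaf 23029179814) (.leaf 0)) (.node (.leaf 45314861205) (.leaf 0))))) (.node (.node (.node (.node (.leaf 2537925507) (.leaf 54201959354)) (.node (.leaf 28448566858) (.leaf 0))) (.node (.node (.leaf 21281312981) (.leaf 0)) (.node (.leaf 43549166359) (.leaf 0)))) (.node (.node (.node (.leaf 17379475895) (.leaf 0)) (.node (.leaf 32253480084) (.leaf 0))) (.node (.node (.leaf 24805820073) (.leaf 0)) (.node (.leaf 47009063273) (.leaf 0))))))) (.node (.node (.node (.node (.node (.node (.leaf 621199104) (.leaf 52072573038)) (.node (.leaf 26112100567) (.leaf 0)))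 (.node (.node (.leaf 18925036535) (.leaf 0)) (.node (.leaf 33487004602) (.leaf 0)))) (.node (.node (.node (.leaf 3982824435) (.leaf 55461700092)) (.node (.leaf 29889972292) (.leaf 0))) (.node (.node (.leaf 22717765142) (.leaf 0)) (.node (.leaf 44876679159) (.leaf 0))))) (.node (.node (.node (.node (.leaf 1976741540) (.leaf 53837973588)) (.node (.leaf 28072938551) (.leaf 0))) (.node (.node (.leaf 20642697044) (.leaf 0)) (.node (.leaf 42757453301) (.leaf 0)))) (.node (.node (.node (.leaf 16303626048) (.leaf 63096553473)) (.node (.leaf 31676849143) (.leaf 0))) (.node (.node (.leaf 24251716912) (.leaf 0)) (.node (.leaf 46571501212) (.leaf 0)))))) (.node (.node (.node (.node (.node (.leaf 1270495724) (.leaf 52962565498)) (.node (.leaf 27254871316) (.leaf 0))) (.node (.node (.leaf 19779741972) (.leaf 0)) (.node (.leaf 34359959629) (.leaf 0)))) (.node (.node (.node (.leaf 11796499524) (.leaf 58812301111)) (.node (.leaf 30563107173) (.leaf 0))) (.node (.node (.leaf 23362742724) (.leaf 0)) (.node (.leaf 45781437525)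 (.leaf 0))))) (.node (.node (.node (.node (.leaf 3058320092) (.leaf 54621838333)) (.node (.leaf 28722655824) (.leaf 0))) (.node (.node (.leaf 21531773479) (.leaf 0)) (.node (.leaf 43988577824) (.leaf 0)))) (.node (.node (.node (.leaf 17729795749) (.leaf 0)) (.node (.leaf 32802932804) (.leaf 0))) (.node (.node (.leaf 25410781610) (.leaf 0)) (.node (.leaf 48070539447) (.leaf 0)))))))) (.node (.node (.node (.node (.node (.node (.node (.leaf 215353632) (.leaf 51837686094)) (.node (.leaf 25890427072) (.leaf 0))) (.node (.node (.leaf 18704554610) (.leaf 0)) (.node (.leaf 33333018044) (.leaf 0)))) (.node (.node (.node (.leaf 3813938050) (.leaf 55252645018)) (.node (.leaf 29740202247) (.leaf 0))) (.node (.node (.leaf 22291097284) (.leaf 0)) (.node (.leaf 44657443174) (.leaf 0))))) (.node (.node (.node (.node (.leaf 1798973852) (.leaf 53550806682)) (.node (.leaf 27648916816) (.leaf 0))) (.node (.node (.leaf 20489500822) (.leaf 0)) (.node (.leaf 41436234885) (.leaf 0)))) (.node (.node (.node (.leaf 15227766672) (.leaf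 62016520193)) (.node (.leaf 31122216438) (.leaf 0))) (.node (.node (.leaf 24100836630) (.leaf 0)) (.node (.leaf 46383323205) (.leaf 0)))))) (.node (.node (.node (.node (.node (.leaf 1117123091) (.leaf 52713802470)) (.node (.leaf 27046743788) (.leaf 0))) (.node (.node (.leaf 19568820566) (.leaf 0)) (.node (.leaf 34214412359) (.leaf 0)))) (.node (.node (.node (.leaf 10734312548) (.leaf 57742770103)) (.node (.leaf 30392662842) (.leaf 0))) (.node (.node (.leaf 23235751590) (.leaf 0)) (.node (.leaf 45482690630) (.leaf 0))))) (.node (.node (.node (.node (.leaf 2699049734) (.leaf 54441306734)) (.node (.leaf 28564973594) (.leaf 0))) (.node (.node (.leaf 21367233252) (.leaf 0)) (.node (.leaf 43804022224) (.leaf 0)))) (.node (.node (.node (.leaf 17554480358) (.leaf 0)) (.node (.leaf 32408157148) (.leaf 0))) (.node (.node (.leaf 24966034676) (.leaf 0)) (.node (.leaf 47243937881) (.leaf 0))))))) (.node (.node (.node (.node (.node (.node (.leaf 774088325) (.leaf 52275152813)) (.node (.leaf 26199040341) (.leaf 0))) (.node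 (.node (.leaf 19049392844) (.leaf 0)) (.node (.leaf 33722724006) (.leaf 0)))) (.node (.node (.node (.leaf 4295897129) (.leaf 55744687214)) (.node (.leaf 30046593018) (.leaf 0))) (.node (.node (.leaf 22839066547) (.leaf 0)) (.node (.leaf 45061213463) (.leaf 0))))) (.node (.node (.node (.node (.leaf 2129415642) (.leaf 54034193706)) (.node (.leaf 28329150956) (.leaf 0))) (.node (.node (.leaf 21088200134) (.leaf 0)) (.node (.leaf 43401243014) (.leaf 0)))) (.node (.node (.node (.leaf 17223224439) (.leaf 64400193956)) (.node (.leaf 32115533869) (.leaf 0))) (.node (.node (.leaf 24440677572) (.leaf 0)) (.node (.leaf 46807804042) (.leaf 0)))))) (.node (.node (.node (.node (.node (.leaf 1462382236) (.leaf 53130318634)) (.node (.leaf 27374946028) (.leaf 0))) (.node (.node (.leaf 19952759188) (.leaf 0)) (.node (.leaf 39025571573) (.leaf 0)))) (.node (.node (.node (.leaf 12847437792) (.leaf 59896177372)) (.node (.leaf 30783862973) (.leaf 0))) (.node (.node (.leaf 23732812358) (.leaf 0)) (.node (.leaf 45942072608) (.leaf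 0))))) (.node (.node (.node (.node (.leaf 3230710534) (.leaf 54910131788)) (.node (.leaf 29146897034) (.leaf 0))) (.node (.node (.leaf 21702681047) (.leaf 0)) (.node (.leaf 44188882768) (.leaf 0)))) (.node (.node (.node (.leaf 18394024188) (.leaf 0)) (.node (.leaf 32976483036) (.leaf 0))) (.node (.node (.leaf 25584924041) (.leaf 0)) (.node (.leaf 49578226234) (.leaf 0))))))))) (.node (.node (.node (.node (.node (.node (.node (.node (.leaf 171314864) (.leaf 51317816122)) (.node (.leaf 25814913264) (.leaf 0))) (.node (.node (.leaf 18657596806) (.leaf 0)) (.node (.leaf 33269703958) (.leaf 0)))) (.node (.node (.node (.leaf 3730611498) (.leaf 55151998538)) (.node (.leaf 29678536282) (.leaf 0))) (.node (.node (.leaf 21989329401) (.leaf 0)) (.node (.leaf 44539067712) (.leaf 0))))) (.node (.node (.node (.node (.leaf 1676016915) (.leaf 53466900826)) (.node (.leaf 27641155162) (.leaf 0))) (.node (.node (.leaf 20134221333) (.leaf 0)) (.node (.leaf 40969604805) (.leaf 0)))) (.node (.node (.node (.leaf 14792286037) (.leaf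 61643992316)) (.node (.leaf 31046517509) (.leaf 0))) (.node (.node (.leaf 24058835735) (.leaf 0)) (.node (.leaf 46316219493) (.leaf 0)))))) (.node (.node (.node (.node (.node (.leaf 1040628224) (.leaf 52578374944)) (.node (.leaf 26988549540) (.leaf 0))) (.node (.node (.leaf 19479574048) (.leaf 0)) (.node (.leaf 34138175290) (.leaf 0)))) (.node (.node (.node (.leaf 9650072724) (.leaf 56671133479)) (.node (.leaf 30311680582) (.leaf 0))) (.node (.node (.leaf 23109143290) (.leaf 0)) (.node (.leaf 45449120870) (.leaf 0))))) (.node (.node (.node (.node (.leaf 2612802794) (.leaf 54374190942)) (.node (.leaf 28542544020) (.leaf 0))) (.node (.node (.leaf 21303049760) (.leaf 0)) (.node (.leaf 43683398647) (.leaf 0)))) (.node (.node (.node (.leaf 17527468069) (.leaf 0)) (.node (.leaf 32333105381) (.leaf 0))) (.node (.node (.leaf 24862097894) (.leaf 0)) (.node (.leaf 47160073449) (.leaf 0))))))) (.node (.node (.node (.node (.node (.node (.leaf 644637562) (.leaf 52140908029)) (.node (.leaf 26143911852) (.leaf 0))) (.node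 (.node (.leaf 18967702194) (.leaf 0)) (.node (.leaf 33574109149) (.leaf 0)))) (.node (.node (.node (.leaf 4031829766) (.leaf 55593722270)) (.node (.leaf 29953035479) (.leaf 0))) (.node (.node (.leaf 22766051013) (.leaf 0)) (.node (.leaf 44960518791) (.leaf 0))))) (.node (.node (.node (.node (.leaf 2040159164) (.leaf 53905088868)) (.node (.leaf 28162415820) (.leaf 0))) (.node (.node (.leaf 20956210628) (.leaf 0)) (.node (.leaf 43250279926) (.leaf 0)))) (.node (.node (.node (.leaf 16946381456) (.leaf 64031563724)) (.node (.leaf 31976606981) (.leaf 0))) (.node (.node (.leaf 24315761046) (.leaf 0)) (.node (.leaf 46672147692) (.leaf 0)))))) (.node (.node (.node (.node (.node (.leaf 1390163434) (.leaf 52996097978)) (.node (.leaf 27295952391) (.leaf 0))) (.node (.node (.leaf 19858254102) (.leaf 0)) (.node (.leaf 34360721409) (.leaf 0)))) (.node (.node (.node (.leaf 12254730980) (.leaf 59253446444)) (.node (.leaf 30736336006) (.leaf 0))) (.node (.node (.leaf 23702717865) (.leaf 0)) (.node (.leaf 45848553573) (.leaf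 0))))) (.node (.node (.node (.node (.leaf 3188079104) (.leaf 54722528173)) (.node (.leaf 29081532644) (.leaf 0))) (.node (.node (.leaf 21663894567) (.leaf 0)) (.node (.leaf 44121764496) (.leaf 0)))) (.node (.node (.node (.leaf 17994077461) (.leaf 0)) (.node (.leaf 32880461893) (.leaf 0))) (.node (.node (.leaf 25490895315) (.leaf 0)) (.node (.leaf 49154808023) (.leaf 0)))))))) (.node (.node (.node (.node (.node (.node (.node (.leaf 274757382) (.leaf 51988679774)) (.node (.leaf 25968009232) (.leaf 0))) (.node (.node (.leaf 18778868396) (.leaf 0)) (.node (.leaf 33413308647) (.leaf 0)))) (.node (.node (.node (.leaf 3886022694) (.leaf 55394606220)) (.node (.leaf 29867974469) (.leaf 0))) (.node (.node (.leaf 22574804771) (.leaf 0)) (.node (.leaf 44724562582) (.leaf 0))))) (.node (.node (.node (.node (.leaf 1946597376) (.leaf 53651494122)) (.node (.leaf 28008145354) (.leaf 0))) (.node (.node (.leaf 20553977518) (.leaf 0)) (.node (.leaf 42038075045) (.leaf 0)))) (.node (.node (.node (.leaf 15861870437) (.leaf 62728211596))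 (.node (.leaf 31147332551) (.leaf 0))) (.node (.node (.leaf 24229937204) (.leaf 0)) (.node (.leaf 46487624028) (.leaf 0)))))) (.node (.node (.node (.node (.node (.leaf 1195646338) (.leaf 52780922982)) (.node (.leaf 27108494954) (.leaf 0))) (.node (.node (.leaf 19736306098) (.leaf 0)) (.node (.leaf 34311316012) (.leaf 0)))) (.node (.node (.node (.leaf 11335385920) (.leaf 58177562588)) (.node (.leaf 30467257276) (.leaf 0))) (.node (.node (.leaf 23297683109) (.leaf 0)) (.node (.leaf 45616922598) (.leaf 0))))) (.node (.node (.node (.node (.leaf 3030182714) (.leaf 54537994957)) (.node (.leaf 28695088380) (.leaf 0))) (.node (.node (.leaf 21456265542) (.leaf 0)) (.node (.leaf 43887905072) (.leaf 0)))) (.node (.node (.node (.leaf 17612734094) (.leaf 0)) (.node (.leaf 32493691415) (.leaf 0))) (.node (.node (.leaf 25367426951) (.leaf 0)) (.node (.leaf 47639420378) (.leaf 0))))))) (.node (.node (.node (.node (.node (.node (.leaf 886307093) (.leaf 52393862864)) (.node (.leaf 26306708032) (.leaf 0))) (.node (.node (.leaf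 19075159061) (.leaf 0)) (.node (.leaf 33766533893) (.leaf 0)))) (.node (.node (.node (.leaf 8741914891) (.leaf 55828568142)) (.node (.leaf 30156492614) (.leaf 0))) (.node (.node (.leaf 22985102247) (.leaf 0)) (.node (.leaf 45247716421) (.leaf 0))))) (.node (.node (.node (.node (.leaf 2457478812) (.leaf 54067783642)) (.node (.leaf 28369507348) (.leaf 0))) (.node (.node (.leaf 21144583970) (.leaf 0)) (.node (.leaf 43485126166) (.leaf 0)))) (.node (.node (.node (.leaf 17302933431) (.leaf 64425246946)) (.node (.leaf 32195954054) (.leaf 0))) (.node (.node (.leaf 24775981488) (.leaf 0)) (.node (.leaf 46874947578) (.leaf 0)))))) (.node (.node (.node (.node (.node (.leaf 1541718770) (.leaf 53250256124)) (.node (.leaf 27516195847) (.leaf 0))) (.node (.node (.leaf 19979026613) (.leaf 0)) (.node (.leaf 39935396490) (.leaf 0)))) (.node (.node (.node (.leaf 13286857552) (.leaf 60314160393)) (.node (.leaf 30861311035) (.leaf 0))) (.node (.node (.leaf 23788423397) (.leaf 0)) (.node (.leaf 46025972144) (.leaf 0))))) (.node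 (.node (.node (.node (.leaf 3576931717) (.leaf 54977267100)) (.node (.leaf 29235808887) (.leaf 0))) (.node (.node (.leaf 21836995221) (.leaf 0)) (.node (.leaf 44371311584) (.leaf 0)))) (.node (.node (.node (.leaf 18455311047) (.leaf 0)) (.node (.leaf 33047309060) (.leaf 0))) (.node (.node (.leaf 25606627221) (.leaf 0)) (.node (.leaf 50216970359) (.leaf 0)))))))))) (.node (.node (.node (.node (.node (.node (.node (.node (.node (.leaf 141952176) (.leaf 50910083767)) (.node (.leaf 25752684969) (.leaf 0))) (.node (.node (.leaf 18543979724) (.leaf 0)) (.node (.leaf 33220258565) (.leaf 0)))) (.node (.node (.node (.leaf 3648190148) (.leaf 55084854874)) (.node (.leaf 29663454596) (.leaf 0))) (.node (.node (.leaf 21908398292) (.leaf 0)) (.node (.leaf 44455212944) (.leaf 0))))) (.node (.node (.node (.node (.leaf 1661992998) (.leaf 53401245868)) (.node (.leaf 27592578469) (.leaf 0))) (.node (.node (.leaf 20134175989) (.leaf 0)) (.node (.leaf 40542011393) (.leaf 0)))) (.node (.node (.node (.leaf 13955555685) (.leaf 61410179756))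 (.node (.leaf 31015125764) (.leaf 0))) (.node (.node (.leaf 24026438085) (.leaf 0)) (.node (.leaf 46198770261) (.leaf 0)))))) (.node (.node (.node (.node (.node (.leaf 959629044) (.leaf 52544817584)) (.node (.leaf 26873603402) (.leaf 0))) (.node (.node (.leaf 19431682085) (.leaf 0)) (.node (.leaf 34126773724) (.leaf 0)))) (.node (.node (.node (.leaf 9415186660) (.leaf 56508562039)) (.node (.leaf 30229920854) (.leaf 0))) (.node (.node (.leaf 23073960307) (.leaf 0)) (.node (.leaf 45365153621) (.leaf 0))))) (.node (.node (.node (.node (.leaf 2545942582) (.leaf 54256767470)) (.node (.leaf 28527317452) (.leaf 0))) (.node (.node (.leaf 21288458982) (.leaf 0)) (.node (.leaf 43616281255) (.leaf 0)))) (.node (.node (.node (.leaf 17407744727) (.leaf 0)) (.node (.leaf 32267223191) (.leaf 0))) (.node (.node (.leaf 24852699285) (.leaf 0)) (.node (.leaf 47126503241) (.leaf 0))))))) (.node (.node (.node (.node (.node (.node (.leaf 632458772) (.leaf 52124185117)) (.node (.leaf 26128044426) (.leaf 0))) (.node (.node (.leaf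 18937714420) (.leaf 0)) (.node (.leaf 33517580924) (.leaf 0)))) (.node (.node (.node (.leaf 4031785734) (.leaf 55545579548)) (.node (.leaf 29904101324) (.leaf 0))) (.node (.node (.leaf 22750178247) (.leaf 0)) (.node (.leaf 44893449127) (.leaf 0))))) (.node (.node (.node (.node (.leaf 1991487109) (.leaf 53871533892)) (.node (.leaf 28083339749) (.leaf 0))) (.node (.node (.leaf 20680504453) (.leaf 0)) (.node (.leaf 42925214085) (.leaf 0)))) (.node (.node (.node (.leaf 16545519685) (.leaf 63513087508)) (.node (.leaf 31961081366) (.leaf 0))) (.node (.node (.leaf 24266575845) (.leaf 0)) (.node (.leaf 46638576972) (.leaf 0)))))) (.node (.node (.node (.node (.node (.leaf 1301652355) (.leaf 52979329850)) (.node (.leaf 27281521050) (.leaf 0))) (.node (.node (.leaf 19812753868) (.leaf 0)) (.node (.leaf 34360610963) (.leaf 0)))) (.node (.node (.node (.leaf 12011721440) (.leaf 59047195063)) (.node (.leaf 30626461739) (.leaf 0))) (.node (.node (.leaf 23362786468) (.leaf 0)) (.node (.leaf 45814993221) (.leaf 0))))) (.node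 (.node (.node (.node (.leaf 3106047508) (.leaf 54689003293)) (.node (.leaf 29068036151) (.leaf 0))) (.node (.node (.leaf 21597788343) (.leaf 0)) (.node (.leaf 44104952672) (.leaf 0)))) (.node (.node (.node (.leaf 17994032885) (.leaf 0)) (.node (.leaf 32814534759) (.leaf 0))) (.node (.node (.leaf 25443081749) (.leaf 0)) (.node (.leaf 48305417335) (.leaf 0)))))))) (.node (.node (.node (.node (.node (.node (.node (.leaf 263587104) (.leaf 51955167134)) (.node (.leaf 25956471024) (.leaf 0))) (.node (.node (.leaf 18732193012) (.leaf 0)) (.node (.leaf 33348192404) (.leaf 0)))) (.node (.node (.node (.leaf 3822761052) (.leaf 55377813420)) (.node (.leaf 29788296357) (.leaf 0))) (.node (.node (.leaf 22291142052) (.leaf 0)) (.node (.leaf 44674193494) (.leaf 0))))) (.node (.node (.node (.node (.leaf 1831616234) (.leaf 53617931594)) (.node (.leaf 27994657052) (.leaf 0))) (.node (.node (.leaf 20504354869) (.leaf 0)) (.node (.leaf 41622044673) (.leaf 0)))) (.node (.node (.node (.leaf 15628328272) (.leaf 62444580596)) (.node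 (.leaf 31133936827) (.leaf 0))) (.node (.node (.leaf 24146616611) (.leaf 0)) (.node (.leaf 46433673189) (.leaf 0)))))) (.node (.node (.node (.node (.node (.leaf 1132462294) (.leaf 52730564502)) (.node (.leaf 27060987333) (.leaf 0))) (.node (.node (.leaf 19623354102) (.leaf 0)) (.node (.leaf 34278277444) (.leaf 0)))) (.node (.node (.node (.leaf 10923336272) (.leaf 57977614711)) (.node (.leaf 30457335911) (.leaf 0))) (.node (.node (.leaf 23267948659) (.leaf 0)) (.node (.leaf 45532977750) (.leaf 0))))) (.node (.node (.node (.node (.leaf 3020322816) (.leaf 54491670686)) (.node (.leaf 28611776837) (.leaf 0))) (.node (.node (.leaf 21449121845) (.leaf 0)) (.node (.leaf 43820836464) (.leaf 0)))) (.node (.node (.node (.leaf 17564076116) (.leaf 0)) (.node (.leaf 32438028868) (.leaf 0))) (.node (.node (.leaf 25256050547) (.leaf 0)) (.node (.leaf 47396620546) (.leaf 0))))))) (.node (.node (.node (.node (.node (.node (.leaf 872863744) (.leaf 52308714381)) (.node (.leaf 26279873079) (.leaf 0))) (.node (.node (.leaf 19075115509)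 (.leaf 0)) (.node (.leaf 33736505915) (.leaf 0)))) (.node (.node (.node (.leaf 4295950344) (.leaf 55778232926)) (.node (.leaf 30143916262) (.leaf 0))) (.node (.node (.leaf 22956051706) (.leaf 0)) (.node (.leaf 45130279525) (.leaf 0))))) (.node (.node (.node (.node (.leaf 2151724806) (.leaf 54050986874)) (.node (.leaf 28354889237) (.leaf 0))) (.node (.node (.leaf 21116100380) (.leaf 0)) (.node (.leaf 43434788038) (.leaf 0)))) (.node (.node (.node (.leaf 17236883495) (.leaf 64424665179)) (.node (.leaf 32147914555) (.leaf 0))) (.node (.node (.leaf 24440723108) (.leaf 0)) (.node (.leaf 46824574154) (.leaf 0)))))) (.node (.node (.node (.node (.node (.leaf 1475346646) (.leaf 53233491852)) (.node (.leaf 27406288234) (.leaf 0))) (.node (.node (.leaf 19964687502) (.leaf 0)) (.node (.leaf 39463026689) (.leaf 0)))) (.node (.node (.node (.leaf 13036422413) (.leaf 60080771884)) (.node (.leaf 30815832837) (.leaf 0))) (.node (.node (.leaf 23781163044) (.leaf 0)) (.node (.leaf 45958846160) (.leaf 0))))) (.node (.node (.node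 (.node (.leaf 3562826618) (.leaf 54943729388)) (.node (.leaf 29157513420) (.leaf 0))) (.node (.node (.leaf 21821564361) (.leaf 0)) (.node (.leaf 44272745952) (.leaf 0)))) (.node (.node (.node (.leaf 18425592370) (.leaf 0)) (.node (.leaf 33034819318) (.leaf 0))) (.node (.node (.leaf 25591925846) (.leaf 0)) (.node (.leaf 49990325210) (.leaf 0))))))))) (.node (.node (.node (.node (.node (.node (.node (.node (.leaf 203819472) (.leaf 51502331834)) (.node (.leaf 25827512512) (.leaf 0))) (.node (.node (.leaf 18690162087) (.leaf 0)) (.node (.leaf 33282152196) (.leaf 0)))) (.node (.node (.node (.leaf 3798303395) (.leaf 55219074410)) (.node (.leaf 29709104460) (.leaf 0))) (.node (.node (.leaf 22027908740) (.leaf 0)) (.node (.leaf 44640697574) (.leaf 0))))) (.node (.node (.node (.node (.leaf 1737817538) (.leaf 53483683434)) (.node (.leaf 27648857952) (.leaf 0))) (.node (.node (.leaf 20474932292) (.leaf 0)) (.node (.leaf 41253469434) (.leaf 0)))) (.node (.node (.node (.leaf 15027167717) (.leaf 61880979228)) (.node (.leaf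 31079546077) (.leaf 0))) (.node (.node (.leaf 24073830906) (.leaf 0)) (.node (.leaf 46349803925) (.leaf 0)))))) (.node (.node (.node (.node (.node (.leaf 1054066373) (.leaf 52696977734)) (.node (.leaf 27020213767) (.leaf 0))) (.node (.node (.leaf 19487567566) (.leaf 0)) (.node (.leaf 34149239525) (.leaf 0)))) (.node (.node (.node (.leaf 10499409988) (.leaf 56905986359)) (.node (.leaf 30378561349) (.leaf 0))) (.node (.node (.leaf 23219959799) (.leaf 0)) (.node (.leaf 45465903510) (.leaf 0))))) (.node (.node (.node (.node (.leaf 2642072908) (.leaf 54407748686)) (.node (.leaf 28553187111) (.leaf 0))) (.node (.node (.leaf 21318387374) (.leaf 0)) (.node (.leaf 43716967879) (.leaf 0)))) (.node (.node (.node (.leaf 17540726320) (.leaf 0)) (.node (.leaf 32398586682) (.leaf 0))) (.node (.node (.leaf 24943736528) (.leaf 0)) (.node (.leaf 47193647769) (.leaf 0))))))) (.node (.node (.node (.node (.node (.node (.leaf 693783516) (.leaf 52208061389)) (.node (.leaf 26153851988) (.leaf 0))) (.node (.node (.leaf 19000497910)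 (.leaf 0)) (.node (.leaf 33690047236) (.leaf 0)))) (.node (.node (.node (.leaf 4295585918) (.leaf 55711145966)) (.node (.leaf 30035781717) (.leaf 0))) (.node (.node (.leaf 22809727283) (.leaf 0)) (.node (.leaf 45027685319) (.leaf 0))))) (.node (.node (.node (.node (.leaf 2114333184) (.leaf 53955455636)) (.node (.leaf 28213704090) (.leaf 0))) (.node (.node (.leaf 21072540551) (.leaf 0)) (.node (.leaf 43367700134) (.leaf 0)))) (.node (.node (.node (.leaf 17130951488) (.leaf 64232392068)) (.node (.leaf 32086811396) (.leaf 0))) (.node (.node (.leaf 24397738100) (.leaf 0)) (.node (.leaf 46791039658) (.leaf 0)))))) (.node (.node (.node (.node (.node (.leaf 1398123907) (.leaf 53046469338)) (.node (.leaf 27326244341) (.leaf 0))) (.node (.node (.leaf 19941067350) (.leaf 0)) (.node (.leaf 38839323918) (.leaf 0)))) (.node (.node (.node (.leaf 12662926160) (.leaf 59495995431)) (.node (.leaf 30751941380) (.leaf 0))) (.node (.node (.leaf 23716902352) (.leaf 0)) (.node (.leaf 45898919829) (.leaf 0))))) (.node (.node (.node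 (.node (.leaf 3197922682) (.leaf 54792747372)) (.node (.leaf 29097306709) (.leaf 0))) (.node (.node (.leaf 21674335415) (.leaf 0)) (.node (.leaf 44138509120) (.leaf 0)))) (.node (.node (.node (.leaf 18281305588) (.leaf 0)) (.node (.leaf 32944935802) (.leaf 0))) (.node (.node (.leaf 25569737168) (.leaf 0)) (.node (.leaf 49389665319) (.leaf 0)))))))) (.node (.node (.node (.node (.node (.node (.node (.leaf 606280181) (.leaf 52022254318)) (.node (.leaf 25999466512) (.leaf 0))) (.node (.node (.leaf 18814532748) (.leaf 0)) (.node (.leaf 33472908357) (.leaf 0)))) (.node (.node (.node (.leaf 3950818394) (.leaf 55411403468)) (.node (.leaf 29878807754) (.leaf 0))) (.node (.node (.leaf 22688672970) (.leaf 0)) (.node (.leaf 44808458054) (.leaf 0))))) (.node (.node (.node (.node (.leaf 1961647034) (.leaf 53720554724)) (.node (.leaf 28023520484) (.leaf 0))) (.node (.node (.leaf 20567963184) (.leaf 0)) (.node (.leaf 42556829466) (.leaf 0)))) (.node (.node (.node (.leaf 16096710997) (.leaf 62911214756)) (.node (.leaf 31423097623)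 (.leaf 0))) (.node (.node (.leaf 24244831401) (.leaf 0)) (.node (.leaf 46504357484) (.leaf 0)))))) (.node (.node (.node (.node (.node (.leaf 1262232730) (.leaf 52864789590)) (.node (.leaf 27140080732) (.leaf 0))) (.node (.node (.leaf 19763944727) (.leaf 0)) (.node (.leaf 34322722234) (.leaf 0)))) (.node (.node (.node (.leaf 11561625748) (.leaf 58578156988)) (.node (.leaf 30531715428) (.leaf 0))) (.node (.node (.leaf 23343996698) (.leaf 0)) (.node (.leaf 45664017125) (.leaf 0))))) (.node (.node (.node (.node (.leaf 3044218357) (.leaf 54554766733)) (.node (.leaf 28722601312) (.leaf 0))) (.node (.node (.leaf 21518155639) (.leaf 0)) (.node (.leaf 43955033264) (.leaf 0)))) (.node (.node (.node (.leaf 17695228085) (.leaf 0)) (.node (.leaf 32791969148) (.leaf 0))) (.node (.node (.leaf 25380101654) (.leaf 0)) (.node (.leaf 47927947559) (.leaf 0))))))) (.node (.node (.node (.node (.node (.node (.leaf 896163260) (.leaf 52410618992)) (.node (.leaf 26575114848) (.leaf 0))) (.node (.node (.leaf 19401058886) (.leaf 0))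 (.node (.leaf 33808982317) (.leaf 0)))) (.node (.node (.node (.leaf 8984481088) (.leaf 55986095363)) (.node (.leaf 30169080294) (.leaf 0))) (.node (.node (.leaf 22997788069) (.leaf 0)) (.node (.leaf 45281284581) (.leaf 0))))) (.node (.node (.node (.node (.leaf 2472866754) (.leaf 54118081082)) (.node (.leaf 28400138503) (.leaf 0))) (.node (.node (.leaf 21191085732) (.leaf 0)) (.node (.leaf 43532359559) (.leaf 0)))) (.node (.node (.node (.leaf 17369002279) (.leaf 64425287746)) (.node (.leaf 32211505669) (.leaf 0))) (.node (.node (.leaf 24792002676) (.leaf 0)) (.node (.leaf 46958792986) (.leaf 0)))))) (.node (.node (.node (.node (.node (.leaf 1574710938) (.leaf 53267024412)) (.node (.leaf 27531213132) (.leaf 0))) (.node (.node (.leaf 20025845424) (.leaf 0)) (.node (.leaf 40169213130) (.leaf 0)))) (.node (.node (.node (.leaf 13558115045) (.leaf 60500510340)) (.node (.leaf 30887372454) (.leaf 0))) (.node (.node (.leaf 23870445849) (.leaf 0)) (.node (.leaf 46093100144) (.leaf 0))))) (.node (.node (.node (.node (.leaf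 3590762752) (.leaf 55027606620)) (.node (.leaf 29259509216) (.leaf 0))) (.node (.node (.leaf 21848464022) (.leaf 0)) (.node (.leaf 44388065888) (.leaf 0)))) (.node (.node (.node (.leaf 18467800742) (.leaf 0)) (.node (.leaf 33164155453) (.leaf 0))) (.node (.node (.leaf 25654980724) (.leaf 0)) (.node (.leaf 50451897559) (.leaf 0))))))))))))

noncomputable def phiT : Trie Nat := .node (.node (.node (.node (.node (.node (.node (.node (.node (.node (.node (.node (.leaf 129143193) (.leaf 13869380)) (.node (.leaf 7982735) (.leaf 0))) (.node (.node (.leaf 175493392) (.leaf 0)) (.node (.leaf 147782344) (.leaf 0)))) (.node (.node (.node (.leaf 232391126) (.leaf 169287227)) (.node (.leaf 637050) (.leaf 0))) (.node (.node (.leaf 151403447) (.leaf 0)) (.node (.leaf 161931023) (.leaf 0))))) (.node (.node (.node (.node (.leaf 33408590) (.leaf 3753355)) (.node (.leaf 224486009) (.leaf 0))) (.node (.node (.leaf 100353503) (.leaf 0)) (.node (.leaf 167515635) (.leaf 0)))) (.node (.node (.node (.leaf 110192505) (.leaf 184895015))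 (.node (.leaf 162480837) (.leaf 0))) (.node (.node (.leaf 1487063) (.leaf 0)) (.node (.leaf 222747702) (.leaf 0)))))) (.node (.node (.node (.node (.node (.leaf 222747702) (.leaf 2589910)) (.node (.leaf 180563666) (.leaf 0))) (.node (.node (.leaf 243680573) (.leaf 0)) (.node (.leaf 224306342) (.leaf 0)))) (.node (.node (.node (.leaf 190583130) (.leaf 60478125)) (.node (.leaf 188259688) (.leaf 0))) (.node (.node (.leaf 173663553) (.leaf 0)) (.node (.leaf 39168436) (.leaf 0))))) (.node (.node (.node (.node (.leaf 174280178) (.leaf 103245252)) (.node (.leaf 55540102) (.leaf 0))) (.node (.node (.leaf 5715423) (.leaf 0)) (.node (.leaf 166721723) (.leaf 0)))) (.node (.node (.node (.leaf 232539082) (.leaf 0)) (.node (.leaf 7736602) (.leaf 0))) (.node (.node (.leaf 45409504) (.leaf 0)) (.node (.leaf 132929401) (.leaf 0))))))) (.node (.node (.node (.node (.node (.node (.leaf 31939053) (.leaf 103857903)) (.node (.leaf 113244960) (.leaf 0))) (.node (.node (.leaf 118705473) (.leaf 0)) (.node (.leaf 4534848) (.leaf 0))))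 (.node (.node (.node (.leaf 76125063) (.leaf 5939337)) (.node (.leaf 51399769) (.leaf 0))) (.node (.node (.leaf 470) (.leaf 0)) (.node (.leaf 26841756) (.leaf 0))))) (.node (.node (.node (.node (.leaf 131353558) (.leaf 66263445)) (.node (.leaf 7742370) (.leaf 0))) (.node (.node (.leaf 25513585) (.leaf 0)) (.node (.leaf 33588765) (.leaf 0)))) (.node (.node (.node (.leaf 191146250) (.leaf 8838125)) (.node (.leaf 131572058) (.leaf 0))) (.node (.node (.leaf 98784061) (.leaf 0)) (.node (.leaf 174280178) (.leaf 0)))))) (.node (.node (.node (.node (.node (.leaf 238834205) (.leaf 27933188)) (.node (.leaf 80674021) (.leaf 0))) (.node (.node (.leaf 25658425) (.leaf 0)) (.node (.leaf 2743750) (.leaf 0)))) (.node (.node (.node (.leaf 17648760) (.leaf 126132515)) (.node (.leaf 6486354) (.leaf 0))) (.node (.node (.leaf 7666780) (.leaf 0)) (.node (.leaf 168659406) (.leaf 0))))) (.node (.node (.node (.node (.leaf 36170902) (.leaf 7191552)) (.node (.leaf 131141796) (.leaf 0))) (.node (.node (.leaf 133996561) (.leaf 0)) (.node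 (.leaf 144297376) (.leaf 0)))) (.node (.node (.node (.leaf 169452237) (.leaf 0)) (.node (.leaf 131463575) (.leaf 0))) (.node (.node (.leaf 190374803) (.leaf 0)) (.node (.leaf 170519375) (.leaf 0)))))))) (.node (.node (.node (.node (.node (.node (.node (.leaf 113782888) (.leaf 226294577)) (.node (.leaf 1726200) (.leaf 0))) (.node (.node (.leaf 133577162) (.leaf 0)) (.node (.leaf 13344836) (.leaf 0)))) (.node (.node (.node (.leaf 7191552) (.leaf 199944421)) (.node (.leaf 178328400) (.leaf 0))) (.node (.node (.leaf 6097928) (.leaf 0)) (.node (.leaf 195285178) (.leaf 0))))) (.node (.node (.node (.node (.leaf 237199587) (.leaf 165915041)) (.node (.leaf 1808041) (.leaf 0))) (.node (.node (.leaf 215437175) (.leaf 0)) (.node (.leaf 49834385) (.leaf 0)))) (.node (.node (.node (.leaf 186518125) (.leaf 42605010)) (.node (.leaf 134667954) (.leaf 0))) (.node (.node (.leaf 84660304) (.leaf 0)) (.node (.leaf 202997959) (.leaf 0)))))) (.node (.node (.node (.node (.node (.leaf 29080452) (.leaf 131391592)) (.node (.leaf 174386987)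 (.leaf 0))) (.node (.node (.leaf 78626) (.leaf 0)) (.node (.leaf 18116700) (.leaf 0)))) (.node (.node (.node (.leaf 102386260) (.leaf 6653125)) (.node (.leaf 202371551) (.leaf 0))) (.node (.node (.leaf 115358229) (.leaf 0)) (.node (.leaf 177401573) (.leaf 0))))) (.node (.node (.node (.node (.leaf 223791092) (.leaf 173768563)) (.node (.leaf 171694801) (.leaf 0))) (.node (.node (.leaf 119022376) (.leaf 0)) (.node (.leaf 79077800) (.leaf 0)))) (.node (.node (.node (.leaf 63757212) (.leaf 0)) (.node (.leaf 156468178) (.leaf 0))) (.node (.node (.leaf 136285178) (.leaf 0)) (.node (.leaf 173760450) (.leaf 0))))))) (.node (.node (.node (.node (.node (.node (.leaf 132106202) (.leaf 160781379)) (.node (.leaf 637050) (.leaf 0))) (.node (.node (.leaf 172105408) (.leaf 0)) (.node (.leaf 127840109) (.leaf 0)))) (.node (.node (.node (.leaf 57640625) (.leaf 76125063)) (.node (.leaf 240010896) (.leaf 0))) (.node (.node (.leaf 104941083) (.leaf 0)) (.node (.leaf 237199587) (.leaf 0))))) (.node (.node (.node (.node (.leaf 4065928)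 (.leaf 229031342)) (.node (.leaf 120512393) (.leaf 0))) (.node (.node (.leaf 104941083) (.leaf 0)) (.node (.leaf 69115553) (.leaf 0)))) (.node (.node (.node (.leaf 156468178) (.leaf 106055005)) (.node (.leaf 1262767) (.leaf 0))) (.node (.node (.leaf 103169677) (.leaf 0)) (.node (.leaf 10147969) (.leaf 0)))))) (.node (.node (.node (.node (.node (.leaf 170963608) (.leaf 161931023)) (.node (.leaf 100664181) (.leaf 0))) (.node (.node (.leaf 15622376) (.leaf 0)) (.node (.leaf 36228125) (.leaf 0)))) (.node (.node (.node (.leaf 131297500) (.leaf 134655625)) (.node (.leaf 103081480) (.leaf 0))) (.node (.node (.leaf 241567722) (.leaf 0)) (.node (.leaf 204425501) (.leaf 0))))) (.node (.node (.node (.node (.leaf 229031342) (.leaf 196814271)) (.node (.leaf 143079878) (.leaf 0))) (.node (.node (.leaf 3986081) (.leaf 0)) (.node (.leaf 171194829) (.leaf 0)))) (.node (.node (.node (.leaf 80521222) (.leaf 0)) (.node (.leaf 226612878) (.leaf 0))) (.node (.node (.leaf 106110388) (.leaf 0)) (.node (.leaf 142850630) (.leaf 0)))))))))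 (.node (.node (.node (.node (.node (.node (.node (.node (.leaf 161931023) (.leaf 3293145)) (.node (.leaf 46229103) (.leaf 0))) (.node (.node (.leaf 4534848) (.leaf 0)) (.node (.leaf 470) (.leaf 0)))) (.node (.node (.node (.leaf 81381563) (.leaf 33408590)) (.node (.leaf 76991501) (.leaf 0))) (.node (.node (.leaf 2978053) (.leaf 0)) (.node (.leaf 27933188) (.leaf 0))))) (.node (.node (.node (.node (.leaf 243443582) (.leaf 21519303)) (.node (.leaf 76991501) (.leaf 0))) (.node (.node (.leaf 8211327) (.leaf 0)) (.node (.leaf 168703755) (.leaf 0)))) (.node (.node (.node (.leaf 5081250) (.leaf 13869380)) (.node (.leaf 195499215) (.leaf 0))) (.node (.node (.leaf 167569421) (.leaf 0)) (.node (.leaf 33101342) (.leaf 0)))))) (.node (.node (.node (.node (.node (.leaf 131202953) (.leaf 4937328)) (.node (.leaf 112072622) (.leaf 0))) (.node (.node (.leaf 151403447) (.leaf 0)) (.node (.leaf 107935451) (.leaf 0)))) (.node (.node (.node (.leaf 120280010) (.leaf 194591895)) (.node (.leaf 101134047) (.leaf 0))) (.node (.node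 (.leaf 171906170) (.leaf 0)) (.node (.leaf 134212172) (.leaf 0))))) (.node (.node (.node (.node (.leaf 242188016) (.leaf 194665882)) (.node (.leaf 218398633) (.leaf 0))) (.node (.node (.leaf 17802563) (.leaf 0)) (.node (.leaf 130504952) (.leaf 0)))) (.node (.node (.node (.leaf 220515451) (.leaf 0)) (.node (.leaf 6100311) (.leaf 0))) (.node (.node (.leaf 2424261) (.leaf 0)) (.node (.leaf 72765754) (.leaf 0))))))) (.node (.node (.node (.node (.node (.node (.leaf 41269839) (.leaf 69115553)) (.node (.leaf 133480954) (.leaf 0))) (.node (.node (.leaf 53585454) (.leaf 0)) (.node (.leaf 79972950) (.leaf 0)))) (.node (.node (.node (.leaf 104017954) (.leaf 133716711)) (.node (.leaf 167165028) (.leaf 0))) (.node (.node (.leaf 133708660) (.leaf 0)) (.node (.leaf 164042293) (.leaf 0))))) (.node (.node (.node (.node (.leaf 169115553) (.leaf 33251994)) (.node (.leaf 155683474) (.leaf 0))) (.node (.node (.leaf 123781724) (.leaf 0)) (.node (.leaf 216254200) (.leaf 0)))) (.node (.node (.node (.leaf 170519375) (.leaf 133715635))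 (.node (.leaf 169452237) (.leaf 0))) (.node (.node (.leaf 110433477) (.leaf 0)) (.node (.leaf 102539243) (.leaf 0)))))) (.node (.node (.node (.node (.node (.leaf 3374832) (.leaf 53349696)) (.node (.leaf 204947761) (.leaf 0))) (.node (.node (.leaf 5470473) (.leaf 0)) (.node (.leaf 24331250) (.leaf 0)))) (.node (.node (.node (.leaf 61323140) (.leaf 114028750)) (.node (.leaf 72062597) (.leaf 0))) (.node (.node (.leaf 243050311) (.leaf 0)) (.node (.leaf 141133487) (.leaf 0))))) (.node (.node (.node (.node (.leaf 166607963) (.leaf 4535808)) (.node (.leaf 180563666) (.leaf 0))) (.node (.node (.leaf 166317336) (.leaf 0)) (.node (.leaf 136306068) (.leaf 0)))) (.node (.node (.node (.leaf 156410092) (.leaf 0)) (.node (.leaf 133996561) (.leaf 0))) (.node (.node (.leaf 166655925) (.leaf 0)) (.node (.leaf 3137500) (.leaf 0)))))))) (.node (.node (.node (.node (.node (.node (.node (.leaf 110506648) (.leaf 56761354)) (.node (.leaf 167539335) (.leaf 0))) (.node (.node (.leaf 127840109) (.leaf 0)) (.node (.leaf 183182077) (.leaf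 0)))) (.node (.node (.node (.leaf 7584313) (.leaf 8372420)) (.node (.leaf 23084253) (.leaf 0))) (.node (.node (.leaf 70683573) (.leaf 0)) (.node (.leaf 117617957) (.leaf 0))))) (.node (.node (.node (.node (.leaf 124107358) (.leaf 244064122)) (.node (.leaf 34119434) (.leaf 0))) (.node (.node (.leaf 109024202) (.leaf 0)) (.node (.leaf 218860005) (.leaf 0)))) (.node (.node (.node (.leaf 179042510) (.leaf 123556260)) (.node (.leaf 711113) (.leaf 0))) (.node (.node (.leaf 101134047) (.leaf 0)) (.node (.leaf 215814827) (.leaf 0)))))) (.node (.node (.node (.node (.node (.leaf 4234173) (.leaf 18585311)) (.node (.leaf 172065234) (.leaf 0))) (.node (.node (.leaf 7979200) (.leaf 0)) (.node (.leaf 405323) (.leaf 0)))) (.node (.node (.node (.leaf 135407515) (.leaf 108875625)) (.node (.leaf 167235651) (.leaf 0))) (.node (.node (.leaf 167281775) (.leaf 0)) (.node (.leaf 166607963) (.leaf 0))))) (.node (.node (.node (.node (.leaf 80396803) (.leaf 6647358)) (.node (.leaf 45183026) (.leaf 0))) (.node (.node (.leaf 220667735)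 (.leaf 0)) (.node (.leaf 226294577) (.leaf 0)))) (.node (.node (.node (.leaf 129066077) (.leaf 0)) (.node (.leaf 128295403) (.leaf 0))) (.node (.node (.leaf 151544073) (.leaf 0)) (.node (.leaf 157478125) (.leaf 0))))))) (.node (.node (.node (.node (.node (.node (.leaf 160781379) (.leaf 7593097)) (.node (.leaf 41589129) (.leaf 0))) (.node (.node (.leaf 136988202) (.leaf 0)) (.node (.leaf 130925855) (.leaf 0)))) (.node (.node (.node (.leaf 36228125) (.leaf 167659681)) (.node (.leaf 174075303) (.leaf 0))) (.node (.node (.leaf 243680573) (.leaf 0)) (.node (.leaf 123859433) (.leaf 0))))) (.node (.node (.node (.node (.leaf 42285428) (.leaf 127669224)) (.node (.leaf 124596489) (.leaf 0))) (.node (.node (.leaf 72223712) (.leaf 0)) (.node (.leaf 160781379) (.leaf 0)))) (.node (.node (.node (.leaf 135143813) (.leaf 133453125)) (.node (.leaf 143084577) (.leaf 0))) (.node (.node (.leaf 224262358) (.leaf 0)) (.node (.leaf 108550252) (.leaf 0)))))) (.node (.node (.node (.node (.node (.leaf 204479615) (.leaf 1956728)) (.node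 (.leaf 26915096) (.leaf 0))) (.node (.node (.leaf 225136097) (.leaf 0)) (.node (.leaf 108875625) (.leaf 0)))) (.node (.node (.node (.leaf 234850000) (.leaf 52650000)) (.node (.leaf 4613854) (.leaf 0))) (.node (.node (.leaf 167087332) (.leaf 0)) (.node (.leaf 161570403) (.leaf 0))))) (.node (.node (.node (.node (.leaf 68126276) (.leaf 174137190)) (.node (.leaf 7437401) (.leaf 0))) (.node (.node (.leaf 3832961) (.leaf 0)) (.node (.leaf 134551091) (.leaf 0)))) (.node (.node (.node (.leaf 167036602) (.leaf 0)) (.node (.leaf 162549647) (.leaf 0))) (.node (.node (.leaf 195338445) (.leaf 0)) (.node (.leaf 123168765) (.leaf 0)))))))))) (.node (.node (.node (.node (.node (.node (.node (.node (.node (.leaf 131391592) (.leaf 243851885)) (.node (.leaf 79226551) (.leaf 0))) (.node (.node (.leaf 152787328) (.leaf 0)) (.node (.leaf 195338445) (.leaf 0)))) (.node (.node (.node (.leaf 33101342) (.leaf 145195558)) (.node (.leaf 51399769) (.leaf 0))) (.node (.node (.leaf 130925855) (.leaf 0)) (.node (.leaf 53349696) (.leaf 0)))))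 (.node (.node (.node (.node (.leaf 42914832) (.leaf 3374832)) (.node (.leaf 5787238) (.leaf 0))) (.node (.node (.leaf 134679778) (.leaf 0)) (.node (.leaf 18038765) (.leaf 0)))) (.node (.node (.node (.leaf 136455645) (.leaf 186518125)) (.node (.leaf 136285178) (.leaf 0))) (.node (.node (.leaf 214960948) (.leaf 0)) (.node (.leaf 60789193) (.leaf 0)))))) (.node (.node (.node (.node (.node (.leaf 61654073) (.leaf 4065928)) (.node (.leaf 113244960) (.leaf 0))) (.node (.node (.leaf 176689057) (.leaf 0)) (.node (.leaf 1097962) (.leaf 0)))) (.node (.node (.node (.leaf 134655625) (.leaf 49834385)) (.node (.leaf 153263045) (.leaf 0))) (.node (.node (.leaf 154736217) (.leaf 0)) (.node (.leaf 186856628) (.leaf 0))))) (.node (.node (.node (.node (.leaf 141133487) (.leaf 136694069)) (.node (.leaf 169942926) (.leaf 0))) (.node (.node (.leaf 131572058) (.leaf 0)) (.node (.leaf 153808412) (.leaf 0)))) (.node (.node (.node (.leaf 131512202) (.leaf 0)) (.node (.leaf 168488327) (.leaf 0))) (.node (.node (.leaf 181375306) (.leaf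 0)) (.node (.leaf 148261602) (.leaf 0))))))) (.node (.node (.node (.node (.node (.node (.leaf 144297376) (.leaf 150536602)) (.node (.leaf 193102533) (.leaf 0))) (.node (.node (.leaf 45409504) (.leaf 0)) (.node (.leaf 181375306) (.leaf 0)))) (.node (.node (.node (.leaf 9538990) (.leaf 786078)) (.node (.leaf 238153067) (.leaf 0))) (.node (.node (.leaf 102463001) (.leaf 0)) (.node (.leaf 57489675) (.leaf 0))))) (.node (.node (.node (.node (.leaf 130504952) (.leaf 196669163)) (.node (.leaf 169942926) (.leaf 0))) (.node (.node (.leaf 168488327) (.leaf 0)) (.node (.leaf 150291895) (.leaf 0)))) (.node (.node (.node (.leaf 127394380) (.leaf 84346270)) (.node (.leaf 225136097) (.leaf 0))) (.node (.node (.leaf 25658425) (.leaf 0)) (.node (.leaf 128594682) (.leaf 0)))))) (.node (.node (.node (.node (.node (.leaf 123586118) (.leaf 134551091)) (.node (.leaf 4300854) (.leaf 0))) (.node (.node (.leaf 134260304) (.leaf 0)) (.node (.leaf 139184375) (.leaf 0)))) (.node (.node (.node (.leaf 45211895) (.leaf 218860005)) (.node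 (.leaf 35295053) (.leaf 0))) (.node (.node (.leaf 187474679) (.leaf 0)) (.node (.leaf 67898068) (.leaf 0))))) (.node (.node (.node (.node (.leaf 76608229) (.leaf 9538990)) (.node (.leaf 93067) (.leaf 0))) (.node (.node (.leaf 227621003) (.leaf 0)) (.node (.leaf 123239694) (.leaf 0)))) (.node (.node (.node (.leaf 84660304) (.leaf 0)) (.node (.leaf 194742278) (.leaf 0))) (.node (.node (.leaf 169381527) (.leaf 0)) (.node (.leaf 184895015) (.leaf 0)))))))) (.node (.node (.node (.node (.node (.node (.node (.leaf 227550972) (.leaf 144297376)) (.node (.leaf 4386530) (.leaf 0))) (.node (.node (.leaf 6097928) (.leaf 0)) (.node (.leaf 75116901) (.leaf 0)))) (.node (.node (.node (.leaf 196814271) (.leaf 7825277)) (.node (.leaf 13898979) (.leaf 0))) (.node (.node (.leaf 155696569) (.leaf 0)) (.node (.leaf 128802192) (.leaf 0))))) (.node (.node (.node (.node (.leaf 49752009) (.leaf 129085460)) (.node (.leaf 76991501) (.leaf 0))) (.node (.node (.leaf 6252182) (.leaf 0)) (.node (.leaf 3290000) (.leaf 0)))) (.node (.node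 (.node (.leaf 13869380) (.leaf 136455645)) (.node (.leaf 135723543) (.leaf 0))) (.node (.node (.leaf 78626) (.leaf 0)) (.node (.leaf 143244632) (.leaf 0)))))) (.node (.node (.node (.node (.node (.leaf 3753355) (.leaf 110506648)) (.node (.leaf 65086634) (.leaf 0))) (.node (.node (.leaf 132282536) (.leaf 0)) (.node (.leaf 106110388) (.leaf 0)))) (.node (.node (.node (.leaf 160371270) (.leaf 8835005)) (.node (.leaf 3526303) (.leaf 0))) (.node (.node (.leaf 1963579) (.leaf 0)) (.node (.leaf 109890577) (.leaf 0))))) (.node (.node (.node (.node (.leaf 108550252) (.leaf 42449844)) (.node (.leaf 184663262) (.leaf 0))) (.node (.node (.leaf 9688894) (.leaf 0)) (.node (.leaf 56761354) (.leaf 0)))) (.node (.node (.node (.leaf 85525827) (.leaf 0)) (.node (.leaf 5626276) (.leaf 0))) (.node (.node (.leaf 162549647) (.leaf 0)) (.node (.leaf 24803125) (.leaf 0))))))) (.node (.node (.node (.node (.node (.node (.leaf 189251827) (.leaf 197632526)) (.node (.leaf 23084253) (.leaf 0))) (.node (.node (.leaf 167281775) (.leaf 0))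 (.node (.leaf 1963579) (.leaf 0)))) (.node (.node (.node (.leaf 171703125) (.leaf 81697827)) (.node (.leaf 227943025) (.leaf 0))) (.node (.node (.leaf 117934223) (.leaf 0)) (.node (.leaf 170723462) (.leaf 0))))) (.node (.node (.node (.node (.leaf 131385077) (.leaf 171459069)) (.node (.leaf 28386205) (.leaf 0))) (.node (.node (.leaf 161340428) (.leaf 0)) (.node (.leaf 150536602) (.leaf 0)))) (.node (.node (.node (.leaf 226612878) (.leaf 8990625)) (.node (.leaf 202480929) (.leaf 0))) (.node (.node (.leaf 134260304) (.leaf 0)) (.node (.leaf 180906347) (.leaf 0)))))) (.node (.node (.node (.node (.node (.leaf 196669163) (.leaf 1186552)) (.node (.leaf 149504522) (.leaf 0))) (.node (.node (.leaf 167087332) (.leaf 0)) (.node (.leaf 120280010) (.leaf 0)))) (.node (.node (.node (.leaf 52650000) (.leaf 190583130)) (.node (.leaf 136988202) (.leaf 0))) (.node (.node (.leaf 153881379) (.leaf 0)) (.node (.leaf 149137175) (.leaf 0))))) (.node (.node (.node (.node (.leaf 223087303) (.leaf 139260114)) (.node (.leaf 106843008)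 (.leaf 0))) (.node (.node (.leaf 233093808) (.leaf 0)) (.node (.leaf 193417577) (.leaf 0)))) (.node (.node (.node (.leaf 70274058) (.leaf 0)) (.node (.leaf 45409504) (.leaf 0))) (.node (.node (.leaf 106136602) (.leaf 0)) (.node (.leaf 169751885) (.leaf 0))))))))) (.node (.node (.node (.node (.node (.node (.node (.node (.leaf 61342811) (.leaf 173471250)) (.node (.leaf 128193328) (.leaf 0))) (.node (.node (.leaf 129049928) (.leaf 0)) (.node (.leaf 127139694) (.leaf 0)))) (.node (.node (.node (.leaf 168118879) (.leaf 60547014)) (.node (.leaf 184663262) (.leaf 0))) (.node (.node (.leaf 3526303) (.leaf 0)) (.node (.leaf 48463975) (.leaf 0))))) (.node (.node (.node (.node (.leaf 16244758) (.leaf 49752009)) (.node (.leaf 240010896) (.leaf 0))) (.node (.node (.leaf 131117247) (.leaf 0)) (.node (.leaf 181615640) (.leaf 0)))) (.node (.node (.node (.leaf 3293145) (.leaf 127875015)) (.node (.leaf 190374803) (.leaf 0))) (.node (.node (.leaf 4534848) (.leaf 0)) (.node (.leaf 170624689) (.leaf 0)))))) (.node (.node (.node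 (.node (.node (.leaf 150536602) (.leaf 168478586)) (.node (.leaf 172065234) (.leaf 0))) (.node (.node (.leaf 7043178) (.leaf 0)) (.node (.leaf 127767604) (.leaf 0)))) (.node (.node (.node (.leaf 8596875) (.leaf 168703755)) (.node (.leaf 80521222) (.leaf 0))) (.node (.node (.leaf 5470473) (.leaf 0)) (.node (.leaf 12180525) (.leaf 0))))) (.node (.node (.node (.node (.leaf 170723462) (.leaf 123710707)) (.node (.leaf 191930815) (.leaf 0))) (.node (.node (.leaf 155213608) (.leaf 0)) (.node (.leaf 79579678) (.leaf 0)))) (.node (.node (.node (.leaf 68296399) (.leaf 0)) (.node (.leaf 128475907) (.leaf 0))) (.node (.node (.leaf 175134062) (.leaf 0)) (.node (.leaf 82634303) (.leaf 0))))))) (.node (.node (.node (.node (.node (.node (.leaf 132929401) (.leaf 216254200)) (.node (.leaf 131141796) (.leaf 0))) (.node (.node (.leaf 84508040) (.leaf 0)) (.node (.leaf 198094224) (.leaf 0)))) (.node (.node (.node (.leaf 8990625) (.leaf 153102253)) (.node (.leaf 7349927) (.leaf 0))) (.node (.node (.leaf 150221517) (.leaf 0)) (.node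 (.leaf 136512624) (.leaf 0))))) (.node (.node (.node (.node (.leaf 58578952) (.leaf 171473332)) (.node (.leaf 143079878) (.leaf 0))) (.node (.node (.leaf 1722717) (.leaf 0)) (.node (.leaf 197632526) (.leaf 0)))) (.node (.node (.node (.leaf 114591895) (.leaf 25492510)) (.node (.leaf 128109600) (.leaf 0))) (.node (.node (.leaf 230517812) (.leaf 0)) (.node (.leaf 134061693) (.leaf 0)))))) (.node (.node (.node (.node (.node (.leaf 199944421) (.leaf 242355337)) (.node (.leaf 2982785) (.leaf 0))) (.node (.node (.leaf 312629) (.leaf 0)) (.node (.leaf 203693750) (.leaf 0)))) (.node (.node (.node (.leaf 8835005) (.leaf 167624395)) (.node (.leaf 57655666) (.leaf 0))) (.node (.node (.leaf 1567332) (.leaf 0)) (.node (.leaf 34193274) (.leaf 0))))) (.node (.node (.node (.node (.leaf 227610651) (.leaf 37168952)) (.node (.leaf 169524451) (.leaf 0))) (.node (.node (.leaf 107935451) (.leaf 0)) (.node (.leaf 44790272) (.leaf 0)))) (.node (.node (.node (.leaf 122611698) (.leaf 0)) (.node (.leaf 104941083) (.leaf 0))) (.node (.node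 (.leaf 128475907) (.leaf 0)) (.node (.leaf 153570015) (.leaf 0)))))))) (.node (.node (.node (.node (.node (.node (.node (.leaf 123239694) (.leaf 79077800)) (.node (.leaf 67022713) (.leaf 0))) (.node (.node (.leaf 2193040) (.leaf 0)) (.node (.leaf 100651086) (.leaf 0)))) (.node (.node (.node (.leaf 45518975) (.leaf 8754073)) (.node (.leaf 55540102) (.leaf 0))) (.node (.node (.leaf 233395597) (.leaf 0)) (.node (.leaf 170963608) (.leaf 0))))) (.node (.node (.node (.node (.leaf 4937328) (.leaf 142693626)) (.node (.leaf 171192292) (.leaf 0))) (.node (.node (.leaf 143366577) (.leaf 0)) (.node (.leaf 171456265) (.leaf 0)))) (.node (.node (.node (.leaf 84346270) (.leaf 196743765)) (.node (.leaf 6252182) (.leaf 0))) (.node (.node (.leaf 228491108) (.leaf 0)) (.node (.leaf 232872730) (.leaf 0)))))) (.node (.node (.node (.node (.node (.leaf 169935957) (.leaf 181464448)) (.node (.leaf 171139471) (.leaf 0))) (.node (.node (.leaf 214960948) (.leaf 0)) (.node (.leaf 170507801) (.leaf 0)))) (.node (.node (.node (.leaf 180050010)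 (.leaf 45211895)) (.node (.leaf 80522797) (.leaf 0))) (.node (.node (.leaf 33407950) (.leaf 0)) (.node (.leaf 198467325) (.leaf 0))))) (.node (.node (.node (.node (.leaf 123710707) (.leaf 6106702)) (.node (.leaf 167165028) (.leaf 0))) (.node (.node (.leaf 1097263) (.leaf 0)) (.node (.leaf 103857903) (.leaf 0)))) (.node (.node (.node (.leaf 7982735) (.leaf 0)) (.node (.leaf 71780183) (.leaf 0))) (.node (.node (.leaf 131117247) (.leaf 0)) (.node (.leaf 114591895) (.leaf 0))))))) (.node (.node (.node (.node (.node (.node (.leaf 129020459) (.leaf 5087797)) (.node (.leaf 188105572) (.leaf 0))) (.node (.node (.leaf 6486354) (.leaf 0)) (.node (.leaf 243680573) (.leaf 0)))) (.node (.node (.node (.leaf 137537500) (.leaf 203693750)) (.node (.leaf 185995303) (.leaf 0))) (.node (.node (.leaf 194742278) (.leaf 0)) (.node (.leaf 128415451) (.leaf 0))))) (.node (.node (.node (.node (.leaf 234040850) (.leaf 223087303)) (.node (.leaf 204947761) (.leaf 0))) (.node (.node (.leaf 219649928) (.leaf 0)) (.node (.leaf 71912420)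 (.leaf 0)))) (.node (.node (.node (.leaf 9304087) (.leaf 36700000)) (.node (.leaf 198453156) (.leaf 0))) (.node (.node (.leaf 78496082) (.leaf 0)) (.node (.leaf 166994679) (.leaf 0)))))) (.node (.node (.node (.node (.node (.leaf 107462811) (.leaf 4220818)) (.node (.leaf 4386530) (.leaf 0))) (.node (.node (.leaf 145430977) (.leaf 0)) (.node (.leaf 45211895) (.leaf 0)))) (.node (.node (.node (.leaf 196743765) (.leaf 24803125)) (.node (.leaf 79277318) (.leaf 0))) (.node (.node (.leaf 131512202) (.leaf 0)) (.node (.leaf 77548854) (.leaf 0))))) (.node (.node (.node (.node (.leaf 786078) (.leaf 61017908)) (.node (.leaf 14806027) (.leaf 0))) (.node (.node (.leaf 60948646) (.leaf 0)) (.node (.leaf 242355337) (.leaf 0)))) (.node (.node (.node (.leaf 61417082) (.leaf 0)) (.node (.leaf 103169677) (.leaf 0))) (.node (.node (.leaf 175192353) (.leaf 0)) (.node (.leaf 41041890) (.leaf 0))))))))))) (.node (.node (.node (.node (.node (.node (.node (.node (.node (.node (.leaf 195484768) (.leaf 37096890)) (.node (.leaf 137453538)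 (.leaf 0))) (.node (.node (.leaf 136687428) (.leaf 0)) (.node (.leaf 53585454) (.leaf 0)))) (.node (.node (.node (.leaf 30758477) (.leaf 42869682)) (.node (.leaf 171139471) (.leaf 0))) (.node (.node (.leaf 1726008) (.leaf 0)) (.node (.leaf 127669224) (.leaf 0))))) (.node (.node (.node (.node (.leaf 109413803) (.leaf 220274679)) (.node (.leaf 162080127) (.leaf 0))) (.node (.node (.leaf 175134062) (.leaf 0)) (.node (.leaf 114028750) (.leaf 0)))) (.node (.node (.node (.leaf 133740635) (.leaf 5081250)) (.node (.leaf 123781724) (.leaf 0))) (.node (.node (.leaf 6024047) (.leaf 0)) (.node (.leaf 132106202) (.leaf 0)))))) (.node (.node (.node (.node (.node (.leaf 216254200) (.leaf 51918879)) (.node (.leaf 32648945) (.leaf 0))) (.node (.node (.leaf 1097263) (.leaf 0)) (.node (.leaf 4151733) (.leaf 0)))) (.node (.node (.node (.leaf 83800015) (.leaf 27698755)) (.node (.leaf 133708660) (.leaf 0))) (.node (.node (.leaf 27535129) (.leaf 0)) (.node (.leaf 60547014) (.leaf 0))))) (.node (.node (.node (.node (.leaf 186856628)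 (.leaf 174202196)) (.node (.leaf 28386205) (.leaf 0))) (.node (.node (.leaf 169381527) (.leaf 0)) (.node (.leaf 3374832) (.leaf 0)))) (.node (.node (.node (.leaf 181375306) (.leaf 0)) (.node (.leaf 84508040) (.leaf 0))) (.node (.node (.leaf 225136097) (.leaf 0)) (.node (.leaf 146535944) (.leaf 0))))))) (.node (.node (.node (.node (.node (.node (.leaf 173760450) (.leaf 123859433)) (.node (.leaf 39170490) (.leaf 0))) (.node (.node (.leaf 173522472) (.leaf 0)) (.node (.leaf 15622376) (.leaf 0)))) (.node (.node (.node (.leaf 626394) (.leaf 131385077)) (.node (.leaf 1808041) (.leaf 0))) (.node (.node (.leaf 202480929) (.leaf 0)) (.node (.leaf 157786847) (.leaf 0))))) (.node (.node (.node (.node (.leaf 236955104) (.leaf 152314051)) (.node (.leaf 200416278) (.leaf 0))) (.node (.node (.leaf 177475932) (.leaf 0)) (.node (.leaf 235108770) (.leaf 0)))) (.node (.node (.node (.leaf 42605010) (.leaf 7740635)) (.node (.leaf 224262358) (.leaf 0))) (.node (.node (.leaf 104800457) (.leaf 0)) (.node (.leaf 33251994) (.leaf 0))))))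 (.node (.node (.node (.node (.node (.leaf 4544592) (.leaf 123239694)) (.node (.leaf 5165358) (.leaf 0))) (.node (.node (.leaf 2978053) (.leaf 0)) (.node (.leaf 198687500) (.leaf 0)))) (.node (.node (.node (.leaf 168703755) (.leaf 39165020)) (.node (.leaf 106136602) (.leaf 0))) (.node (.node (.leaf 118705473) (.leaf 0)) (.node (.leaf 167128568) (.leaf 0))))) (.node (.node (.node (.node (.leaf 51918879) (.leaf 81381563)) (.node (.leaf 191930815) (.leaf 0))) (.node (.node (.leaf 170507801) (.leaf 0)) (.node (.leaf 25657810) (.leaf 0)))) (.node (.node (.node (.leaf 172824193) (.leaf 0)) (.node (.leaf 139692167) (.leaf 0))) (.node (.node (.leaf 173522472) (.leaf 0)) (.node (.leaf 106055005) (.leaf 0)))))))) (.node (.node (.node (.node (.node (.node (.node (.leaf 242355337) (.leaf 39168436)) (.node (.leaf 28386205) (.leaf 0))) (.node (.node (.leaf 1265318) (.leaf 0)) (.node (.leaf 143366577) (.leaf 0)))) (.node (.node (.node (.leaf 119203933) (.leaf 64594605)) (.node (.leaf 172435711) (.leaf 0))) (.node (.node (.leaf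 4694452) (.leaf 0)) (.node (.leaf 145347563) (.leaf 0))))) (.node (.node (.node (.node (.leaf 20897105) (.leaf 30758477)) (.node (.leaf 3360175) (.leaf 0))) (.node (.node (.leaf 100651086) (.leaf 0)) (.node (.leaf 8835005) (.leaf 0)))) (.node (.node (.node (.leaf 243851885) (.leaf 127394380)) (.node (.leaf 167569421) (.leaf 0))) (.node (.node (.leaf 145430977) (.leaf 0)) (.node (.leaf 7584313) (.leaf 0)))))) (.node (.node (.node (.node (.node (.leaf 152314051) (.leaf 241259672)) (.node (.leaf 19445876) (.leaf 0))) (.node (.node (.leaf 165405488) (.leaf 0)) (.node (.leaf 17802563) (.leaf 0)))) (.node (.node (.node (.leaf 218860005) (.leaf 8212500)) (.node (.leaf 154736217) (.leaf 0))) (.node (.node (.leaf 68296399) (.leaf 0)) (.node (.leaf 174202196) (.leaf 0))))) (.node (.node (.node (.node (.leaf 180906347) (.leaf 20511028)) (.node (.leaf 227793504) (.leaf 0))) (.node (.node (.leaf 107935451) (.leaf 0)) (.node (.leaf 56402609) (.leaf 0)))) (.node (.node (.node (.leaf 4151733) (.leaf 0)) (.node (.leaf 3986081)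 (.leaf 0))) (.node (.node (.leaf 127139694) (.leaf 0)) (.node (.leaf 129020459) (.leaf 0))))))) (.node (.node (.node (.node (.node (.node (.leaf 191377142) (.leaf 136352068)) (.node (.leaf 80674021) (.leaf 0))) (.node (.node (.leaf 127139694) (.leaf 0)) (.node (.leaf 157937867) (.leaf 0)))) (.node (.node (.node (.leaf 66021875) (.leaf 98320403)) (.node (.leaf 218398633) (.leaf 0))) (.node (.node (.leaf 119022376) (.leaf 0)) (.node (.leaf 131202953) (.leaf 0))))) (.node (.node (.node (.node (.leaf 223716700) (.leaf 223943513)) (.node (.leaf 37560127) (.leaf 0))) (.node (.node (.leaf 106136602) (.leaf 0)) (.node (.leaf 165915041) (.leaf 0)))) (.node (.node (.node (.leaf 7821551) (.leaf 227004390)) (.node (.leaf 33407950) (.leaf 0))) (.node (.node (.leaf 176384504) (.leaf 0)) (.node (.leaf 234040850) (.leaf 0)))))) (.node (.node (.node (.node (.node (.leaf 173790053) (.leaf 193417577)) (.node (.leaf 169524451) (.leaf 0))) (.node (.node (.leaf 167569421) (.leaf 0)) (.node (.leaf 194591895) (.leaf 0)))) (.node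 (.node (.node (.leaf 195051880) (.leaf 4309375)) (.node (.leaf 155990877) (.leaf 0))) (.node (.node (.leaf 27776706) (.leaf 0)) (.node (.leaf 181068422) (.leaf 0))))) (.node (.node (.node (.node (.leaf 103245252) (.leaf 167826653)) (.node (.leaf 32648945) (.leaf 0))) (.node (.node (.leaf 142219758) (.leaf 0)) (.node (.leaf 110506648) (.leaf 0)))) (.node (.node (.node (.leaf 137453538) (.leaf 0)) (.node (.leaf 170915451) (.leaf 0))) (.node (.node (.leaf 15460183) (.leaf 0)) (.node (.leaf 196743765) (.leaf 0))))))))) (.node (.node (.node (.node (.node (.node (.node (.node (.leaf 223943513) (.leaf 6256250)) (.node (.leaf 8753075) (.leaf 0))) (.node (.node (.leaf 1262767) (.leaf 0)) (.node (.leaf 84660304) (.leaf 0)))) (.node (.node (.node (.leaf 170292604) (.leaf 29080452)) (.node (.leaf 178328400) (.leaf 0))) (.node (.node (.leaf 165405488) (.leaf 0)) (.node (.leaf 103245252) (.leaf 0))))) (.node (.node (.node (.node (.leaf 21519303) (.leaf 168118879)) (.node (.leaf 232476929) (.leaf 0))) (.node (.node (.leaf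 1963579) (.leaf 0)) (.node (.leaf 116521250) (.leaf 0)))) (.node (.node (.node (.leaf 3521875) (.leaf 110123145)) (.node (.leaf 57484499) (.leaf 0))) (.node (.node (.leaf 9150827) (.leaf 0)) (.node (.leaf 5941607) (.leaf 0)))))) (.node (.node (.node (.node (.node (.leaf 149137175) (.leaf 107210450)) (.node (.leaf 143079878) (.leaf 0))) (.node (.node (.leaf 27535129) (.leaf 0)) (.node (.leaf 136968188) (.leaf 0)))) (.node (.node (.node (.leaf 46110005) (.leaf 171431265)) (.node (.leaf 118705473) (.leaf 0))) (.node (.node (.leaf 637147) (.leaf 0)) (.node (.leaf 129143193) (.leaf 0))))) (.node (.node (.node (.node (.leaf 102539243) (.leaf 236955104)) (.node (.leaf 132889079) (.leaf 0))) (.node (.node (.leaf 6413482) (.leaf 0)) (.node (.leaf 3753355) (.leaf 0)))) (.node (.node (.node (.leaf 150211028) (.leaf 0)) (.node (.leaf 7979200) (.leaf 0))) (.node (.node (.leaf 187863776) (.leaf 0)) (.node (.leaf 173985087) (.leaf 0))))))) (.node (.node (.node (.node (.node (.node (.leaf 238612420) (.leaf 52799052)) (.node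 (.leaf 165050033) (.leaf 0))) (.node (.node (.leaf 188259688) (.leaf 0)) (.node (.leaf 637147) (.leaf 0)))) (.node (.node (.node (.leaf 220274679) (.leaf 232391126)) (.node (.leaf 165050033) (.leaf 0))) (.node (.node (.leaf 7514401) (.leaf 0)) (.node (.leaf 51868035) (.leaf 0))))) (.node (.node (.node (.node (.leaf 243364219) (.leaf 84901076)) (.node (.leaf 3360175) (.leaf 0))) (.node (.node (.leaf 198094224) (.leaf 0)) (.node (.leaf 21519303) (.leaf 0)))) (.node (.node (.node (.leaf 7425000) (.leaf 39974375)) (.node (.leaf 70683573) (.leaf 0))) (.node (.node (.leaf 226612878) (.leaf 0)) (.node (.leaf 196669163) (.leaf 0)))))) (.node (.node (.node (.node (.node (.leaf 142693626) (.leaf 44790272)) (.node (.leaf 133480954) (.leaf 0))) (.node (.node (.leaf 57484499) (.leaf 0)) (.node (.leaf 133453125) (.leaf 0)))) (.node (.node (.node (.leaf 8680010) (.leaf 18038765)) (.node (.leaf 32867824) (.leaf 0))) (.node (.node (.leaf 136687428) (.leaf 0)) (.node (.leaf 120116332) (.leaf 0))))) (.node (.node (.node (.node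 (.leaf 15513025) (.leaf 70741150)) (.node (.leaf 130710043) (.leaf 0))) (.node (.node (.leaf 216132837) (.leaf 0)) (.node (.leaf 18585311) (.leaf 0)))) (.node (.node (.node (.leaf 216105454) (.leaf 0)) (.node (.leaf 121993678) (.leaf 0))) (.node (.node (.leaf 168075092) (.leaf 0)) (.node (.leaf 5081250) (.leaf 0)))))))) (.node (.node (.node (.node (.node (.node (.node (.leaf 171194829) (.leaf 170723462)) (.node (.leaf 317088) (.leaf 0))) (.node (.node (.leaf 185995303) (.leaf 0)) (.node (.leaf 135143813) (.leaf 0)))) (.node (.node (.node (.leaf 6106702) (.leaf 126597142)) (.node (.leaf 13898979) (.leaf 0))) (.node (.node (.leaf 230058229) (.leaf 0)) (.node (.leaf 34354221) (.leaf 0))))) (.node (.node (.node (.node (.leaf 26841756) (.leaf 197753053)) (.node (.leaf 133645059) (.leaf 0))) (.node (.node (.leaf 230058229) (.leaf 0)) (.node (.leaf 229124375) (.leaf 0)))) (.node (.node (.node (.leaf 10150630) (.leaf 31382520)) (.node (.leaf 1567332) (.leaf 0))) (.node (.node (.leaf 236801131) (.leaf 0)) (.node (.leaf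 171473332) (.leaf 0)))))) (.node (.node (.node (.node (.node (.leaf 115908303) (.leaf 51868035)) (.node (.leaf 133480954) (.leaf 0))) (.node (.node (.leaf 170710469) (.leaf 0)) (.node (.leaf 174491901) (.leaf 0)))) (.node (.node (.node (.leaf 167624395) (.leaf 61323140)) (.node (.leaf 63757212) (.leaf 0))) (.node (.node (.leaf 134679778) (.leaf 0)) (.node (.leaf 223943513) (.leaf 0))))) (.node (.node (.node (.node (.leaf 81459050) (.leaf 168596098)) (.node (.leaf 224486009) (.leaf 0))) (.node (.node (.leaf 130683229) (.leaf 0)) (.node (.leaf 242188016) (.leaf 0)))) (.node (.node (.node (.leaf 202371551) (.leaf 0)) (.node (.leaf 198421480) (.leaf 0))) (.node (.node (.leaf 153263045) (.leaf 0)) (.node (.leaf 39974375) (.leaf 0))))))) (.node (.node (.node (.node (.node (.node (.leaf 136984652) (.leaf 227610651)) (.node (.leaf 126828600) (.leaf 0))) (.node (.node (.leaf 62044219) (.leaf 0)) (.node (.leaf 159744778) (.leaf 0)))) (.node (.node (.node (.leaf 203693750) (.leaf 222541452)) (.node (.leaf 169381527)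 (.leaf 0))) (.node (.node (.leaf 130041718) (.leaf 0)) (.node (.leaf 145195558) (.leaf 0))))) (.node (.node (.node (.node (.leaf 34193274) (.leaf 227550972)) (.node (.leaf 193102533) (.leaf 0))) (.node (.node (.leaf 233395597) (.leaf 0)) (.node (.leaf 244064122) (.leaf 0)))) (.node (.node (.node (.leaf 49606638) (.leaf 2743750)) (.node (.leaf 6097928) (.leaf 0))) (.node (.node (.leaf 135143813) (.leaf 0)) (.node (.leaf 168019558) (.leaf 0)))))) (.node (.node (.node (.node (.node (.leaf 117617957) (.leaf 166310092)) (.node (.leaf 555239) (.leaf 0))) (.node (.node (.leaf 173712175) (.leaf 0)) (.node (.leaf 61323140) (.leaf 0)))) (.node (.node (.node (.leaf 31382520) (.leaf 234850000)) (.node (.leaf 215658427) (.leaf 0))) (.node (.node (.leaf 49129685) (.leaf 0)) (.node (.leaf 109029838) (.leaf 0))))) (.node (.node (.node (.node (.leaf 143244632) (.leaf 136060202)) (.node (.leaf 34119434) (.leaf 0))) (.node (.node (.leaf 171598618) (.leaf 0)) (.node (.leaf 229031342) (.leaf 0)))) (.node (.node (.node (.leaf 133708660)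 (.leaf 0)) (.node (.leaf 137453538) (.leaf 0))) (.node (.node (.leaf 232539082) (.leaf 0)) (.node (.leaf 42605010) (.leaf 0)))))))))) (.node (.node (.node (.node (.node (.node (.node (.node (.node (.leaf 175278596) (.leaf 3448140)) (.node (.leaf 128109600) (.leaf 0))) (.node (.node (.leaf 171906170) (.leaf 0)) (.node (.leaf 224263933) (.leaf 0)))) (.node (.node (.node (.leaf 7825277) (.leaf 115908303)) (.node (.leaf 167539335) (.leaf 0))) (.node (.node (.leaf 198691364) (.leaf 0)) (.node (.leaf 223087303) (.leaf 0))))) (.node (.node (.node (.node (.leaf 57489675) (.leaf 104017954)) (.node (.leaf 555239) (.leaf 0))) (.node (.node (.leaf 38337639) (.leaf 0)) (.node (.leaf 167624395) (.leaf 0)))) (.node (.node (.node (.leaf 188653750) (.leaf 243851885)) (.node (.leaf 41278842) (.leaf 0))) (.node (.node (.leaf 147782344) (.leaf 0)) (.node (.leaf 1564401) (.leaf 0)))))) (.node (.node (.node (.node (.node (.leaf 81232142) (.leaf 80396803)) (.node (.leaf 149504522) (.leaf 0))) (.node (.node (.leaf 4376653) (.leaf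 0)) (.node (.leaf 7590932) (.leaf 0)))) (.node (.node (.node (.leaf 150291895) (.leaf 120280010)) (.node (.leaf 117934223) (.leaf 0))) (.node (.node (.leaf 174157077) (.leaf 0)) (.node (.leaf 199944421) (.leaf 0))))) (.node (.node (.node (.node (.leaf 101917353) (.leaf 159580925)) (.node (.leaf 130710043) (.leaf 0))) (.node (.node (.leaf 174157077) (.leaf 0)) (.node (.leaf 1186552) (.leaf 0)))) (.node (.node (.node (.leaf 3526303) (.leaf 0)) (.node (.leaf 131512202) (.leaf 0))) (.node (.node (.leaf 77232725) (.leaf 0)) (.node (.leaf 81232142) (.leaf 0))))))) (.node (.node (.node (.node (.node (.node (.leaf 171686775) (.leaf 20897105)) (.node (.leaf 9146115) (.leaf 0))) (.node (.node (.leaf 198691364) (.leaf 0)) (.node (.leaf 227621003) (.leaf 0)))) (.node (.node (.node (.leaf 112404682) (.leaf 42285428)) (.node (.leaf 127760964) (.leaf 0))) (.node (.node (.leaf 57926170) (.leaf 0)) (.node (.leaf 241259672) (.leaf 0))))) (.node (.node (.node (.node (.leaf 7593097) (.leaf 76054138)) (.node (.leaf 45183026) (.leaf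 0))) (.node (.node (.leaf 168075092) (.leaf 0)) (.node (.leaf 77780010) (.leaf 0)))) (.node (.node (.node (.leaf 127586895) (.leaf 76050625)) (.node (.leaf 175134062) (.leaf 0))) (.node (.node (.leaf 129066077) (.leaf 0)) (.node (.leaf 66263445) (.leaf 0)))))) (.node (.node (.node (.node (.node (.leaf 127146313) (.leaf 136306068)) (.node (.leaf 167165028) (.leaf 0))) (.node (.node (.leaf 227943025) (.leaf 0)) (.node (.leaf 238681250) (.leaf 0)))) (.node (.node (.node (.leaf 23934385) (.leaf 229124375)) (.node (.leaf 232952068) (.leaf 0))) (.node (.node (.leaf 175493392) (.leaf 0)) (.node (.leaf 41269839) (.leaf 0))))) (.node (.node (.node (.node (.leaf 136694069) (.leaf 152477152)) (.node (.leaf 167258566) (.leaf 0))) (.node (.node (.leaf 6100311) (.leaf 0)) (.node (.leaf 131391592) (.leaf 0)))) (.node (.node (.node (.leaf 76215877) (.leaf 0)) (.node (.leaf 220515451) (.leaf 0))) (.node (.node (.leaf 162088053) (.leaf 0)) (.node (.leaf 14518145) (.leaf 0)))))))) (.node (.node (.node (.node (.node (.node (.node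 (.leaf 34354221) (.leaf 128415451)) (.node (.leaf 172065234) (.leaf 0))) (.node (.node (.leaf 176384504) (.leaf 0)) (.node (.leaf 2193040) (.leaf 0)))) (.node (.node (.node (.leaf 81697827) (.leaf 185600469)) (.node (.leaf 19445876) (.leaf 0))) (.node (.node (.leaf 77554627) (.leaf 0)) (.node (.leaf 173819097) (.leaf 0))))) (.node (.node (.node (.node (.leaf 168869712) (.leaf 68126276)) (.node (.leaf 6341667) (.leaf 0))) (.node (.node (.leaf 162088053) (.leaf 0)) (.node (.leaf 4384390) (.leaf 0)))) (.node (.node (.node (.leaf 173471250) (.leaf 188653750)) (.node (.leaf 168075092) (.leaf 0))) (.node (.node (.leaf 8288082) (.leaf 0)) (.node (.leaf 8525470) (.leaf 0)))))) (.node (.node (.node (.node (.node (.leaf 160528879) (.leaf 157786847)) (.node (.leaf 113244960) (.leaf 0))) (.node (.node (.leaf 135723543) (.leaf 0)) (.node (.leaf 150211028) (.leaf 0)))) (.node (.node (.node (.leaf 49834385) (.leaf 3290000)) (.node (.leaf 2196550) (.leaf 0))) (.node (.node (.leaf 405323) (.leaf 0)) (.node (.leaf 227550972)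 (.leaf 0))))) (.node (.node (.node (.node (.leaf 134061693) (.leaf 135100501)) (.node (.leaf 118001652) (.leaf 0))) (.node (.node (.leaf 77232725) (.leaf 0)) (.node (.leaf 135888528) (.leaf 0)))) (.node (.node (.node (.leaf 33407950) (.leaf 0)) (.node (.leaf 151544073) (.leaf 0))) (.node (.node (.leaf 123781724) (.leaf 0)) (.node (.leaf 52650000) (.leaf 0))))))) (.node (.node (.node (.node (.node (.node (.leaf 82634303) (.leaf 243443582)) (.node (.leaf 166826177) (.leaf 0))) (.node (.node (.leaf 72298593) (.leaf 0)) (.node (.leaf 161340428) (.leaf 0)))) (.node (.node (.node (.leaf 139184375) (.leaf 170292604)) (.node (.leaf 129983402) (.leaf 0))) (.node (.node (.leaf 196972142) (.leaf 0)) (.node (.leaf 169287227) (.leaf 0))))) (.node (.node (.node (.node (.leaf 126597142) (.leaf 129143193)) (.node (.leaf 26915096) (.leaf 0))) (.node (.node (.leaf 4613854) (.leaf 0)) (.node (.leaf 129085460) (.leaf 0)))) (.node (.node (.node (.leaf 106110388) (.leaf 24331250)) (.node (.leaf 176689057) (.leaf 0))) (.node (.node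 (.leaf 155990877) (.leaf 0)) (.node (.leaf 223791092) (.leaf 0)))))) (.node (.node (.node (.node (.node (.leaf 60547014) (.leaf 229121517)) (.node (.leaf 130710043) (.leaf 0))) (.node (.node (.leaf 133996561) (.leaf 0)) (.node (.leaf 6653125) (.leaf 0)))) (.node (.node (.node (.leaf 132750000) (.leaf 179634385)) (.node (.leaf 131117247) (.leaf 0))) (.node (.node (.leaf 4462120) (.leaf 0)) (.node (.leaf 18120323) (.leaf 0))))) (.node (.node (.node (.node (.leaf 222541452) (.leaf 150366126)) (.node (.leaf 60165349) (.leaf 0))) (.node (.node (.leaf 198421480) (.leaf 0)) (.node (.leaf 168478586) (.leaf 0)))) (.node (.node (.node (.leaf 187474679) (.leaf 0)) (.node (.leaf 233395597) (.leaf 0))) (.node (.node (.leaf 4151733) (.leaf 0)) (.node (.leaf 127394380) (.leaf 0))))))))) (.node (.node (.node (.node (.node (.node (.node (.node (.leaf 168478586) (.leaf 110123145)) (.node (.leaf 13898979) (.leaf 0))) (.node (.node (.leaf 49129685) (.leaf 0)) (.node (.leaf 172876994) (.leaf 0)))) (.node (.node (.node (.leaf 8525470)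 (.leaf 123586118)) (.node (.leaf 234776056) (.leaf 0))) (.node (.node (.leaf 4072344) (.leaf 0)) (.node (.leaf 195484768) (.leaf 0))))) (.node (.node (.node (.node (.leaf 172678928) (.leaf 145579200)) (.node (.leaf 4386530) (.leaf 0))) (.node (.node (.leaf 171598618) (.leaf 0)) (.node (.leaf 27698755) (.leaf 0)))) (.node (.node (.node (.leaf 8838125) (.leaf 191146250)) (.node (.leaf 155213608) (.leaf 0))) (.node (.node (.leaf 168890577) (.leaf 0)) (.node (.leaf 626394) (.leaf 0)))))) (.node (.node (.node (.node (.node (.leaf 201189203) (.leaf 131202953)) (.node (.leaf 10145910) (.leaf 0))) (.node (.node (.leaf 175192353) (.leaf 0)) (.node (.leaf 1652167) (.leaf 0)))) (.node (.node (.node (.leaf 6653125) (.leaf 116521250)) (.node (.leaf 219649928) (.leaf 0))) (.node (.node (.leaf 45574972) (.leaf 0)) (.node (.leaf 97702336) (.leaf 0))))) (.node (.node (.node (.node (.leaf 67898068) (.leaf 58578952)) (.node (.leaf 171192292) (.leaf 0))) (.node (.node (.leaf 166934248) (.leaf 0)) (.node (.leaf 4220818) (.leaf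 0)))) (.node (.node (.node (.leaf 224263933) (.leaf 0)) (.node (.leaf 230058229) (.leaf 0))) (.node (.node (.leaf 167699128) (.leaf 0)) (.node (.leaf 77624808) (.leaf 0))))))) (.node (.node (.node (.node (.node (.node (.leaf 56761354) (.leaf 156453603)) (.node (.leaf 169942926) (.leaf 0))) (.node (.node (.leaf 131463575) (.leaf 0)) (.node (.leaf 109024202) (.leaf 0)))) (.node (.node (.node (.leaf 24331250) (.leaf 131337175)) (.node (.leaf 194964850) (.leaf 0))) (.node (.node (.leaf 215437175) (.leaf 0)) (.node (.leaf 28625303) (.leaf 0))))) (.node (.node (.node (.node (.leaf 79579678) (.leaf 169935957)) (.node (.leaf 67022713) (.leaf 0))) (.node (.node (.leaf 128322823) (.leaf 0)) (.node (.leaf 49752009) (.leaf 0)))) (.node (.node (.node (.leaf 125537515) (.leaf 60300630)) (.node (.leaf 172105408) (.leaf 0))) (.node (.node (.leaf 135723543) (.leaf 0)) (.node (.leaf 101917353) (.leaf 0)))))) (.node (.node (.node (.node (.node (.leaf 32391077) (.leaf 171194829)) (.node (.leaf 1726200) (.leaf 0))) (.node (.node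 (.leaf 224262358) (.leaf 0)) (.node (.leaf 60478125) (.leaf 0)))) (.node (.node (.node (.leaf 5478125) (.leaf 167744380)) (.node (.leaf 305) (.leaf 0))) (.node (.node (.leaf 232952068) (.leaf 0)) (.node (.leaf 129894059) (.leaf 0))))) (.node (.node (.node (.node (.leaf 136060202) (.leaf 76608229)) (.node (.leaf 6963547) (.leaf 0))) (.node (.node (.leaf 143366577) (.leaf 0)) (.node (.leaf 181464448) (.leaf 0)))) (.node (.node (.node (.leaf 153881379) (.leaf 0)) (.node (.leaf 174157077) (.leaf 0))) (.node (.node (.leaf 128322823) (.leaf 0)) (.node (.leaf 84346270) (.leaf 0)))))))) (.node (.node (.node (.node (.node (.node (.node (.leaf 120116332) (.leaf 186856628)) (.node (.leaf 555239) (.leaf 0))) (.node (.node (.leaf 162549647) (.leaf 0)) (.node (.leaf 153881379) (.leaf 0)))) (.node (.node (.node (.leaf 174137190) (.leaf 172917824)) (.node (.leaf 132661319) (.leaf 0))) (.node (.node (.leaf 174075303) (.leaf 0)) (.node (.leaf 61342811) (.leaf 0))))) (.node (.node (.node (.node (.leaf 127505352) (.leaf 127146313))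 (.node (.leaf 172435711) (.leaf 0))) (.node (.node (.leaf 711113) (.leaf 0)) (.node (.leaf 11294375) (.leaf 0)))) (.node (.node (.node (.leaf 76050625) (.leaf 3293145)) (.node (.leaf 220667735) (.leaf 0))) (.node (.node (.leaf 174491901) (.leaf 0)) (.node (.leaf 142693626) (.leaf 0)))))) (.node (.node (.node (.node (.node (.leaf 1956728) (.leaf 28625303)) (.node (.leaf 140121997) (.leaf 0))) (.node (.node (.leaf 7666780) (.leaf 0)) (.node (.leaf 232539082) (.leaf 0)))) (.node (.node (.node (.leaf 18038765) (.leaf 131297500)) (.node (.leaf 7821551) (.leaf 0))) (.node (.node (.leaf 8295944) (.leaf 0)) (.node (.leaf 191377142) (.leaf 0))))) (.node (.node (.node (.node (.leaf 177401573) (.leaf 134812472)) (.node (.leaf 171139471) (.leaf 0))) (.node (.node (.leaf 63757212) (.leaf 0)) (.node (.leaf 159980222) (.leaf 0)))) (.node (.node (.node (.leaf 166655925) (.leaf 0)) (.node (.leaf 100353503) (.leaf 0))) (.node (.node (.leaf 70425501) (.leaf 0)) (.node (.leaf 221371885) (.leaf 0))))))) (.node (.node (.node (.node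 (.node (.node (.leaf 28625303) (.leaf 143527227)) (.node (.leaf 171192292) (.leaf 0))) (.node (.node (.leaf 198421480) (.leaf 0)) (.node (.leaf 8295944) (.leaf 0)))) (.node (.node (.node (.leaf 11294375) (.leaf 172406250)) (.node (.leaf 131801713) (.leaf 0))) (.node (.node (.leaf 185995303) (.leaf 0)) (.node (.leaf 33408590) (.leaf 0))))) (.node (.node (.node (.node (.leaf 159980222) (.leaf 97702336)) (.node (.leaf 67022713) (.leaf 0))) (.node (.node (.leaf 224306342) (.leaf 0)) (.node (.leaf 1956728) (.leaf 0)))) (.node (.node (.node (.leaf 98784061) (.leaf 171703125)) (.node (.leaf 150221517) (.leaf 0))) (.node (.node (.leaf 5715423) (.leaf 0)) (.node (.leaf 136485932) (.leaf 0)))))) (.node (.node (.node (.node (.node (.leaf 171473332) (.leaf 132817948)) (.node (.leaf 86386397) (.leaf 0))) (.node (.node (.leaf 215658427) (.leaf 0)) (.node (.leaf 195051880) (.leaf 0)))) (.node (.node (.node (.leaf 184895015) (.leaf 110192505)) (.node (.leaf 62044219) (.leaf 0))) (.node (.node (.leaf 75116901) (.leaf 0)) (.node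 (.leaf 171686775) (.leaf 0))))) (.node (.node (.node (.node (.leaf 134812472) (.leaf 81459050)) (.node (.leaf 7437401) (.leaf 0))) (.node (.node (.leaf 5626276) (.leaf 0)) (.node (.leaf 171459069) (.leaf 0)))) (.node (.node (.node (.leaf 174777420) (.leaf 0)) (.node (.leaf 9688894) (.leaf 0))) (.node (.node (.leaf 232793879) (.leaf 0)) (.node (.leaf 136455645) (.leaf 0)))))))))))) (.node (.node (.node (.node (.node (.node (.node (.node (.node (.node (.node (.leaf 17812191) (.leaf 186518125)) (.node (.leaf 176689057) (.leaf 0))) (.node (.node (.leaf 195338445) (.leaf 0)) (.node (.leaf 228491108) (.leaf 0)))) (.node (.node (.node (.leaf 8372420) (.leaf 82634303)) (.node (.leaf 6963547) (.leaf 0))) (.node (.node (.leaf 143084577) (.leaf 0)) (.node (.leaf 9538990) (.leaf 0))))) (.node (.node (.node (.node (.leaf 178184763) (.leaf 240878438)) (.node (.leaf 8753075) (.leaf 0))) (.node (.node (.leaf 195499215) (.leaf 0)) (.node (.leaf 39165020) (.leaf 0)))) (.node (.node (.node (.leaf 166675625) (.leaf 133740635))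 (.node (.leaf 122611698) (.leaf 0))) (.node (.node (.leaf 128865722) (.leaf 0)) (.node (.leaf 1721136) (.leaf 0)))))) (.node (.node (.node (.node (.node (.leaf 173985087) (.leaf 67898068)) (.node (.leaf 238153067) (.leaf 0))) (.node (.node (.leaf 9150827) (.leaf 0)) (.node (.leaf 48899830) (.leaf 0)))) (.node (.node (.node (.leaf 33588765) (.leaf 235475625)) (.node (.leaf 133577162) (.leaf 0))) (.node (.node (.leaf 130683229) (.leaf 0)) (.node (.leaf 26680934) (.leaf 0))))) (.node (.node (.node (.node (.leaf 136485932) (.leaf 171686775)) (.node (.leaf 140121997) (.leaf 0))) (.node (.node (.leaf 128676075) (.leaf 0)) (.node (.leaf 37168952) (.leaf 0)))) (.node (.node (.node (.leaf 1726008) (.leaf 0)) (.node (.leaf 49606638) (.leaf 0))) (.node (.node (.leaf 173295942) (.leaf 0)) (.node (.leaf 107462811) (.leaf 0))))))) (.node (.node (.node (.node (.node (.node (.leaf 181068422) (.leaf 60789193)) (.node (.leaf 93067) (.leaf 0))) (.node (.node (.leaf 33568440) (.leaf 0)) (.node (.leaf 57844056) (.leaf 0)))) (.node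 (.node (.node (.leaf 64294217) (.leaf 63834858)) (.node (.leaf 162080127) (.leaf 0))) (.node (.node (.leaf 139692167) (.leaf 0)) (.node (.leaf 45518975) (.leaf 0))))) (.node (.node (.node (.node (.leaf 5087797) (.leaf 120116332)) (.node (.leaf 188105572) (.leaf 0))) (.node (.node (.leaf 227621003) (.leaf 0)) (.node (.leaf 179634385) (.leaf 0)))) (.node (.node (.node (.leaf 174473145) (.leaf 3448140)) (.node (.leaf 230517812) (.leaf 0))) (.node (.node (.leaf 171467115) (.leaf 0)) (.node (.leaf 159580925) (.leaf 0)))))) (.node (.node (.node (.node (.node (.leaf 76054138) (.leaf 79579678)) (.node (.leaf 132661319) (.leaf 0))) (.node (.node (.leaf 131801713) (.leaf 0)) (.node (.leaf 66021875) (.leaf 0)))) (.node (.node (.node (.leaf 116521250) (.leaf 167515635)) (.node (.leaf 174777420) (.leaf 0))) (.node (.node (.leaf 169452237) (.leaf 0)) (.node (.leaf 16244758) (.leaf 0))))) (.node (.node (.node (.node (.leaf 173768563) (.leaf 169115553)) (.node (.leaf 166826177) (.leaf 0))) (.node (.node (.leaf 4077827) (.leaf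 0)) (.node (.leaf 7825277) (.leaf 0)))) (.node (.node (.node (.leaf 1097962) (.leaf 0)) (.node (.leaf 98784061) (.leaf 0))) (.node (.node (.leaf 243758259) (.leaf 0)) (.node (.leaf 127586895) (.leaf 0)))))))) (.node (.node (.node (.node (.node (.node (.node (.leaf 145347563) (.leaf 33101342)) (.node (.leaf 177002228) (.leaf 0))) (.node (.node (.leaf 18116700) (.leaf 0)) (.node (.leaf 1265318) (.leaf 0)))) (.node (.node (.node (.leaf 153102253) (.leaf 148261602)) (.node (.leaf 132889079) (.leaf 0))) (.node (.node (.leaf 1262767) (.leaf 0)) (.node (.leaf 152477152) (.leaf 0))))) (.node (.node (.node (.node (.leaf 179982961) (.leaf 234040850)) (.node (.leaf 7349927) (.leaf 0))) (.node (.node (.leaf 243758259) (.leaf 0)) (.node (.leaf 160371270) (.leaf 0)))) (.node (.node (.node (.leaf 177841895) (.leaf 123168765)) (.node (.leaf 127710877) (.leaf 0))) (.node (.node (.leaf 2193040) (.leaf 0)) (.node (.leaf 127146313) (.leaf 0)))))) (.node (.node (.node (.node (.node (.leaf 133702448) (.leaf 215814827)) (.node (.leaf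 128193328) (.leaf 0))) (.node (.node (.leaf 4077827) (.leaf 0)) (.node (.leaf 85525827) (.leaf 0)))) (.node (.node (.node (.leaf 229124375) (.leaf 5478125)) (.node (.leaf 78626) (.leaf 0))) (.node (.node (.leaf 860592) (.leaf 0)) (.node (.leaf 123586118) (.leaf 0))))) (.node (.node (.node (.node (.leaf 39168436) (.leaf 173790053)) (.node (.leaf 131141796) (.leaf 0))) (.node (.node (.leaf 136285178) (.leaf 0)) (.node (.leaf 8754073) (.leaf 0)))) (.node (.node (.node (.leaf 198453156) (.leaf 0)) (.node (.leaf 173522472) (.leaf 0))) (.node (.node (.leaf 53585454) (.leaf 0)) (.node (.leaf 173790053) (.leaf 0))))))) (.node (.node (.node (.node (.node (.node (.leaf 72765754) (.leaf 12180525)) (.node (.leaf 118001652) (.leaf 0))) (.node (.node (.leaf 151544073) (.leaf 0)) (.node (.leaf 155696569) (.leaf 0)))) (.node (.node (.node (.leaf 165987500) (.leaf 131353558)) (.node (.leaf 3360175) (.leaf 0))) (.node (.node (.leaf 32867824) (.leaf 0)) (.node (.leaf 64294217) (.leaf 0))))) (.node (.node (.node (.node (.leaf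 20511028) (.leaf 132106202)) (.node (.leaf 240010896) (.leaf 0))) (.node (.node (.leaf 2424261) (.leaf 0)) (.node (.leaf 173768563) (.leaf 0)))) (.node (.node (.node (.leaf 53866701) (.leaf 170519375)) (.node (.leaf 15460183) (.leaf 0))) (.node (.node (.leaf 220667735) (.leaf 0)) (.node (.leaf 201189203) (.leaf 0)))))) (.node (.node (.node (.node (.node (.leaf 169287227) (.leaf 130504952)) (.node (.leaf 1726200) (.leaf 0))) (.node (.node (.leaf 216132837) (.leaf 0)) (.node (.leaf 46110005) (.leaf 0)))) (.node (.node (.node (.leaf 167515635) (.leaf 83800015)) (.node (.leaf 162088053) (.leaf 0))) (.node (.node (.leaf 6252182) (.leaf 0)) (.node (.leaf 3600305) (.leaf 0))))) (.node (.node (.node (.node (.leaf 127669224) (.leaf 109413803)) (.node (.leaf 204947761) (.leaf 0))) (.node (.node (.leaf 182548457) (.leaf 0)) (.node (.leaf 20897105) (.leaf 0)))) (.node (.node (.node (.leaf 41278842) (.leaf 0)) (.node (.leaf 57926170) (.leaf 0))) (.node (.node (.leaf 7590932) (.leaf 0)) (.node (.leaf 59855625) (.leaf 0)))))))))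 (.node (.node (.node (.node (.node (.node (.node (.node (.leaf 181464448) (.leaf 3295630)) (.node (.leaf 178328400) (.leaf 0))) (.node (.node (.leaf 22303641) (.leaf 0)) (.node (.leaf 31546751) (.leaf 0)))) (.node (.node (.node (.leaf 60789193) (.leaf 132929401)) (.node (.leaf 135650679) (.leaf 0))) (.node (.node (.leaf 109024202) (.leaf 0)) (.node (.leaf 4535808) (.leaf 0))))) (.node (.node (.node (.node (.leaf 133488975) (.leaf 168019558)) (.node (.leaf 4778953) (.leaf 0))) (.node (.node (.leaf 8295944) (.leaf 0)) (.node (.leaf 135688770) (.leaf 0)))) (.node (.node (.node (.leaf 6256250) (.leaf 173471250)) (.node (.leaf 78496082) (.leaf 0))) (.node (.node (.leaf 227943025) (.leaf 0)) (.node (.leaf 169935957) (.leaf 0)))))) (.node (.node (.node (.node (.node (.leaf 168433087) (.leaf 34193274)) (.node (.leaf 128193328) (.leaf 0))) (.node (.node (.leaf 128109600) (.leaf 0)) (.node (.leaf 860592) (.leaf 0)))) (.node (.node (.node (.leaf 128733750) (.leaf 128733750)) (.node (.leaf 128322823) (.leaf 0))) (.node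 (.node (.leaf 70274058) (.leaf 0)) (.node (.leaf 115908303) (.leaf 0))))) (.node (.node (.node (.node (.leaf 168659406) (.leaf 18749702)) (.node (.leaf 127870815) (.leaf 0))) (.node (.node (.leaf 104800457) (.leaf 0)) (.node (.leaf 196814271) (.leaf 0)))) (.node (.node (.node (.leaf 171467115) (.leaf 0)) (.node (.leaf 102463001) (.leaf 0))) (.node (.node (.leaf 114800952) (.leaf 0)) (.node (.leaf 18749702) (.leaf 0))))))) (.node (.node (.node (.node (.node (.node (.leaf 226294577) (.leaf 177401573)) (.node (.leaf 120512393) (.leaf 0))) (.node (.node (.leaf 187863776) (.leaf 0)) (.node (.leaf 171598618) (.leaf 0)))) (.node (.node (.node (.leaf 229121517) (.leaf 243364219)) (.node (.leaf 32648945) (.leaf 0))) (.node (.node (.leaf 168488327) (.leaf 0)) (.node (.leaf 24864228) (.leaf 0))))) (.node (.node (.node (.node (.leaf 166721723) (.leaf 41269839)) (.node (.leaf 193102533) (.leaf 0))) (.node (.node (.leaf 127710877) (.leaf 0)) (.node (.leaf 42449844) (.leaf 0)))) (.node (.node (.node (.leaf 221371885) (.leaf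 3137500)) (.node (.leaf 198691364) (.leaf 0))) (.node (.node (.leaf 162480837) (.leaf 0)) (.node (.leaf 236955104) (.leaf 0)))))) (.node (.node (.node (.node (.node (.leaf 63834858) (.leaf 71912420)) (.node (.leaf 317088) (.leaf 0))) (.node (.node (.leaf 79277318) (.leaf 0)) (.node (.leaf 165987500) (.leaf 0)))) (.node (.node (.node (.leaf 4384390) (.leaf 130701880)) (.node (.leaf 2424261) (.leaf 0))) (.node (.node (.leaf 103081480) (.leaf 0)) (.node (.leaf 168869712) (.leaf 0))))) (.node (.node (.node (.node (.leaf 150366126) (.leaf 105978254)) (.node (.leaf 9146115) (.leaf 0))) (.node (.node (.leaf 80787563) (.leaf 0)) (.node (.leaf 156453603) (.leaf 0)))) (.node (.node (.node (.leaf 202480929) (.leaf 0)) (.node (.leaf 119022376) (.leaf 0))) (.node (.node (.leaf 72223712) (.leaf 0)) (.node (.leaf 3521875) (.leaf 0)))))))) (.node (.node (.node (.node (.node (.node (.node (.leaf 193417577) (.leaf 143244632)) (.node (.leaf 5787238) (.leaf 0))) (.node (.node (.leaf 4072344) (.leaf 0)) (.node (.leaf 167036602)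 (.leaf 0)))) (.node (.node (.node (.leaf 139260114) (.leaf 172019677)) (.node (.leaf 117070208) (.leaf 0))) (.node (.node (.leaf 76681547) (.leaf 0)) (.node (.leaf 70741150) (.leaf 0))))) (.node (.node (.node (.node (.leaf 165915041) (.leaf 136485932)) (.node (.leaf 128244477) (.leaf 0))) (.node (.node (.leaf 4462120) (.leaf 0)) (.node (.leaf 132663770) (.leaf 0)))) (.node (.node (.node (.leaf 127875015) (.leaf 59855625)) (.node (.leaf 4462120) (.leaf 0))) (.node (.node (.leaf 6486354) (.leaf 0)) (.node (.leaf 20511028) (.leaf 0)))))) (.node (.node (.node (.node (.node (.leaf 1186552) (.leaf 128594682)) (.node (.leaf 200416278) (.leaf 0))) (.node (.node (.leaf 405323) (.leaf 0)) (.node (.leaf 53866701) (.leaf 0)))) (.node (.node (.node (.leaf 4309375) (.leaf 125380005)) (.node (.leaf 3832961) (.leaf 0))) (.node (.node (.leaf 8211327) (.leaf 0)) (.node (.leaf 64594605) (.leaf 0))))) (.node (.node (.node (.node (.leaf 109890577) (.leaf 223716700)) (.node (.leaf 112072622) (.leaf 0))) (.node (.node (.leaf 640563)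 (.leaf 0)) (.node (.leaf 5939337) (.leaf 0)))) (.node (.node (.node (.leaf 127767604) (.leaf 0)) (.node (.leaf 165405488) (.leaf 0))) (.node (.node (.leaf 85525827) (.leaf 0)) (.node (.leaf 60300630) (.leaf 0))))))) (.node (.node (.node (.node (.node (.node (.leaf 157786847) (.leaf 198467325)) (.node (.leaf 234776056) (.leaf 0))) (.node (.node (.leaf 32867824) (.leaf 0)) (.node (.leaf 8211327) (.leaf 0)))) (.node (.node (.node (.leaf 172406250) (.leaf 159436967)) (.node (.leaf 168890577) (.leaf 0))) (.node (.node (.leaf 47833077) (.leaf 0)) (.node (.leaf 243364219) (.leaf 0))))) (.node (.node (.node (.node (.leaf 135888528) (.leaf 181068422)) (.node (.leaf 46229103) (.leaf 0))) (.node (.node (.leaf 77554627) (.leaf 0)) (.node (.leaf 123710707) (.leaf 0)))) (.node (.node (.node (.leaf 132273462) (.leaf 57640625)) (.node (.leaf 216105454) (.leaf 0))) (.node (.node (.leaf 305) (.leaf 0)) (.node (.leaf 136984652) (.leaf 0)))))) (.node (.node (.node (.node (.node (.leaf 33251994) (.leaf 183612472)) (.node (.leaf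 155683474) (.leaf 0))) (.node (.node (.leaf 135712978) (.leaf 0)) (.node (.leaf 125380005) (.leaf 0)))) (.node (.node (.node (.leaf 59855625) (.leaf 132750000)) (.node (.leaf 173663553) (.leaf 0))) (.node (.node (.leaf 167036602) (.leaf 0)) (.node (.leaf 4544592) (.leaf 0))))) (.node (.node (.node (.node (.leaf 70741150) (.leaf 133980926)) (.node (.leaf 171694801) (.leaf 0))) (.node (.node (.leaf 312629) (.leaf 0)) (.node (.leaf 6106702) (.leaf 0)))) (.node (.node (.node (.leaf 130041718) (.leaf 0)) (.node (.leaf 640563) (.leaf 0))) (.node (.node (.leaf 167235651) (.leaf 0)) (.node (.leaf 174473145) (.leaf 0)))))))))) (.node (.node (.node (.node (.node (.node (.node (.node (.node (.leaf 174202196) (.leaf 7740635)) (.node (.leaf 1097962) (.leaf 0))) (.node (.node (.leaf 6174074) (.leaf 0)) (.node (.leaf 76215877) (.leaf 0)))) (.node (.node (.node (.leaf 98320403) (.leaf 72765754)) (.node (.leaf 133983488) (.leaf 0))) (.node (.node (.leaf 219075462) (.leaf 0)) (.node (.leaf 6647358) (.leaf 0))))) (.node (.node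 (.node (.node (.leaf 244064122) (.leaf 36170902)) (.node (.leaf 106843008) (.leaf 0))) (.node (.node (.leaf 170915451) (.leaf 0)) (.node (.leaf 180050010) (.leaf 0)))) (.node (.node (.node (.leaf 169470630) (.leaf 177841895)) (.node (.leaf 236801131) (.leaf 0))) (.node (.node (.leaf 4376653) (.leaf 0)) (.node (.leaf 76054138) (.leaf 0)))))) (.node (.node (.node (.node (.node (.leaf 161570403) (.leaf 141133487)) (.node (.leaf 167258566) (.leaf 0))) (.node (.node (.leaf 48899830) (.leaf 0)) (.node (.leaf 3837698) (.leaf 0)))) (.node (.node (.node (.leaf 167744380) (.leaf 160371270)) (.node (.leaf 45574972) (.leaf 0))) (.node (.node (.leaf 62044219) (.leaf 0)) (.node (.leaf 131353558) (.leaf 0))))) (.node (.node (.node (.node (.leaf 215814827) (.leaf 178184763)) (.node (.leaf 162080127) (.leaf 0))) (.node (.node (.leaf 470) (.leaf 0)) (.node (.leaf 174137190) (.leaf 0)))) (.node (.node (.node (.leaf 79226551) (.leaf 0)) (.node (.leaf 2978053) (.leaf 0))) (.node (.node (.leaf 121993678) (.leaf 0)) (.node (.leaf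 132257956) (.leaf 0))))))) (.node (.node (.node (.node (.node (.node (.leaf 18165473) (.leaf 134212172)) (.node (.leaf 51399769) (.leaf 0))) (.node (.node (.leaf 45574972) (.leaf 0)) (.node (.leaf 6024047) (.leaf 0)))) (.node (.node (.node (.leaf 133716711) (.leaf 137623308)) (.node (.leaf 23084253) (.leaf 0))) (.node (.node (.leaf 6413482) (.leaf 0)) (.node (.leaf 112404682) (.leaf 0))))) (.node (.node (.node (.node (.leaf 49125262) (.leaf 129894059)) (.node (.leaf 7349927) (.leaf 0))) (.node (.node (.leaf 190374803) (.leaf 0)) (.node (.leaf 134655625) (.leaf 0)))) (.node (.node (.node (.leaf 227004390) (.leaf 172433130)) (.node (.leaf 101205188) (.leaf 0))) (.node (.node (.leaf 166540683) (.leaf 0)) (.node (.leaf 135100501) (.leaf 0)))))) (.node (.node (.node (.node (.node (.leaf 49909742) (.leaf 166721723)) (.node (.leaf 70354451) (.leaf 0))) (.node (.node (.leaf 236801131) (.leaf 0)) (.node (.leaf 171703125) (.leaf 0)))) (.node (.node (.node (.leaf 108875625) (.leaf 132663770)) (.node (.leaf 9150827) (.leaf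 0))) (.node (.node (.leaf 122611698) (.leaf 0)) (.node (.leaf 109413803) (.leaf 0))))) (.node (.node (.node (.node (.leaf 183612472) (.leaf 127505352)) (.node (.leaf 224486009) (.leaf 0))) (.node (.node (.leaf 170915451) (.leaf 0)) (.node (.leaf 52799052) (.leaf 0)))) (.node (.node (.node (.leaf 147782344) (.leaf 0)) (.node (.leaf 187863776) (.leaf 0))) (.node (.node (.leaf 127710877) (.leaf 0)) (.node (.leaf 166675625) (.leaf 0)))))))) (.node (.node (.node (.node (.node (.node (.node (.leaf 185058823) (.leaf 202997959)) (.node (.leaf 5165358) (.leaf 0))) (.node (.node (.leaf 47833077) (.leaf 0)) (.node (.leaf 167699128) (.leaf 0)))) (.node (.node (.node (.leaf 4535808) (.leaf 32391077)) (.node (.leaf 133983488) (.leaf 0))) (.node (.node (.leaf 161340428) (.leaf 0)) (.node (.leaf 134812472) (.leaf 0))))) (.node (.node (.node (.node (.leaf 164042293) (.leaf 223791092)) (.node (.leaf 120512393) (.leaf 0))) (.node (.node (.leaf 128295403) (.leaf 0)) (.node (.leaf 8680010) (.leaf 0)))) (.node (.node (.node (.leaf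 3137500) (.leaf 169470630)) (.node (.leaf 175493392) (.leaf 0))) (.node (.node (.leaf 172824193) (.leaf 0)) (.node (.leaf 84901076) (.leaf 0)))))) (.node (.node (.node (.node (.node (.leaf 64594605) (.leaf 102539243)) (.node (.leaf 70354451) (.leaf 0))) (.node (.node (.leaf 72062597) (.leaf 0)) (.node (.leaf 110433477) (.leaf 0)))) (.node (.node (.node (.leaf 235475625) (.leaf 8832520)) (.node (.leaf 166317336) (.leaf 0))) (.node (.node (.leaf 183182077) (.leaf 0)) (.node (.leaf 42869682) (.leaf 0))))) (.node (.node (.node (.node (.leaf 166994679) (.leaf 132257956)) (.node (.leaf 232476929) (.leaf 0))) (.node (.node (.leaf 194742278) (.leaf 0)) (.node (.leaf 8372420) (.leaf 0)))) (.node (.node (.node (.leaf 142219758) (.leaf 0)) (.node (.leaf 27776706) (.leaf 0))) (.node (.node (.leaf 23786327) (.leaf 0)) (.node (.leaf 132750000) (.leaf 0))))))) (.node (.node (.node (.node (.node (.node (.leaf 109029838) (.leaf 109890577)) (.node (.leaf 7437401) (.leaf 0))) (.node (.node (.leaf 60948646) (.leaf 0)) (.node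 (.leaf 241567722) (.leaf 0)))) (.node (.node (.node (.leaf 198687500) (.leaf 49125262)) (.node (.leaf 79345453) (.leaf 0))) (.node (.node (.leaf 174777420) (.leaf 0)) (.node (.leaf 159436967) (.leaf 0))))) (.node (.node (.node (.node (.leaf 185600469) (.leaf 18120323)) (.node (.leaf 41589129) (.leaf 0))) (.node (.node (.leaf 139692167) (.leaf 0)) (.node (.leaf 194665882) (.leaf 0)))) (.node (.node (.node (.leaf 243050311) (.leaf 165987500)) (.node (.leaf 4694452) (.leaf 0))) (.node (.node (.leaf 79277318) (.leaf 0)) (.node (.leaf 30369295) (.leaf 0)))))) (.node (.node (.node (.node (.node (.leaf 48463975) (.leaf 15513025)) (.node (.leaf 227793504) (.leaf 0))) (.node (.node (.leaf 115358229) (.leaf 0)) (.node (.leaf 171431265) (.leaf 0)))) (.node (.node (.node (.leaf 157478125) (.leaf 33588765)) (.node (.leaf 167087332) (.leaf 0))) (.node (.node (.leaf 159744778) (.leaf 0)) (.node (.leaf 391979) (.leaf 0))))) (.node (.node (.node (.node (.leaf 202997959) (.leaf 179982961)) (.node (.leaf 200416278) (.leaf 0)))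 (.node (.node (.leaf 177475932) (.leaf 0)) (.node (.leaf 243443582) (.leaf 0)))) (.node (.node (.node (.leaf 76681547) (.leaf 0)) (.node (.leaf 166540683) (.leaf 0))) (.node (.node (.leaf 136968188) (.leaf 0)) (.node (.leaf 7425000) (.leaf 0))))))))) (.node (.node (.node (.node (.node (.node (.node (.node (.leaf 27933188) (.leaf 127875015)) (.node (.leaf 109820275) (.leaf 0))) (.node (.node (.leaf 8288082) (.leaf 0)) (.node (.leaf 6413482) (.leaf 0)))) (.node (.node (.node (.leaf 152477152) (.leaf 173760450)) (.node (.leaf 128244477) (.leaf 0))) (.node (.node (.leaf 7736602) (.leaf 0)) (.node (.leaf 168596098) (.leaf 0))))) (.node (.node (.node (.node (.leaf 52799052) (.leaf 101917353)) (.node (.leaf 128244477) (.leaf 0))) (.node (.node (.leaf 80787563) (.leaf 0)) (.node (.leaf 235475625) (.leaf 0)))) (.node (.node (.node (.leaf 3295630) (.leaf 10150630)) (.node (.leaf 145430977) (.leaf 0))) (.node (.node (.leaf 63529933) (.leaf 0)) (.node (.leaf 152314051) (.leaf 0)))))) (.node (.node (.node (.node (.node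 (.leaf 51868035) (.leaf 174280178)) (.node (.leaf 132889079) (.leaf 0))) (.node (.node (.leaf 219075462) (.leaf 0)) (.node (.leaf 129682263) (.leaf 0)))) (.node (.node (.node (.leaf 8212500) (.leaf 135688770)) (.node (.leaf 130041718) (.leaf 0))) (.node (.node (.leaf 140741818) (.leaf 0)) (.node (.leaf 29080452) (.leaf 0))))) (.node (.node (.node (.node (.leaf 56402609) (.leaf 107462811)) (.node (.leaf 132661319) (.leaf 0))) (.node (.node (.leaf 182548457) (.leaf 0)) (.node (.leaf 139260114) (.leaf 0)))) (.node (.node (.node (.leaf 7590932) (.leaf 0)) (.node (.leaf 1097263) (.leaf 0))) (.node (.node (.leaf 1722717) (.leaf 0)) (.node (.leaf 178184763) (.leaf 0))))))) (.node (.node (.node (.node (.node (.node (.leaf 167128568) (.leaf 166607963)) (.node (.leaf 174386987) (.leaf 0))) (.node (.node (.leaf 23786327) (.leaf 0)) (.node (.leaf 132282536) (.leaf 0)))) (.node (.node (.node (.leaf 238681250) (.leaf 26680934)) (.node (.leaf 227793504) (.leaf 0))) (.node (.node (.leaf 80521222) (.leaf 0)) (.node (.leaf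 119203933) (.leaf 0))))) (.node (.node (.node (.node (.leaf 228176276) (.leaf 191377142)) (.node (.leaf 60165349) (.leaf 0))) (.node (.node (.leaf 167235651) (.leaf 0)) (.node (.leaf 136694069) (.leaf 0)))) (.node (.node (.node (.leaf 25492510) (.leaf 125537515)) (.node (.leaf 140741818) (.leaf 0))) (.node (.node (.leaf 18116700) (.leaf 0)) (.node (.leaf 61654073) (.leaf 0)))))) (.node (.node (.node (.node (.node (.leaf 18749702) (.leaf 153808412)) (.node (.leaf 37560127) (.leaf 0))) (.node (.node (.leaf 1652167) (.leaf 0)) (.node (.leaf 172406250) (.leaf 0)))) (.node (.node (.node (.leaf 8832520) (.leaf 77780010)) (.node (.leaf 170710469) (.leaf 0))) (.node (.node (.leaf 49606638) (.leaf 0)) (.node (.leaf 133980926) (.leaf 0))))) (.node (.node (.node (.node (.leaf 12180525) (.leaf 168869712)) (.node (.leaf 238153067) (.leaf 0))) (.node (.node (.leaf 202371551) (.leaf 0)) (.node (.leaf 136352068) (.leaf 0)))) (.node (.node (.node (.leaf 172876994) (.leaf 0)) (.node (.leaf 233093808) (.leaf 0))) (.node (.node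 (.leaf 150211028) (.leaf 0)) (.node (.leaf 76050625) (.leaf 0)))))))) (.node (.node (.node (.node (.node (.node (.node (.leaf 136306068) (.leaf 170624689)) (.node (.leaf 133983488) (.leaf 0))) (.node (.node (.leaf 241567722) (.leaf 0)) (.node (.leaf 173712175) (.leaf 0)))) (.node (.node (.node (.leaf 5941607) (.leaf 204479615)) (.node (.leaf 6341667) (.leaf 0))) (.node (.node (.leaf 156410092) (.leaf 0)) (.node (.leaf 81381563) (.leaf 0))))) (.node (.node (.node (.node (.leaf 135100501) (.leaf 167128568)) (.node (.leaf 167258566) (.leaf 0))) (.node (.node (.leaf 13202053) (.leaf 0)) (.node (.leaf 8596875) (.leaf 0)))) (.node (.node (.node (.leaf 172433130) (.leaf 142850630)) (.node (.leaf 166934248) (.leaf 0))) (.node (.node (.leaf 131572058) (.leaf 0)) (.node (.leaf 58578952) (.leaf 0)))))) (.node (.node (.node (.node (.node (.leaf 1721136) (.leaf 232872730)) (.node (.leaf 317088) (.leaf 0))) (.node (.node (.leaf 5626276) (.leaf 0)) (.node (.leaf 5470473) (.leaf 0)))) (.node (.node (.node (.leaf 130701880)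 (.leaf 8596875)) (.node (.leaf 128676075) (.leaf 0))) (.node (.node (.leaf 188259688) (.leaf 0)) (.node (.leaf 179982961) (.leaf 0))))) (.node (.node (.node (.node (.leaf 107210450) (.leaf 228176276)) (.node (.leaf 126828600) (.leaf 0))) (.node (.node (.leaf 17802563) (.leaf 0)) (.node (.leaf 786078) (.leaf 0)))) (.node (.node (.node (.leaf 228491108) (.leaf 0)) (.node (.leaf 151403447) (.leaf 0))) (.node (.node (.leaf 84508040) (.leaf 0)) (.node (.leaf 25492510) (.leaf 0))))))) (.node (.node (.node (.node (.node (.node (.leaf 197632526) (.leaf 168659406)) (.node (.leaf 127870815) (.leaf 0))) (.node (.node (.leaf 6100311) (.leaf 0)) (.node (.leaf 13202053) (.leaf 0)))) (.node (.node (.node (.leaf 235108770) (.leaf 137537500)) (.node (.leaf 152787328) (.leaf 0))) (.node (.node (.leaf 48899830) (.leaf 0)) (.node (.leaf 49125262) (.leaf 0))))) (.node (.node (.node (.node (.leaf 128415451) (.leaf 109029838)) (.node (.leaf 109820275) (.leaf 0))) (.node (.node (.leaf 79345453) (.leaf 0)) (.node (.leaf 61017908)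 (.leaf 0)))) (.node (.node (.node (.leaf 13344836) (.leaf 66021875)) (.node (.leaf 33568440) (.leaf 0))) (.node (.node (.leaf 130320230) (.leaf 0)) (.node (.leaf 168433087) (.leaf 0)))))) (.node (.node (.node (.node (.node (.leaf 137623308) (.leaf 192771098)) (.node (.leaf 55540102) (.leaf 0))) (.node (.node (.leaf 101205188) (.leaf 0)) (.node (.leaf 131297500) (.leaf 0)))) (.node (.node (.node (.leaf 142850630) (.leaf 14518145)) (.node (.leaf 1722717) (.leaf 0))) (.node (.node (.leaf 135712978) (.leaf 0)) (.node (.leaf 4234173) (.leaf 0))))) (.node (.node (.node (.node (.leaf 197753053) (.leaf 16244758)) (.node (.leaf 9146115) (.leaf 0))) (.node (.node (.leaf 9304087) (.leaf 0)) (.node (.leaf 7191552) (.leaf 0)))) (.node (.node (.node (.leaf 75116901) (.leaf 0)) (.node (.leaf 241340443) (.leaf 0))) (.node (.node (.leaf 31546751) (.leaf 0)) (.node (.leaf 188653750) (.leaf 0))))))))))) (.node (.node (.node (.node (.node (.node (.node (.node (.node (.node (.leaf 134551091) (.leaf 177841895)) (.node (.leaf 219649928)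 (.leaf 0))) (.node (.node (.leaf 154736217) (.leaf 0)) (.node (.leaf 7514401) (.leaf 0)))) (.node (.node (.node (.leaf 168596098) (.leaf 61654073)) (.node (.leaf 86386397) (.leaf 0))) (.node (.node (.leaf 7979200) (.leaf 0)) (.node (.leaf 18165473) (.leaf 0))))) (.node (.node (.node (.node (.leaf 156453603) (.leaf 145347563)) (.node (.leaf 172435711) (.leaf 0))) (.node (.node (.leaf 103081480) (.leaf 0)) (.node (.leaf 130701880) (.leaf 0)))) (.node (.node (.node (.leaf 41041890) (.leaf 3521875)) (.node (.leaf 38337639) (.leaf 0))) (.node (.node (.leaf 195499215) (.leaf 0)) (.node (.leaf 204479615) (.leaf 0)))))) (.node (.node (.node (.node (.node (.leaf 241259672) (.leaf 195285178)) (.node (.leaf 14806027) (.leaf 0))) (.node (.node (.leaf 71780183) (.leaf 0)) (.node (.leaf 7982735) (.leaf 0)))) (.node (.node (.node (.leaf 77780010) (.leaf 135407515)) (.node (.leaf 214960948) (.leaf 0))) (.node (.node (.leaf 133577162) (.leaf 0)) (.node (.leaf 227610651) (.leaf 0))))) (.node (.node (.node (.node (.leaf 25657810)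 (.leaf 112404682)) (.node (.leaf 109820275) (.leaf 0))) (.node (.node (.leaf 129682263) (.leaf 0)) (.node (.leaf 98320403) (.leaf 0)))) (.node (.node (.node (.leaf 166540683) (.leaf 0)) (.node (.leaf 7043178) (.leaf 0))) (.node (.node (.leaf 4613854) (.leaf 0)) (.node (.leaf 160528879) (.leaf 0))))))) (.node (.node (.node (.node (.node (.node (.leaf 129894059) (.leaf 26841756)) (.node (.leaf 70354451) (.leaf 0))) (.node (.node (.leaf 241340443) (.leaf 0)) (.node (.leaf 136687428) (.leaf 0)))) (.node (.node (.node (.leaf 61017908) (.leaf 113782888)) (.node (.leaf 100664181) (.leaf 0))) (.node (.node (.leaf 152787328) (.leaf 0)) (.node (.leaf 136060202) (.leaf 0))))) (.node (.node (.node (.node (.leaf 105978254) (.leaf 222747702)) (.node (.leaf 86386397) (.leaf 0))) (.node (.node (.leaf 1487063) (.leaf 0)) (.node (.leaf 167744380) (.leaf 0)))) (.node (.node (.node (.leaf 123168765) (.leaf 6256250)) (.node (.leaf 130320230) (.leaf 0))) (.node (.node (.leaf 129049928) (.leaf 0)) (.node (.leaf 240878438) (.leaf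 0)))))) (.node (.node (.node (.node (.node (.leaf 4220818) (.leaf 133488975)) (.node (.leaf 60165349) (.leaf 0))) (.node (.node (.leaf 860592) (.leaf 0)) (.node (.leaf 36700000) (.leaf 0)))) (.node (.node (.node (.leaf 135688770) (.leaf 102386260)) (.node (.leaf 1726008) (.leaf 0))) (.node (.node (.leaf 134667954) (.leaf 0)) (.node (.leaf 197753053) (.leaf 0))))) (.node (.node (.node (.node (.leaf 134212172) (.leaf 49909742)) (.node (.leaf 118001652) (.leaf 0))) (.node (.node (.leaf 35295053) (.leaf 0)) (.node (.leaf 185989692) (.leaf 0)))) (.node (.node (.node (.leaf 128865722) (.leaf 0)) (.node (.leaf 216132837) (.leaf 0))) (.node (.node (.leaf 127767604) (.leaf 0)) (.node (.leaf 133740635) (.leaf 0)))))))) (.node (.node (.node (.node (.node (.node (.node (.leaf 18585311) (.leaf 57489675)) (.node (.leaf 117070208) (.leaf 0))) (.node (.node (.leaf 159744778) (.leaf 0)) (.node (.leaf 134679778) (.leaf 0)))) (.node (.node (.node (.leaf 1564401) (.leaf 136984652)) (.node (.leaf 165050033) (.leaf 0))) (.node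 (.node (.leaf 198094224) (.leaf 0)) (.node (.leaf 126597142) (.leaf 0))))) (.node (.node (.node (.node (.leaf 185989692) (.leaf 181589662)) (.node (.leaf 6341667) (.leaf 0))) (.node (.node (.leaf 130925855) (.leaf 0)) (.node (.leaf 8832520) (.leaf 0)))) (.node (.node (.node (.leaf 37096890) (.leaf 7425000)) (.node (.leaf 77232725) (.leaf 0))) (.node (.node (.leaf 131801713) (.leaf 0)) (.node (.leaf 223716700) (.leaf 0)))))) (.node (.node (.node (.node (.node (.leaf 391979) (.leaf 10147969)) (.node (.leaf 177002228) (.leaf 0))) (.node (.node (.leaf 15460183) (.leaf 0)) (.node (.leaf 7666780) (.leaf 0)))) (.node (.node (.node (.leaf 132663770) (.leaf 8680010)) (.node (.leaf 232793879) (.leaf 0))) (.node (.node (.leaf 129983402) (.leaf 0)) (.node (.leaf 132817948) (.leaf 0))))) (.node (.node (.node (.node (.leaf 10147969) (.leaf 242188016)) (.node (.leaf 188105572) (.leaf 0))) (.node (.node (.leaf 230517812) (.leaf 0)) (.node (.leaf 172678928) (.leaf 0)))) (.node (.node (.node (.leaf 103169677) (.leaf 0)) (.node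 (.leaf 215437175) (.leaf 0))) (.node (.node (.leaf 241340443) (.leaf 0)) (.node (.leaf 133702448) (.leaf 0))))))) (.node (.node (.node (.node (.node (.node (.leaf 79077800) (.leaf 7584313)) (.node (.leaf 133645059) (.leaf 0))) (.node (.node (.leaf 170495977) (.leaf 0)) (.node (.leaf 177475932) (.leaf 0)))) (.node (.node (.node (.leaf 36700000) (.leaf 1721136)) (.node (.leaf 14806027) (.leaf 0))) (.node (.node (.leaf 157937867) (.leaf 0)) (.node (.leaf 167826653) (.leaf 0))))) (.node (.node (.node (.node (.leaf 153808412) (.leaf 24864228)) (.node (.leaf 46229103) (.leaf 0))) (.node (.node (.leaf 153263045) (.leaf 0)) (.node (.leaf 153102253) (.leaf 0)))) (.node (.node (.node (.leaf 114800952) (.leaf 221371885)) (.node (.leaf 60948646) (.leaf 0))) (.node (.node (.leaf 170710469) (.leaf 0)) (.node (.leaf 113782888) (.leaf 0)))))) (.node (.node (.node (.node (.node (.leaf 172019677) (.leaf 124107358)) (.node (.leaf 5165358) (.leaf 0))) (.node (.node (.leaf 130320230) (.leaf 0)) (.node (.leaf 128733750) (.leaf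 0)))) (.node (.node (.node (.leaf 126132515) (.leaf 11294375)) (.node (.leaf 5715423) (.leaf 0))) (.node (.node (.leaf 215658427) (.leaf 0)) (.node (.leaf 172019677) (.leaf 0))))) (.node (.node (.node (.node (.leaf 171459069) (.leaf 77624808)) (.node (.leaf 637050) (.leaf 0))) (.node (.node (.leaf 57844056) (.leaf 0)) (.node (.leaf 4937328) (.leaf 0)))) (.node (.node (.node (.leaf 79972950) (.leaf 0)) (.node (.leaf 42918425) (.leaf 0))) (.node (.node (.leaf 61417082) (.leaf 0)) (.node (.leaf 31382520) (.leaf 0))))))))) (.node (.node (.node (.node (.node (.node (.node (.node (.leaf 128278462) (.leaf 10150630)) (.node (.leaf 4300854) (.leaf 0))) (.node (.node (.leaf 117934223) (.leaf 0)) (.node (.leaf 129066077) (.leaf 0)))) (.node (.node (.node (.leaf 5939337) (.leaf 168433087)) (.node (.leaf 117070208) (.leaf 0))) (.node (.node (.leaf 33568440) (.leaf 0)) (.node (.leaf 181589662) (.leaf 0))))) (.node (.node (.node (.node (.leaf 136512624) (.leaf 238612420)) (.node (.leaf 4778953) (.leaf 0))) (.node (.node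 (.leaf 637147) (.leaf 0)) (.node (.leaf 17648760) (.leaf 0)))) (.node (.node (.node (.leaf 3448140) (.leaf 179042510)) (.node (.leaf 187474679) (.leaf 0))) (.node (.node (.leaf 76215877) (.leaf 0)) (.node (.leaf 105978254) (.leaf 0)))))) (.node (.node (.node (.node (.node (.leaf 146535944) (.leaf 170963608)) (.node (.leaf 80674021) (.leaf 0))) (.node (.node (.leaf 2196550) (.leaf 0)) (.node (.leaf 176384504) (.leaf 0)))) (.node (.node (.node (.leaf 194591895) (.leaf 17648760)) (.node (.leaf 171906170) (.leaf 0))) (.node (.node (.leaf 173712175) (.leaf 0)) (.node (.leaf 229121517) (.leaf 0))))) (.node (.node (.node (.node (.leaf 168019558) (.leaf 159980222)) (.node (.leaf 106843008) (.leaf 0))) (.node (.node (.leaf 42918425) (.leaf 0)) (.node (.leaf 222541452) (.leaf 0)))) (.node (.node (.node (.leaf 166317336) (.leaf 0)) (.node (.leaf 243050311) (.leaf 0))) (.node (.node (.leaf 155213608) (.leaf 0)) (.node (.leaf 49909742) (.leaf 0))))))) (.node (.node (.node (.node (.node (.node (.leaf 18120323) (.leaf 5941607))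 (.node (.leaf 6963547) (.leaf 0))) (.node (.node (.leaf 143084577) (.leaf 0)) (.node (.leaf 49129685) (.leaf 0)))) (.node (.node (.node (.leaf 132817948) (.leaf 391979)) (.node (.leaf 26915096) (.leaf 0))) (.node (.node (.leaf 84065943) (.leaf 0)) (.node (.leaf 76608229) (.leaf 0))))) (.node (.node (.node (.node (.leaf 2589910) (.leaf 204425501)) (.node (.leaf 126828600) (.leaf 0))) (.node (.node (.leaf 57926170) (.leaf 0)) (.node (.leaf 76125063) (.leaf 0)))) (.node (.node (.node (.leaf 39974375) (.leaf 114591895)) (.node (.leaf 6174074) (.leaf 0))) (.node (.node (.leaf 224263933) (.leaf 0)) (.node (.leaf 15513025) (.leaf 0)))))) (.node (.node (.node (.node (.node (.leaf 195285178) (.leaf 185989692)) (.node (.leaf 218398633) (.leaf 0))) (.node (.node (.leaf 168890577) (.leaf 0)) (.node (.leaf 8990625) (.leaf 0)))) (.node (.node (.node (.leaf 3290000) (.leaf 180050010)) (.node (.leaf 135712978) (.leaf 0))) (.node (.node (.leaf 127840109) (.leaf 0)) (.node (.leaf 168118879) (.leaf 0))))) (.node (.node (.node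 (.node (.leaf 42449844) (.leaf 133702448)) (.node (.leaf 65086634) (.leaf 0))) (.node (.node (.leaf 7043178) (.leaf 0)) (.node (.leaf 4065928) (.leaf 0)))) (.node (.node (.node (.leaf 150221517) (.leaf 0)) (.node (.leaf 132273462) (.leaf 0))) (.node (.node (.leaf 25513585) (.leaf 0)) (.node (.leaf 133715635) (.leaf 0)))))))) (.node (.node (.node (.node (.node (.node (.node (.leaf 44790272) (.leaf 237199587)) (.node (.leaf 10145910) (.leaf 0))) (.node (.node (.leaf 174491901) (.leaf 0)) (.node (.leaf 8288082) (.leaf 0)))) (.node (.node (.node (.leaf 167659681) (.leaf 17812191)) (.node (.leaf 234776056) (.leaf 0))) (.node (.node (.leaf 9688894) (.leaf 0)) (.node (.leaf 131385077) (.leaf 0))))) (.node (.node (.node (.node (.leaf 26680934) (.leaf 31939053)) (.node (.leaf 1808041) (.leaf 0))) (.node (.node (.leaf 57655666) (.leaf 0)) (.node (.leaf 102386260) (.leaf 0)))) (.node (.node (.node (.leaf 153570015) (.leaf 169751885)) (.node (.leaf 1487063) (.leaf 0))) (.node (.node (.leaf 132273462) (.leaf 0)) (.node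 (.leaf 192771098) (.leaf 0)))))) (.node (.node (.node (.node (.node (.leaf 25423161) (.leaf 108550252)) (.node (.leaf 177002228) (.leaf 0))) (.node (.node (.leaf 162480837) (.leaf 0)) (.node (.leaf 70425501) (.leaf 0)))) (.node (.node (.node (.leaf 114028750) (.leaf 23934385)) (.node (.leaf 4376653) (.leaf 0))) (.node (.node (.leaf 1652167) (.leaf 0)) (.node (.leaf 104017954) (.leaf 0))))) (.node (.node (.node (.node (.leaf 192771098) (.leaf 160528879)) (.node (.leaf 166826177) (.leaf 0))) (.node (.node (.leaf 78496082) (.leaf 0)) (.node (.leaf 133488975) (.leaf 0)))) (.node (.node (.node (.leaf 140741818) (.leaf 0)) (.node (.leaf 219075462) (.leaf 0))) (.node (.node (.leaf 47284069) (.leaf 0)) (.node (.leaf 125537515) (.leaf 0))))))) (.node (.node (.node (.node (.node (.node (.leaf 77548854) (.leaf 117617957)) (.node (.leaf 45183026) (.leaf 0))) (.node (.node (.leaf 196972142) (.leaf 0)) (.node (.leaf 77554627) (.leaf 0)))) (.node (.node (.node (.leaf 60478125) (.leaf 3600305)) (.node (.leaf 167281775) (.leaf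 0))) (.node (.node (.leaf 136988202) (.leaf 0)) (.node (.leaf 107210450) (.leaf 0))))) (.node (.node (.node (.node (.leaf 128594682) (.leaf 64294217)) (.node (.leaf 127760964) (.leaf 0))) (.node (.node (.leaf 305) (.leaf 0)) (.node (.leaf 81697827) (.leaf 0)))) (.node (.node (.node (.leaf 136968188) (.leaf 139184375)) (.node (.leaf 175192353) (.leaf 0))) (.node (.node (.leaf 170495977) (.leaf 0)) (.node (.leaf 185058823) (.leaf 0)))))) (.node (.node (.node (.node (.node (.leaf 145195558) (.leaf 195484768)) (.node (.leaf 171694801) (.leaf 0))) (.node (.node (.leaf 233093808) (.leaf 0)) (.node (.leaf 23934385) (.leaf 0)))) (.node (.node (.node (.leaf 169751885) (.leaf 157478125)) (.node (.leaf 243758259) (.leaf 0))) (.node (.node (.leaf 711113) (.leaf 0)) (.node (.leaf 32391077) (.leaf 0))))) (.node (.node (.node (.node (.leaf 131337175) (.leaf 173985087)) (.node (.leaf 140121997) (.leaf 0))) (.node (.node (.leaf 71780183) (.leaf 0)) (.node (.leaf 238612420) (.leaf 0)))) (.node (.node (.node (.leaf 134667954)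 (.leaf 0)) (.node (.leaf 128865722) (.leaf 0))) (.node (.node (.leaf 3837698) (.leaf 0)) (.node (.leaf 123556260) (.leaf 0)))))))))) (.node (.node (.node (.node (.node (.node (.node (.node (.node (.leaf 173819097) (.leaf 8838125)) (.node (.leaf 172876994) (.leaf 0))) (.node (.node (.leaf 110433477) (.leaf 0)) (.node (.leaf 23786327) (.leaf 0)))) (.node (.node (.node (.leaf 145579200) (.leaf 30369295)) (.node (.leaf 112072622) (.leaf 0))) (.node (.node (.leaf 7821551) (.leaf 0)) (.node (.leaf 31939053) (.leaf 0))))) (.node (.node (.node (.node (.leaf 133980926) (.leaf 173819097)) (.node (.leaf 127760964) (.leaf 0))) (.node (.node (.leaf 2824818) (.leaf 0)) (.node (.leaf 4309375) (.leaf 0)))) (.node (.node (.node (.leaf 123556260) (.leaf 37096890)) (.node (.leaf 47284069) (.leaf 0))) (.node (.node (.leaf 1265318) (.leaf 0)) (.node (.leaf 169115553) (.leaf 0)))))) (.node (.node (.node (.node (.node (.leaf 69115553) (.leaf 128802192)) (.node (.leaf 10145910) (.leaf 0))) (.node (.node (.leaf 3986081) (.leaf 0))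 (.node (.leaf 166655925) (.leaf 0)))) (.node (.node (.node (.leaf 171431265) (.leaf 46110005)) (.node (.leaf 76681547) (.leaf 0))) (.node (.node (.leaf 132282536) (.leaf 0)) (.node (.leaf 80396803) (.leaf 0))))) (.node (.node (.node (.node (.leaf 123859433) (.leaf 135888528)) (.node (.leaf 39170490) (.leaf 0))) (.node (.node (.leaf 173295942) (.leaf 0)) (.node (.leaf 232391126) (.leaf 0)))) (.node (.node (.node (.leaf 167699128) (.leaf 0)) (.node (.leaf 72298593) (.leaf 0))) (.node (.node (.leaf 101205188) (.leaf 0)) (.node (.leaf 238834205) (.leaf 0))))))) (.node (.node (.node (.node (.node (.node (.leaf 148261602) (.leaf 1564401)) (.node (.leaf 191930815) (.leaf 0))) (.node (.node (.leaf 128475907) (.leaf 0)) (.node (.leaf 115358229) (.leaf 0)))) (.node (.node (.node (.leaf 166310092) (.leaf 175278596)) (.node (.leaf 7742370) (.leaf 0))) (.node (.node (.leaf 216105454) (.leaf 0)) (.node (.leaf 150366126) (.leaf 0))))) (.node (.node (.node (.node (.leaf 159580925) (.leaf 149137175)) (.node (.leaf 65086634)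 (.leaf 0))) (.node (.node (.leaf 47284069) (.leaf 0)) (.node (.leaf 83800015) (.leaf 0)))) (.node (.node (.node (.leaf 106055005) (.leaf 153570015)) (.node (.leaf 116912967) (.leaf 0))) (.node (.node (.leaf 166934248) (.leaf 0)) (.node (.leaf 36170902) (.leaf 0)))))) (.node (.node (.node (.node (.node (.leaf 3600305) (.leaf 172678928)) (.node (.leaf 4300854) (.leaf 0))) (.node (.node (.leaf 7736602) (.leaf 0)) (.node (.leaf 57640625) (.leaf 0)))) (.node (.node (.node (.leaf 125380005) (.leaf 171456265)) (.node (.leaf 25513585) (.leaf 0))) (.node (.node (.leaf 41278842) (.leaf 0)) (.node (.leaf 145579200) (.leaf 0))))) (.node (.node (.node (.node (.leaf 143527227) (.leaf 25423161)) (.node (.leaf 37560127) (.leaf 0))) (.node (.node (.leaf 129682263) (.leaf 0)) (.node (.leaf 7593097) (.leaf 0)))) (.node (.node (.node (.leaf 70683573) (.leaf 0)) (.node (.leaf 84065943) (.leaf 0))) (.node (.node (.leaf 72298593) (.leaf 0)) (.node (.leaf 110192505) (.leaf 0)))))))) (.node (.node (.node (.node (.node (.node (.node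 (.leaf 53349696) (.leaf 136512624)) (.node (.leaf 124596489) (.leaf 0))) (.node (.node (.leaf 6024047) (.leaf 0)) (.node (.leaf 80787563) (.leaf 0)))) (.node (.node (.node (.leaf 24864228) (.leaf 128278462)) (.node (.leaf 155683474) (.leaf 0))) (.node (.node (.leaf 224306342) (.leaf 0)) (.node (.leaf 172917824) (.leaf 0))))) (.node (.node (.node (.node (.leaf 136352068) (.leaf 189251827)) (.node (.leaf 127870815) (.leaf 0))) (.node (.node (.leaf 57844056) (.leaf 0)) (.node (.leaf 5478125) (.leaf 0)))) (.node (.node (.node (.leaf 110123145) (.leaf 41041890)) (.node (.leaf 63529933) (.leaf 0))) (.node (.node (.leaf 38337639) (.leaf 0)) (.node (.leaf 127505352) (.leaf 0)))))) (.node (.node (.node (.node (.node (.leaf 84901076) (.leaf 180906347)) (.node (.leaf 184663262) (.leaf 0))) (.node (.node (.leaf 101134047) (.leaf 0)) (.node (.leaf 182548457) (.leaf 0)))) (.node (.node (.node (.leaf 27698755) (.leaf 4384390)) (.node (.leaf 70274058) (.leaf 0))) (.node (.node (.leaf 198453156) (.leaf 0)) (.node (.leaf 220274679)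 (.leaf 0))))) (.node (.node (.node (.node (.leaf 194665882) (.leaf 56402609)) (.node (.leaf 100664181) (.leaf 0))) (.node (.node (.leaf 170507801) (.leaf 0)) (.node (.leaf 124107358) (.leaf 0)))) (.node (.node (.node (.leaf 3837698) (.leaf 0)) (.node (.leaf 4077827) (.leaf 0))) (.node (.node (.leaf 57655666) (.leaf 0)) (.node (.leaf 234850000) (.leaf 0))))))) (.node (.node (.node (.node (.node (.node (.leaf 77624808) (.leaf 8525470)) (.node (.leaf 149504522) (.leaf 0))) (.node (.node (.leaf 173663553) (.leaf 0)) (.node (.leaf 27535129) (.leaf 0)))) (.node (.node (.node (.leaf 2743750) (.leaf 4544592)) (.node (.leaf 47833077) (.leaf 0))) (.node (.node (.leaf 42918425) (.leaf 0)) (.node (.leaf 51918879) (.leaf 0))))) (.node (.node (.node (.node (.leaf 172917824) (.leaf 45518975)) (.node (.leaf 169524451) (.leaf 0))) (.node (.node (.leaf 232793879) (.leaf 0)) (.node (.leaf 133716711) (.leaf 0)))) (.node (.node (.node (.leaf 3832961) (.leaf 238681250)) (.node (.leaf 68296399) (.leaf 0))) (.node (.node (.leaf 72062597)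 (.leaf 0)) (.node (.leaf 175278596) (.leaf 0)))))) (.node (.node (.node (.node (.node (.leaf 132257956) (.leaf 61342811)) (.node (.leaf 5787238) (.leaf 0))) (.node (.node (.leaf 63529933) (.leaf 0)) (.node (.leaf 8212500) (.leaf 0)))) (.node (.node (.node (.leaf 24803125) (.leaf 235108770)) (.node (.leaf 134260304) (.leaf 0))) (.node (.node (.leaf 156468178) (.leaf 0)) (.node (.leaf 137623308) (.leaf 0))))) (.node (.node (.node (.node (.leaf 8754073) (.leaf 129020459)) (.node (.leaf 194964850) (.leaf 0))) (.node (.node (.leaf 172105408) (.leaf 0)) (.node (.leaf 2589910) (.leaf 0)))) (.node (.node (.node (.leaf 31546751) (.leaf 0)) (.node (.leaf 171467115) (.leaf 0))) (.node (.node (.leaf 116912967) (.leaf 0)) (.node (.leaf 191146250) (.leaf 0))))))))) (.node (.node (.node (.node (.node (.node (.node (.node (.leaf 97702336) (.leaf 179042510)) (.node (.leaf 4778953) (.leaf 0))) (.node (.node (.leaf 4694452) (.leaf 0)) (.node (.leaf 172824193) (.leaf 0)))) (.node (.node (.node (.leaf 37168952) (.leaf 201189203))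 (.node (.leaf 167539335) (.leaf 0))) (.node (.node (.leaf 6174074) (.leaf 0)) (.node (.leaf 185600469) (.leaf 0))))) (.node (.node (.node (.node (.leaf 129085460) (.leaf 18165473)) (.node (.leaf 7742370) (.leaf 0))) (.node (.node (.leaf 1567332) (.leaf 0)) (.node (.leaf 135407515) (.leaf 0)))) (.node (.node (.node (.leaf 7740635) (.leaf 174473145)) (.node (.leaf 25658425) (.leaf 0))) (.node (.node (.leaf 2196550) (.leaf 0)) (.node (.leaf 228176276) (.leaf 0)))))) (.node (.node (.node (.node (.node (.leaf 204425501) (.leaf 134061693)) (.node (.leaf 34119434) (.leaf 0))) (.node (.node (.leaf 157937867) (.leaf 0)) (.node (.leaf 79226551) (.leaf 0)))) (.node (.node (.node (.leaf 171456265) (.leaf 181615640)) (.node (.leaf 9304087) (.leaf 0))) (.node (.node (.leaf 2824818) (.leaf 0)) (.node (.leaf 166310092) (.leaf 0))))) (.node (.node (.node (.node (.leaf 232872730) (.leaf 25657810)) (.node (.leaf 19445876) (.leaf 0))) (.node (.node (.leaf 7514401) (.leaf 0)) (.node (.leaf 131337175) (.leaf 0)))) (.node (.node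 (.node (.leaf 70425501) (.leaf 0)) (.node (.leaf 312629) (.leaf 0))) (.node (.node (.leaf 131463575) (.leaf 0)) (.node (.leaf 25423161) (.leaf 0))))))) (.node (.node (.node (.node (.node (.node (.leaf 181589662) (.leaf 626394)) (.node (.leaf 135650679) (.leaf 0))) (.node (.node (.leaf 129983402) (.leaf 0)) (.node (.leaf 2824818) (.leaf 0)))) (.node (.node (.node (.leaf 133453125) (.leaf 4234173)) (.node (.leaf 135650679) (.leaf 0))) (.node (.node (.leaf 640563) (.leaf 0)) (.node (.leaf 81459050) (.leaf 0))))) (.node (.node (.node (.node (.leaf 159436967) (.leaf 77548854)) (.node (.leaf 124596489) (.leaf 0))) (.node (.node (.leaf 155696569) (.leaf 0)) (.node (.leaf 167659681) (.leaf 0)))) (.node (.node (.node (.leaf 60300630) (.leaf 127586895)) (.node (.leaf 156410092) (.leaf 0))) (.node (.node (.leaf 220515451) (.leaf 0)) (.node (.leaf 17812191) (.leaf 0)))))) (.node (.node (.node (.node (.node (.leaf 66263445) (.leaf 42914832)) (.node (.leaf 174386987) (.leaf 0))) (.node (.node (.leaf 232952068) (.leaf 0))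 (.node (.leaf 137537500) (.leaf 0)))) (.node (.node (.node (.leaf 39165020) (.leaf 150291895)) (.node (.leaf 196972142) (.leaf 0))) (.node (.node (.leaf 79972950) (.leaf 0)) (.node (.leaf 68126276) (.leaf 0))))) (.node (.node (.node (.node (.leaf 240878438) (.leaf 81232142)) (.node (.leaf 232476929) (.leaf 0))) (.node (.node (.leaf 100353503) (.leaf 0)) (.node (.leaf 5087797) (.leaf 0)))) (.node (.node (.node (.leaf 80522797) (.leaf 0)) (.node (.leaf 170495977) (.leaf 0))) (.node (.node (.leaf 128676075) (.leaf 0)) (.node (.leaf 172433130) (.leaf 0)))))))) (.node (.node (.node (.node (.node (.node (.node (.leaf 103857903) (.leaf 164042293)) (.node (.leaf 2982785) (.leaf 0))) (.node (.node (.leaf 121993678) (.leaf 0)) (.node (.leaf 114800952) (.leaf 0)))) (.node (.node (.node (.leaf 6647358) (.leaf 185058823)) (.node (.leaf 180563666) (.leaf 0))) (.node (.node (.leaf 128295403) (.leaf 0)) (.node (.leaf 42285428) (.leaf 0))))) (.node (.node (.node (.node (.leaf 71912420) (.leaf 161570403)) (.node (.leaf 41589129)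 (.leaf 0))) (.node (.node (.leaf 102463001) (.leaf 0)) (.node (.leaf 190583130) (.leaf 0)))) (.node (.node (.node (.leaf 133715635) (.leaf 3295630)) (.node (.leaf 104800457) (.leaf 0))) (.node (.node (.leaf 57484499) (.leaf 0)) (.node (.leaf 183612472) (.leaf 0)))))) (.node (.node (.node (.node (.node (.leaf 42869682) (.leaf 166994679)) (.node (.leaf 2982785) (.leaf 0))) (.node (.node (.leaf 155990877) (.leaf 0)) (.node (.leaf 129049928) (.leaf 0)))) (.node (.node (.node (.leaf 181615640) (.leaf 195051880)) (.node (.leaf 142219758) (.leaf 0))) (.node (.node (.leaf 15622376) (.leaf 0)) (.node (.leaf 30758477) (.leaf 0))))) (.node (.node (.node (.node (.leaf 167826653) (.leaf 238834205)) (.node (.leaf 39170490) (.leaf 0))) (.node (.node (.leaf 100651086) (.leaf 0)) (.node (.leaf 42914832) (.leaf 0)))) (.node (.node (.node (.leaf 35295053) (.leaf 0)) (.node (.leaf 130683229) (.leaf 0))) (.node (.node (.leaf 79345453) (.leaf 0)) (.node (.leaf 227004390) (.leaf 0))))))) (.node (.node (.node (.node (.node (.node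 (.leaf 30369295) (.leaf 48463975)) (.node (.leaf 194964850) (.leaf 0))) (.node (.node (.leaf 116912967) (.leaf 0)) (.node (.leaf 22303641) (.leaf 0)))) (.node (.node (.node (.leaf 179634385) (.leaf 36228125)) (.node (.leaf 72223712) (.leaf 0))) (.node (.node (.leaf 80522797) (.leaf 0)) (.node (.leaf 143527227) (.leaf 0))))) (.node (.node (.node (.node (.leaf 198467325) (.leaf 119203933)) (.node (.leaf 133645059) (.leaf 0))) (.node (.node (.leaf 84065943) (.leaf 0)) (.node (.leaf 170292604) (.leaf 0)))) (.node (.node (.node (.leaf 27776706) (.leaf 198687500)) (.node (.leaf 4072344) (.leaf 0))) (.node (.node (.leaf 13344836) (.leaf 0)) (.node (.leaf 128278462) (.leaf 0)))))) (.node (.node (.node (.node (.node (.leaf 128802192) (.leaf 34354221)) (.node (.leaf 8753075) (.leaf 0))) (.node (.node (.leaf 183182077) (.leaf 0)) (.node (.leaf 126132515) (.leaf 0)))) (.node (.node (.node (.leaf 14518145) (.leaf 166675625)) (.node (.leaf 173295942) (.leaf 0))) (.node (.node (.leaf 22303641) (.leaf 0)) (.node (.leaf 63834858)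 (.leaf 0))))) (.node (.node (.node (.node (.leaf 170624689) (.leaf 146535944)) (.node (.leaf 93067) (.leaf 0))) (.node (.node (.leaf 13202053) (.leaf 0)) (.node (.leaf 189251827) (.leaf 0)))) (.node (.node (.node (.leaf 174075303) (.leaf 0)) (.node (.leaf 61417082) (.leaf 0))) (.node (.node (.leaf 53866701) (.leaf 0)) (.node (.leaf 169470630) (.leaf 0))))))))))))

noncomputable def permA : Trie Nat := .node (.node (.node (.node (.node (.node (.node (.node (.node (.node (.node (.node (.leaf 26) (.leaf 2017)) (.node (.leaf 920) (.leaf 0))) (.node (.node (.leaf 707) (.leaf 0)) (.node (.leaf 1488) (.leaf 0)))) (.node (.node (.node (.leaf 154) (.leaf 2100)) (.node (.leaf 1052) (.leaf 0))) (.node (.node (.leaf 846) (.leaf 0)) (.node (.leaf 1811) (.leaf 0))))) (.node (.node (.node (.node (.leaf 253) (.leaf 2233)) (.node (.leaf 1236) (.leaf 0))) (.node (.node (.leaf 607) (.leaf 0)) (.node (.leaf 1689) (.leaf 0)))) (.node (.node (.node (.leaf 406) (.leaf 2457)) (.node (.leaf 1366) (.leaf 0))) (.node (.node (.leaf 991)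 (.leaf 0)) (.node (.leaf 1958) (.leaf 0)))))) (.node (.node (.node (.node (.node (.leaf 111) (.leaf 2189)) (.node (.leaf 1041) (.leaf 0))) (.node (.node (.leaf 499) (.leaf 0)) (.node (.leaf 1628) (.leaf 0)))) (.node (.node (.node (.leaf 351) (.leaf 2418)) (.node (.leaf 1444) (.leaf 0))) (.node (.node (.leaf 959) (.leaf 0)) (.node (.leaf 1928) (.leaf 0))))) (.node (.node (.node (.node (.leaf 72) (.leaf 2339)) (.node (.leaf 1269) (.leaf 0))) (.node (.node (.leaf 730) (.leaf 0)) (.node (.leaf 1747) (.leaf 0)))) (.node (.node (.node (.leaf 649) (.leaf 0)) (.node (.leaf 1388) (.leaf 0))) (.node (.node (.leaf 834) (.leaf 0)) (.node (.leaf 1722) (.leaf 0))))))) (.node (.node (.node (.node (.node (.node (.leaf 80) (.leaf 2347)) (.node (.leaf 1279) (.leaf 0))) (.node (.node (.leaf 471) (.leaf 0)) (.node (.leaf 1542) (.leaf 0)))) (.node (.node (.node (.leaf 235) (.leaf 2243)) (.node (.leaf 1140) (.leaf 0))) (.node (.node (.leaf 874) (.leaf 0)) (.node (.leaf 1735) (.leaf 0))))) (.node (.node (.node (.node (.leaf 119)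 (.leaf 2211)) (.node (.leaf 1148) (.leaf 0))) (.node (.node (.leaf 700) (.leaf 0)) (.node (.leaf 1686) (.leaf 0)))) (.node (.node (.node (.leaf 385) (.leaf 2448)) (.node (.leaf 1341) (.leaf 0))) (.node (.node (.leaf 827) (.leaf 0)) (.node (.leaf 1842) (.leaf 0)))))) (.node (.node (.node (.node (.node (.leaf 216) (.leaf 2131)) (.node (.leaf 1065) (.leaf 0))) (.node (.node (.leaf 639) (.leaf 0)) (.node (.leaf 1643) (.leaf 0)))) (.node (.node (.node (.leaf 343) (.leaf 2389)) (.node (.leaf 1530) (.leaf 0))) (.node (.node (.leaf 1020) (.leaf 0)) (.node (.leaf 1855) (.leaf 0))))) (.node (.node (.node (.node (.leaf 120) (.leaf 2199)) (.node (.leaf 1049) (.leaf 0))) (.node (.node (.leaf 786) (.leaf 0)) (.node (.leaf 1950) (.leaf 0)))) (.node (.node (.node (.leaf 685) (.leaf 0)) (.node (.leaf 1393) (.leaf 0))) (.node (.node (.leaf 943) (.leaf 0)) (.node (.leaf 2038) (.leaf 0)))))))) (.node (.node (.node (.node (.node (.node (.node (.leaf 242) (.leaf 2067)) (.node (.leaf 1089) (.leaf 0))) (.node (.node (.leaf 627) (.leaf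 0)) (.node (.leaf 1401) (.leaf 0)))) (.node (.node (.node (.leaf 52) (.leaf 2321)) (.node (.leaf 1245) (.leaf 0))) (.node (.node (.leaf 735) (.leaf 0)) (.node (.leaf 1795) (.leaf 0))))) (.node (.node (.node (.node (.leaf 167) (.leaf 2194)) (.node (.leaf 1045) (.leaf 0))) (.node (.node (.leaf 508) (.leaf 0)) (.node (.leaf 1691) (.leaf 0)))) (.node (.node (.node (.leaf 383) (.leaf 2464)) (.node (.leaf 1559) (.leaf 0))) (.node (.node (.leaf 969) (.leaf 0)) (.node (.leaf 1937) (.leaf 0)))))) (.node (.node (.node (.node (.node (.leaf 32) (.leaf 2146)) (.node (.leaf 1222) (.leaf 0))) (.node (.node (.leaf 689) (.leaf 0)) (.node (.leaf 1431) (.leaf 0)))) (.node (.node (.node (.leaf 342) (.leaf 2364)) (.node (.leaf 1384) (.leaf 0))) (.node (.node (.leaf 885) (.leaf 0)) (.node (.leaf 1816) (.leaf 0))))) (.node (.node (.node (.node (.leaf 264) (.leaf 2293)) (.node (.leaf 1155) (.leaf 0))) (.node (.node (.leaf 565) (.leaf 0)) (.node (.leaf 1729) (.leaf 0)))) (.node (.node (.node (.leaf 517) (.leaf 0)) (.node (.leaf 1536)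 (.leaf 0))) (.node (.node (.leaf 999) (.leaf 0)) (.node (.leaf 2003) (.leaf 0))))))) (.node (.node (.node (.node (.node (.node (.leaf 187) (.leaf 2267)) (.node (.leaf 1198) (.leaf 0))) (.node (.node (.leaf 666) (.leaf 0)) (.node (.leaf 1496) (.leaf 0)))) (.node (.node (.node (.leaf 310) (.leaf 2260)) (.node (.leaf 1304) (.leaf 0))) (.node (.node (.leaf 1010) (.leaf 0)) (.node (.leaf 1953) (.leaf 0))))) (.node (.node (.node (.node (.leaf 282) (.leaf 2136)) (.node (.leaf 1074) (.leaf 0))) (.node (.node (.leaf 595) (.leaf 0)) (.node (.leaf 1884) (.leaf 0)))) (.node (.node (.node (.leaf 485) (.leaf 2445)) (.node (.leaf 1485) (.leaf 0))) (.node (.node (.leaf 994) (.leaf 0)) (.node (.leaf 1800) (.leaf 0)))))) (.node (.node (.node (.node (.node (.leaf 63) (.leaf 2330)) (.node (.leaf 1260) (.leaf 0))) (.node (.node (.leaf 503) (.leaf 0)) (.node (.leaf 1693) (.leaf 0)))) (.node (.node (.node (.leaf 331) (.leaf 2412)) (.node (.leaf 1506) (.leaf 0))) (.node (.node (.leaf 823) (.leaf 0)) (.node (.leaf 1737) (.leaf 0)))))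 (.node (.node (.node (.node (.leaf 19) (.leaf 2219)) (.node (.leaf 1160) (.leaf 0))) (.node (.node (.leaf 979) (.leaf 0)) (.node (.leaf 1866) (.leaf 0)))) (.node (.node (.node (.leaf 461) (.leaf 0)) (.node (.leaf 1541) (.leaf 0))) (.node (.node (.leaf 812) (.leaf 0)) (.node (.leaf 2015) (.leaf 0))))))))) (.node (.node (.node (.node (.node (.node (.node (.node (.leaf 182) (.leaf 2052)) (.node (.leaf 1083) (.leaf 0))) (.node (.node (.leaf 462) (.leaf 0)) (.node (.leaf 1571) (.leaf 0)))) (.node (.node (.node (.leaf 208) (.leaf 2202)) (.node (.leaf 1196) (.leaf 0))) (.node (.node (.leaf 899) (.leaf 0)) (.node (.leaf 1968) (.leaf 0))))) (.node (.node (.node (.node (.leaf 68) (.leaf 2092)) (.node (.leaf 1264) (.leaf 0))) (.node (.node (.leaf 450) (.leaf 0)) (.node (.leaf 1657) (.leaf 0)))) (.node (.node (.node (.leaf 372) (.leaf 2479)) (.node (.leaf 1477) (.leaf 0))) (.node (.node (.leaf 889) (.leaf 0)) (.node (.leaf 1856) (.leaf 0)))))) (.node (.node (.node (.node (.node (.leaf 192) (.leaf 2310)) (.node (.leaf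 1060) (.leaf 0))) (.node (.node (.leaf 549) (.leaf 0)) (.node (.leaf 1404) (.leaf 0)))) (.node (.node (.node (.leaf 341) (.leaf 2398)) (.node (.leaf 1603) (.leaf 0))) (.node (.node (.leaf 1014) (.leaf 0)) (.node (.leaf 1777) (.leaf 0))))) (.node (.node (.node (.node (.leaf 233) (.leaf 2214)) (.node (.leaf 1106) (.leaf 0))) (.node (.node (.leaf 537) (.leaf 0)) (.node (.leaf 1907) (.leaf 0)))) (.node (.node (.node (.leaf 677) (.leaf 0)) (.node (.leaf 1414) (.leaf 0))) (.node (.node (.leaf 916) (.leaf 0)) (.node (.leaf 1900) (.leaf 0))))))) (.node (.node (.node (.node (.node (.node (.leaf 130) (.leaf 2105)) (.node (.leaf 1121) (.leaf 0))) (.node (.node (.leaf 635) (.leaf 0)) (.node (.leaf 1596) (.leaf 0)))) (.node (.node (.node (.leaf 21) (.leaf 2081)) (.node (.leaf 1165) (.leaf 0))) (.node (.node (.leaf 952) (.leaf 0)) (.node (.leaf 1835) (.leaf 0))))) (.node (.node (.node (.node (.leaf 143) (.leaf 2290)) (.node (.leaf 1289) (.leaf 0))) (.node (.node (.leaf 454) (.leaf 0)) (.node (.leaf 1706) (.leaf 0)))) (.node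 (.node (.node (.leaf 420) (.leaf 2477)) (.node (.leaf 1368) (.leaf 0))) (.node (.node (.leaf 855) (.leaf 0)) (.node (.leaf 1963) (.leaf 0)))))) (.node (.node (.node (.node (.node (.leaf 247) (.leaf 2170)) (.node (.leaf 1227) (.leaf 0))) (.node (.node (.leaf 669) (.leaf 0)) (.node (.leaf 1633) (.leaf 0)))) (.node (.node (.node (.leaf 364) (.leaf 2377)) (.node (.leaf 1360) (.leaf 0))) (.node (.node (.leaf 797) (.leaf 0)) (.node (.leaf 1935) (.leaf 0))))) (.node (.node (.node (.node (.leaf 203) (.leaf 2319)) (.node (.leaf 1107) (.leaf 0))) (.node (.node (.leaf 869) (.leaf 0)) (.node (.leaf 1784) (.leaf 0)))) (.node (.node (.node (.leaf 437) (.leaf 0)) (.node (.leaf 1461) (.leaf 0))) (.node (.node (.leaf 973) (.leaf 0)) (.node (.leaf 2004) (.leaf 0)))))))) (.node (.node (.node (.node (.node (.node (.node (.leaf 297) (.leaf 2247)) (.node (.leaf 1249) (.leaf 0))) (.node (.node (.leaf 661) (.leaf 0)) (.node (.leaf 1423) (.leaf 0)))) (.node (.node (.node (.leaf 178) (.leaf 2163)) (.node (.leaf 1328) (.leaf 0))) (.node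 (.node (.leaf 760) (.leaf 0)) (.node (.leaf 1872) (.leaf 0))))) (.node (.node (.node (.node (.leaf 257) (.leaf 2313)) (.node (.leaf 1101) (.leaf 0))) (.node (.node (.leaf 561) (.leaf 0)) (.node (.leaf 1659) (.leaf 0)))) (.node (.node (.node (.leaf 397) (.leaf 2475)) (.node (.leaf 1332) (.leaf 0))) (.node (.node (.leaf 1024) (.leaf 0)) (.node (.leaf 1740) (.leaf 0)))))) (.node (.node (.node (.node (.node (.leaf 59) (.leaf 2224)) (.node (.leaf 1309) (.leaf 0))) (.node (.node (.leaf 475) (.leaf 0)) (.node (.leaf 1547) (.leaf 0)))) (.node (.node (.node (.leaf 362) (.leaf 2375)) (.node (.leaf 1448) (.leaf 0))) (.node (.node (.leaf 935) (.leaf 0)) (.node (.leaf 1978) (.leaf 0))))) (.node (.node (.node (.node (.leaf 96) (.leaf 2097)) (.node (.leaf 1209) (.leaf 0))) (.node (.node (.leaf 706) (.leaf 0)) (.node (.leaf 1828) (.leaf 0)))) (.node (.node (.node (.leaf 601) (.leaf 0)) (.node (.leaf 1584) (.leaf 0))) (.node (.node (.leaf 777) (.leaf 0)) (.node (.leaf 2058) (.leaf 0))))))) (.node (.node (.node (.node (.node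 (.node (.leaf 86) (.leaf 2090)) (.node (.leaf 1283) (.leaf 0))) (.node (.node (.leaf 446) (.leaf 0)) (.node (.leaf 1573) (.leaf 0)))) (.node (.node (.node (.leaf 332) (.leaf 2361)) (.node (.leaf 1434) (.leaf 0))) (.node (.node (.leaf 879) (.leaf 0)) (.node (.leaf 1849) (.leaf 0))))) (.node (.node (.node (.node (.leaf 6) (.leaf 2179)) (.node (.leaf 1238) (.leaf 0))) (.node (.node (.leaf 642) (.leaf 0)) (.node (.leaf 1987) (.leaf 0)))) (.node (.node (.node (.leaf 490) (.leaf 2494)) (.node (.leaf 1565) (.leaf 0))) (.node (.node (.leaf 808) (.leaf 0)) (.node (.leaf 1882) (.leaf 0)))))) (.node (.node (.node (.node (.node (.leaf 224) (.leaf 2153)) (.node (.leaf 1070) (.leaf 0))) (.node (.node (.leaf 554) (.leaf 0)) (.node (.leaf 1649) (.leaf 0)))) (.node (.node (.node (.leaf 426) (.leaf 2434)) (.node (.leaf 1555) (.leaf 0))) (.node (.node (.leaf 903) (.leaf 0)) (.node (.leaf 1836) (.leaf 0))))) (.node (.node (.node (.node (.leaf 101) (.leaf 2298)) (.node (.leaf 1301) (.leaf 0))) (.node (.node (.leaf 792) (.leaf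 0)) (.node (.leaf 1768) (.leaf 0)))) (.node (.node (.node (.leaf 626) (.leaf 0)) (.node (.leaf 1375) (.leaf 0))) (.node (.node (.leaf 838) (.leaf 0)) (.node (.leaf 2029) (.leaf 0)))))))))) (.node (.node (.node (.node (.node (.node (.node (.node (.node (.leaf 28) (.leaf 2056)) (.node (.leaf 1002) (.leaf 0))) (.node (.node (.leaf 708) (.leaf 0)) (.node (.leaf 1518) (.leaf 0)))) (.node (.node (.node (.leaf 209) (.leaf 2122)) (.node (.leaf 1079) (.leaf 0))) (.node (.node (.leaf 898) (.leaf 0)) (.node (.leaf 1871) (.leaf 0))))) (.node (.node (.node (.node (.leaf 43) (.leaf 2332)) (.node (.leaf 1233) (.leaf 0))) (.node (.node (.leaf 694) (.leaf 0)) (.node (.leaf 1684) (.leaf 0)))) (.node (.node (.node (.leaf 401) (.leaf 2429)) (.node (.leaf 1479) (.leaf 0))) (.node (.node (.leaf 773) (.leaf 0)) (.node (.leaf 1719) (.leaf 0)))))) (.node (.node (.node (.node (.node (.leaf 136) (.leaf 2268)) (.node (.leaf 1057) (.leaf 0))) (.node (.node (.leaf 525) (.leaf 0)) (.node (.leaf 1353) (.leaf 0)))) (.node (.node (.node (.leaf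 346) (.leaf 2403)) (.node (.leaf 1497) (.leaf 0))) (.node (.node (.leaf 961) (.leaf 0)) (.node (.leaf 1990) (.leaf 0))))) (.node (.node (.node (.node (.leaf 173) (.leaf 2074)) (.node (.leaf 1323) (.leaf 0))) (.node (.node (.leaf 516) (.leaf 0)) (.node (.leaf 1825) (.leaf 0)))) (.node (.node (.node (.leaf 679) (.leaf 0)) (.node (.leaf 1390) (.leaf 0))) (.node (.node (.leaf 857) (.leaf 0)) (.node (.leaf 1862) (.leaf 0))))))) (.node (.node (.node (.node (.node (.node (.leaf 106) (.leaf 2087)) (.node (.leaf 1096) (.leaf 0))) (.node (.node (.leaf 586) (.leaf 0)) (.node (.leaf 1593) (.leaf 0)))) (.node (.node (.node (.leaf 269) (.leaf 2341)) (.node (.leaf 1137) (.leaf 0))) (.node (.node (.leaf 922) (.leaf 0)) (.node (.leaf 1752) (.leaf 0))))) (.node (.node (.node (.node (.leaf 115) (.leaf 2250)) (.node (.leaf 1206) (.leaf 0))) (.node (.node (.leaf 699) (.leaf 0)) (.node (.leaf 1665) (.leaf 0)))) (.node (.node (.node (.leaf 424) (.leaf 2439)) (.node (.leaf 1344) (.leaf 0))) (.node (.node (.leaf 853) (.leaf 0)) (.node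 (.leaf 1922) (.leaf 0)))))) (.node (.node (.node (.node (.node (.leaf 249) (.leaf 2150)) (.node (.leaf 1180) (.leaf 0))) (.node (.node (.leaf 668) (.leaf 0)) (.node (.leaf 1639) (.leaf 0)))) (.node (.node (.node (.leaf 325) (.leaf 2395)) (.node (.leaf 1580) (.leaf 0))) (.node (.node (.leaf 746) (.leaf 0)) (.node (.leaf 1895) (.leaf 0))))) (.node (.node (.node (.node (.leaf 149) (.leaf 2278)) (.node (.leaf 1110) (.leaf 0))) (.node (.node (.leaf 790) (.leaf 0)) (.node (.leaf 1766) (.leaf 0)))) (.node (.node (.node (.leaf 435) (.leaf 0)) (.node (.leaf 1418) (.leaf 0))) (.node (.node (.leaf 945) (.leaf 0)) (.node (.leaf 2033) (.leaf 0)))))))) (.node (.node (.node (.node (.node (.node (.node (.leaf 298) (.leaf 2204)) (.node (.leaf 1167) (.leaf 0))) (.node (.node (.leaf 658) (.leaf 0)) (.node (.leaf 1398) (.leaf 0)))) (.node (.node (.node (.leaf 79) (.leaf 2141)) (.node (.leaf 1276) (.leaf 0))) (.node (.node (.leaf 737) (.leaf 0)) (.node (.leaf 1813) (.leaf 0))))) (.node (.node (.node (.node (.leaf 226) (.leaf 2273))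 (.node (.leaf 1098) (.leaf 0))) (.node (.node (.leaf 533) (.leaf 0)) (.node (.leaf 1668) (.leaf 0)))) (.node (.node (.node (.leaf 422) (.leaf 2437)) (.node (.leaf 1612) (.leaf 0))) (.node (.node (.leaf 968) (.leaf 0)) (.node (.leaf 1997) (.leaf 0)))))) (.node (.node (.node (.node (.node (.leaf 33) (.leaf 2166)) (.node (.leaf 1255) (.leaf 0))) (.node (.node (.leaf 690) (.leaf 0)) (.node (.leaf 1470) (.leaf 0)))) (.node (.node (.node (.leaf 323) (.leaf 2394)) (.node (.leaf 1410) (.leaf 0))) (.node (.node (.leaf 933) (.leaf 0)) (.node (.leaf 1877) (.leaf 0))))) (.node (.node (.node (.node (.leaf 10) (.leaf 2352)) (.node (.leaf 1152) (.leaf 0))) (.node (.node (.leaf 620) (.leaf 0)) (.node (.leaf 1750) (.leaf 0)))) (.node (.node (.node (.leaf 545) (.leaf 0)) (.node (.leaf 1586) (.leaf 0))) (.node (.node (.leaf 754) (.leaf 0)) (.node (.leaf 2024) (.leaf 0))))))) (.node (.node (.node (.node (.node (.node (.leaf 272) (.leaf 2304)) (.node (.leaf 1201) (.leaf 0))) (.node (.node (.leaf 718) (.leaf 0)) (.node (.leaf 1525)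 (.leaf 0)))) (.node (.node (.node (.leaf 303) (.leaf 2303)) (.node (.leaf 1432) (.leaf 0))) (.node (.node (.leaf 763) (.leaf 0)) (.node (.leaf 1709) (.leaf 0))))) (.node (.node (.node (.node (.leaf 5) (.leaf 2156)) (.node (.leaf 1189) (.leaf 0))) (.node (.node (.leaf 645) (.leaf 0)) (.node (.leaf 1926) (.leaf 0)))) (.node (.node (.node (.leaf 486) (.leaf 2490)) (.node (.leaf 1515) (.leaf 0))) (.node (.node (.leaf 750) (.leaf 0)) (.node (.leaf 1822) (.leaf 0)))))) (.node (.node (.node (.node (.node (.leaf 162) (.leaf 2134)) (.node (.leaf 1312) (.leaf 0))) (.node (.node (.leaf 530) (.leaf 0)) (.node (.leaf 1677) (.leaf 0)))) (.node (.node (.node (.leaf 392) (.leaf 2383)) (.node (.leaf 1505) (.leaf 0))) (.node (.node (.leaf 850) (.leaf 0)) (.node (.leaf 1758) (.leaf 0))))) (.node (.node (.node (.node (.leaf 15) (.leaf 2258)) (.node (.leaf 1212) (.leaf 0))) (.node (.node (.leaf 977) (.leaf 0)) (.node (.leaf 1967) (.leaf 0)))) (.node (.node (.node (.leaf 575) (.leaf 0)) (.node (.leaf 1591) (.leaf 0))) (.node (.node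 (.leaf 839) (.leaf 0)) (.node (.leaf 2054) (.leaf 0))))))))) (.node (.node (.node (.node (.node (.node (.node (.node (.leaf 210) (.leaf 2023)) (.node (.leaf 1085) (.leaf 0))) (.node (.node (.leaf 581) (.leaf 0)) (.node (.leaf 1623) (.leaf 0)))) (.node (.node (.node (.leaf 290) (.leaf 2281)) (.node (.leaf 1242) (.leaf 0))) (.node (.node (.leaf 982) (.leaf 0)) (.node (.leaf 1775) (.leaf 0))))) (.node (.node (.node (.node (.leaf 165) (.leaf 2114)) (.node (.leaf 1317) (.leaf 0))) (.node (.node (.leaf 509) (.leaf 0)) (.node (.leaf 1695) (.leaf 0)))) (.node (.node (.node (.leaf 402) (.leaf 2469)) (.node (.leaf 1510) (.leaf 0))) (.node (.node (.leaf 939) (.leaf 0)) (.node (.leaf 1897) (.leaf 0)))))) (.node (.node (.node (.node (.node (.leaf 275) (.leaf 2127)) (.node (.leaf 1174) (.leaf 0))) (.node (.node (.leaf 602) (.leaf 0)) (.node (.leaf 1428) (.leaf 0)))) (.node (.node (.node (.leaf 312) (.leaf 2393)) (.node (.leaf 1606) (.leaf 0))) (.node (.node (.leaf 767) (.leaf 0)) (.node (.leaf 1797) (.leaf 0))))) (.node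 (.node (.node (.node (.leaf 230) (.leaf 2253)) (.node (.leaf 1129) (.leaf 0))) (.node (.node (.leaf 540) (.leaf 0)) (.node (.leaf 1944) (.leaf 0)))) (.node (.node (.node (.leaf 494) (.leaf 0)) (.node (.leaf 1452) (.leaf 0))) (.node (.node (.leaf 1001) (.leaf 0)) (.node (.leaf 1942) (.leaf 0))))))) (.node (.node (.node (.node (.node (.node (.leaf 133) (.leaf 2184)) (.node (.leaf 1143) (.leaf 0))) (.node (.node (.leaf 633) (.leaf 0)) (.node (.leaf 1380) (.leaf 0)))) (.node (.node (.node (.leaf 311) (.leaf 2221)) (.node (.leaf 1218) (.leaf 0))) (.node (.node (.leaf 1008) (.leaf 0)) (.node (.leaf 1912) (.leaf 0))))) (.node (.node (.node (.node (.leaf 195) (.leaf 2350)) (.node (.leaf 1288) (.leaf 0))) (.node (.node (.leaf 478) (.leaf 0)) (.node (.leaf 1846) (.leaf 0)))) (.node (.node (.node (.leaf 391) (.leaf 2466)) (.node (.leaf 1484) (.leaf 0))) (.node (.node (.leaf 910) (.leaf 0)) (.node (.leaf 1782) (.leaf 0)))))) (.node (.node (.node (.node (.node (.leaf 39) (.leaf 2228)) (.node (.leaf 1257) (.leaf 0))) (.node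 (.node (.leaf 724) (.leaf 0)) (.node (.leaf 1654) (.leaf 0)))) (.node (.node (.node (.leaf 360) (.leaf 2416)) (.node (.leaf 1472) (.leaf 0))) (.node (.node (.leaf 798) (.leaf 0)) (.node (.leaf 1992) (.leaf 0))))) (.node (.node (.node (.node (.leaf 285) (.leaf 2076)) (.node (.leaf 1136) (.leaf 0))) (.node (.node (.leaf 949) (.leaf 0)) (.node (.leaf 1806) (.leaf 0)))) (.node (.node (.node (.leaf 459) (.leaf 0)) (.node (.leaf 1457) (.leaf 0))) (.node (.node (.leaf 1030) (.leaf 0)) (.node (.leaf 2034) (.leaf 0)))))))) (.node (.node (.node (.node (.node (.node (.node (.leaf 4) (.leaf 2284)) (.node (.leaf 1280) (.leaf 0))) (.node (.node (.leaf 716) (.leaf 0)) (.node (.leaf 1466) (.leaf 0)))) (.node (.node (.node (.leaf 179) (.leaf 2180)) (.node (.leaf 1113) (.leaf 0))) (.node (.node (.leaf 757) (.leaf 0)) (.node (.leaf 1973) (.leaf 0))))) (.node (.node (.node (.node (.leaf 90) (.leaf 2068)) (.node (.leaf 1124) (.leaf 0))) (.node (.node (.leaf 612) (.leaf 0)) (.node (.leaf 1697) (.leaf 0)))) (.node (.node (.node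 (.leaf 403) (.leaf 2471)) (.node (.leaf 1335) (.leaf 0))) (.node (.node (.leaf 806) (.leaf 0)) (.node (.leaf 1761) (.leaf 0)))))) (.node (.node (.node (.node (.node (.leaf 155) (.leaf 2326)) (.node (.leaf 1307) (.leaf 0))) (.node (.node (.leaf 589) (.leaf 0)) (.node (.leaf 1600) (.leaf 0)))) (.node (.node (.node (.leaf 337) (.leaf 2414)) (.node (.leaf 1527) (.leaf 0))) (.node (.node (.leaf 965) (.leaf 0)) (.node (.leaf 1712) (.leaf 0))))) (.node (.node (.node (.node (.leaf 124) (.leaf 2116)) (.node (.leaf 1293) (.leaf 0))) (.node (.node (.leaf 785) (.leaf 0)) (.node (.leaf 1909) (.leaf 0)))) (.node (.node (.node (.leaf 599) (.leaf 0)) (.node (.leaf 1350) (.leaf 0))) (.node (.node (.leaf 894) (.leaf 0)) (.node (.leaf 2043) (.leaf 0))))))) (.node (.node (.node (.node (.node (.node (.leaf 114) (.leaf 2111)) (.node (.leaf 1034) (.leaf 0))) (.node (.node (.leaf 498) (.leaf 0)) (.node (.leaf 1576) (.leaf 0)))) (.node (.node (.node (.leaf 366) (.leaf 2384)) (.node (.leaf 1439) (.leaf 0))) (.node (.node (.leaf 927)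 (.leaf 0)) (.node (.leaf 1890) (.leaf 0))))) (.node (.node (.node (.node (.leaf 47) (.leaf 2238)) (.node (.leaf 1268) (.leaf 0))) (.node (.node (.leaf 672) (.leaf 0)) (.node (.leaf 1726) (.leaf 0)))) (.node (.node (.node (.leaf 569) (.leaf 2487)) (.node (.leaf 1621) (.leaf 0))) (.node (.node (.leaf 811) (.leaf 0)) (.node (.leaf 1983) (.leaf 0)))))) (.node (.node (.node (.node (.node (.leaf 220) (.leaf 2173)) (.node (.leaf 1184) (.leaf 0))) (.node (.node (.leaf 553) (.leaf 0)) (.node (.leaf 1699) (.leaf 0)))) (.node (.node (.node (.leaf 411) (.leaf 2473)) (.node (.leaf 1608) (.leaf 0))) (.node (.node (.leaf 987) (.leaf 0)) (.node (.leaf 1917) (.leaf 0))))) (.node (.node (.node (.node (.leaf 125) (.leaf 2358)) (.node (.leaf 1300) (.leaf 0))) (.node (.node (.leaf 818) (.leaf 0)) (.node (.leaf 1790) (.leaf 0)))) (.node (.node (.node (.leaf 656) (.leaf 0)) (.node (.leaf 1489) (.leaf 0))) (.node (.node (.leaf 864) (.leaf 0)) (.node (.leaf 2035) (.leaf 0))))))))))) (.node (.node (.node (.node (.node (.node (.node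 (.node (.node (.node (.leaf 27) (.leaf 2030)) (.node (.leaf 921) (.leaf 0))) (.node (.node (.leaf 709) (.leaf 0)) (.node (.leaf 1517) (.leaf 0)))) (.node (.node (.node (.leaf 153) (.leaf 2101)) (.node (.leaf 1081) (.leaf 0))) (.node (.node (.leaf 842) (.leaf 0)) (.node (.leaf 1810) (.leaf 0))))) (.node (.node (.node (.node (.leaf 40) (.leaf 2234)) (.node (.leaf 1234) (.leaf 0))) (.node (.node (.leaf 696) (.leaf 0)) (.node (.leaf 1651) (.leaf 0)))) (.node (.node (.node (.leaf 427) (.leaf 2424)) (.node (.leaf 1364) (.leaf 0))) (.node (.node (.leaf 772) (.leaf 0)) (.node (.leaf 1956) (.leaf 0)))))) (.node (.node (.node (.node (.node (.leaf 138) (.leaf 2188)) (.node (.leaf 1039) (.leaf 0))) (.node (.node (.leaf 522) (.leaf 0)) (.node (.leaf 1355) (.leaf 0)))) (.node (.node (.node (.leaf 317) (.leaf 2379)) (.node (.leaf 1442) (.leaf 0))) (.node (.node (.leaf 960) (.leaf 0)) (.node (.leaf 1931) (.leaf 0))))) (.node (.node (.node (.node (.leaf 70) (.leaf 2338)) (.node (.leaf 1324) (.leaf 0))) (.node (.node (.leaf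 728) (.leaf 0)) (.node (.leaf 1745) (.leaf 0)))) (.node (.node (.node (.leaf 648) (.leaf 0)) (.node (.leaf 1387) (.leaf 0))) (.node (.node (.leaf 861) (.leaf 0)) (.node (.leaf 1723) (.leaf 0))))))) (.node (.node (.node (.node (.node (.node (.leaf 81) (.leaf 2345)) (.node (.leaf 1095) (.leaf 0))) (.node (.node (.leaf 467) (.leaf 0)) (.node (.leaf 1545) (.leaf 0)))) (.node (.node (.node (.leaf 268) (.leaf 2242)) (.node (.leaf 1139) (.leaf 0))) (.node (.node (.leaf 923) (.leaf 0)) (.node (.leaf 1734) (.leaf 0))))) (.node (.node (.node (.node (.leaf 116) (.leaf 2209)) (.node (.leaf 1149) (.leaf 0))) (.node (.node (.leaf 698) (.leaf 0)) (.node (.leaf 1703) (.leaf 0)))) (.node (.node (.node (.leaf 398) (.leaf 2476)) (.node (.leaf 1346) (.leaf 0))) (.node (.node (.leaf 830) (.leaf 0)) (.node (.leaf 1843) (.leaf 0)))))) (.node (.node (.node (.node (.node (.leaf 218) (.leaf 2128)) (.node (.leaf 1179) (.leaf 0))) (.node (.node (.leaf 641) (.leaf 0)) (.node (.leaf 1641) (.leaf 0)))) (.node (.node (.node (.leaf 359) (.leaf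 2415)) (.node (.leaf 1581) (.leaf 0))) (.node (.node (.leaf 1019) (.leaf 0)) (.node (.leaf 1852) (.leaf 0))))) (.node (.node (.node (.node (.leaf 148) (.leaf 2197)) (.node (.leaf 1050) (.leaf 0))) (.node (.node (.leaf 791) (.leaf 0)) (.node (.leaf 1949) (.leaf 0)))) (.node (.node (.node (.leaf 433) (.leaf 0)) (.node (.leaf 1392) (.leaf 0))) (.node (.node (.leaf 944) (.leaf 0)) (.node (.leaf 2059) (.leaf 0)))))))) (.node (.node (.node (.node (.node (.node (.node (.leaf 243) (.leaf 2065)) (.node (.leaf 1169) (.leaf 0))) (.node (.node (.leaf 628) (.leaf 0)) (.node (.leaf 1399) (.leaf 0)))) (.node (.node (.node (.leaf 53) (.leaf 2323)) (.node (.leaf 1273) (.leaf 0))) (.node (.node (.leaf 736) (.leaf 0)) (.node (.leaf 1794) (.leaf 0))))) (.node (.node (.node (.node (.leaf 227) (.leaf 2192)) (.node (.leaf 1043) (.leaf 0))) (.node (.node (.leaf 532) (.leaf 0)) (.node (.leaf 1658) (.leaf 0)))) (.node (.node (.node (.leaf 396) (.leaf 2481)) (.node (.leaf 1561) (.leaf 0))) (.node (.node (.leaf 970) (.leaf 0)) (.node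 (.leaf 1939) (.leaf 0)))))) (.node (.node (.node (.node (.node (.leaf 30) (.leaf 2147)) (.node (.leaf 1224) (.leaf 0))) (.node (.node (.leaf 691) (.leaf 0)) (.node (.leaf 1471) (.leaf 0)))) (.node (.node (.node (.leaf 358) (.leaf 2366)) (.node (.leaf 1407) (.leaf 0))) (.node (.node (.leaf 884) (.leaf 0)) (.node (.leaf 1819) (.leaf 0))))) (.node (.node (.node (.node (.leaf 12) (.leaf 2292)) (.node (.leaf 1154) (.leaf 0))) (.node (.node (.leaf 617) (.leaf 0)) (.node (.leaf 1731) (.leaf 0)))) (.node (.node (.node (.leaf 518) (.leaf 0)) (.node (.leaf 1533) (.leaf 0))) (.node (.node (.leaf 753) (.leaf 0)) (.node (.leaf 2001) (.leaf 0))))))) (.node (.node (.node (.node (.node (.node (.leaf 273) (.leaf 2266)) (.node (.leaf 1200) (.leaf 0))) (.node (.node (.leaf 717) (.leaf 0)) (.node (.leaf 1492) (.leaf 0)))) (.node (.node (.node (.leaf 302) (.leaf 2263)) (.node (.leaf 1302) (.leaf 0))) (.node (.node (.leaf 764) (.leaf 0)) (.node (.leaf 1952) (.leaf 0))))) (.node (.node (.node (.node (.leaf 280) (.leaf 2139)) (.node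 (.leaf 1191) (.leaf 0))) (.node (.node (.leaf 596) (.leaf 0)) (.node (.leaf 1887) (.leaf 0)))) (.node (.node (.node (.leaf 483) (.leaf 2461)) (.node (.leaf 1514) (.leaf 0))) (.node (.node (.leaf 993) (.leaf 0)) (.node (.leaf 1803) (.leaf 0)))))) (.node (.node (.node (.node (.node (.leaf 60) (.leaf 2331)) (.node (.leaf 1315) (.leaf 0))) (.node (.node (.leaf 504) (.leaf 0)) (.node (.leaf 1661) (.leaf 0)))) (.node (.node (.node (.leaf 355) (.leaf 2368)) (.node (.leaf 1502) (.leaf 0))) (.node (.node (.leaf 847) (.leaf 0)) (.node (.leaf 1738) (.leaf 0))))) (.node (.node (.node (.node (.leaf 16) (.leaf 2216)) (.node (.leaf 1161) (.leaf 0))) (.node (.node (.leaf 980) (.leaf 0)) (.node (.leaf 1867) (.leaf 0)))) (.node (.node (.node (.leaf 572) (.leaf 0)) (.node (.leaf 1590) (.leaf 0))) (.node (.node (.leaf 816) (.leaf 0)) (.node (.leaf 2028) (.leaf 0))))))))) (.node (.node (.node (.node (.node (.node (.node (.node (.leaf 212) (.leaf 2008)) (.node (.leaf 1084) (.leaf 0))) (.node (.node (.leaf 578) (.leaf 0)) (.node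 (.leaf 1567) (.leaf 0)))) (.node (.node (.node (.leaf 291) (.leaf 2203)) (.node (.leaf 1195) (.leaf 0))) (.node (.node (.leaf 986) (.leaf 0)) (.node (.leaf 1971) (.leaf 0))))) (.node (.node (.node (.node (.leaf 66) (.leaf 2095)) (.node (.leaf 1318) (.leaf 0))) (.node (.node (.leaf 451) (.leaf 0)) (.node (.leaf 1667) (.leaf 0)))) (.node (.node (.node (.leaf 374) (.leaf 2453)) (.node (.leaf 1508) (.leaf 0))) (.node (.node (.leaf 890) (.leaf 0)) (.node (.leaf 1859) (.leaf 0)))))) (.node (.node (.node (.node (.node (.leaf 190) (.leaf 2308)) (.node (.leaf 1172) (.leaf 0))) (.node (.node (.leaf 548) (.leaf 0)) (.node (.leaf 1406) (.leaf 0)))) (.node (.node (.node (.leaf 357) (.leaf 2419)) (.node (.leaf 1605) (.leaf 0))) (.node (.node (.leaf 770) (.leaf 0)) (.node (.leaf 1776) (.leaf 0))))) (.node (.node (.node (.node (.leaf 234) (.leaf 2212)) (.node (.leaf 1103) (.leaf 0))) (.node (.node (.leaf 539) (.leaf 0)) (.node (.leaf 1906) (.leaf 0)))) (.node (.node (.node (.leaf 493) (.leaf 0)) (.node (.leaf 1453) (.leaf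 0))) (.node (.node (.leaf 914) (.leaf 0)) (.node (.leaf 1901) (.leaf 0))))))) (.node (.node (.node (.node (.node (.node (.leaf 131) (.leaf 2104)) (.node (.leaf 1118) (.leaf 0))) (.node (.node (.leaf 632) (.leaf 0)) (.node (.leaf 1379) (.leaf 0)))) (.node (.node (.node (.leaf 20) (.leaf 2083)) (.node (.leaf 1217) (.leaf 0))) (.node (.node (.leaf 955) (.leaf 0)) (.node (.leaf 1833) (.leaf 0))))) (.node (.node (.node (.node (.leaf 199) (.leaf 2291)) (.node (.leaf 1291) (.leaf 0))) (.node (.node (.leaf 479) (.leaf 0)) (.node (.leaf 1704) (.leaf 0)))) (.node (.node (.node (.leaf 376) (.leaf 2433)) (.node (.leaf 1369) (.leaf 0))) (.node (.node (.leaf 907) (.leaf 0)) (.node (.leaf 1961) (.leaf 0)))))) (.node (.node (.node (.node (.node (.leaf 36) (.leaf 2171)) (.node (.leaf 1229) (.leaf 0))) (.node (.node (.leaf 725) (.leaf 0)) (.node (.leaf 1637) (.leaf 0)))) (.node (.node (.node (.leaf 344) (.leaf 2390)) (.node (.leaf 1359) (.leaf 0))) (.node (.node (.leaf 800) (.leaf 0)) (.node (.leaf 1933) (.leaf 0))))) (.node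 (.node (.node (.node (.leaf 202) (.leaf 2318)) (.node (.leaf 1135) (.leaf 0))) (.node (.node (.leaf 868) (.leaf 0)) (.node (.leaf 1786) (.leaf 0)))) (.node (.node (.node (.leaf 440) (.leaf 0)) (.node (.leaf 1458) (.leaf 0))) (.node (.node (.leaf 1028) (.leaf 0)) (.node (.leaf 2006) (.leaf 0)))))))) (.node (.node (.node (.node (.node (.node (.node (.leaf 0) (.leaf 2244)) (.node (.leaf 1250) (.leaf 0))) (.node (.node (.leaf 713) (.leaf 0)) (.node (.leaf 1465) (.leaf 0)))) (.node (.node (.node (.leaf 176) (.leaf 2160)) (.node (.leaf 1331) (.leaf 0))) (.node (.node (.leaf 759) (.leaf 0)) (.node (.leaf 1875) (.leaf 0))))) (.node (.node (.node (.node (.leaf 256) (.leaf 2312)) (.node (.leaf 1123) (.leaf 0))) (.node (.node (.leaf 560) (.leaf 0)) (.node (.leaf 1669) (.leaf 0)))) (.node (.node (.node (.leaf 423) (.leaf 2455)) (.node (.leaf 1336) (.leaf 0))) (.node (.node (.leaf 804) (.leaf 0)) (.node (.leaf 1743) (.leaf 0)))))) (.node (.node (.node (.node (.node (.leaf 156) (.leaf 2227)) (.node (.leaf 1310) (.leaf 0)))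 (.node (.node (.leaf 588) (.leaf 0)) (.node (.leaf 1549) (.leaf 0)))) (.node (.node (.node (.leaf 324) (.leaf 2388)) (.node (.leaf 1451) (.leaf 0))) (.node (.node (.leaf 963) (.leaf 0)) (.node (.leaf 1976) (.leaf 0))))) (.node (.node (.node (.node (.leaf 98) (.leaf 2098)) (.node (.leaf 1292) (.leaf 0))) (.node (.node (.leaf 704) (.leaf 0)) (.node (.leaf 1831) (.leaf 0)))) (.node (.node (.node (.leaf 597) (.leaf 0)) (.node (.leaf 1351) (.leaf 0))) (.node (.node (.leaf 778) (.leaf 0)) (.node (.leaf 2019) (.leaf 0))))))) (.node (.node (.node (.node (.node (.node (.leaf 85) (.leaf 2091)) (.node (.leaf 1033) (.leaf 0))) (.node (.node (.leaf 443) (.leaf 0)) (.node (.leaf 1575) (.leaf 0)))) (.node (.node (.node (.leaf 334) (.leaf 2363)) (.node (.leaf 1438) (.leaf 0))) (.node (.node (.leaf 878) (.leaf 0)) (.node (.leaf 1851) (.leaf 0))))) (.node (.node (.node (.node (.leaf 49) (.leaf 2178)) (.node (.leaf 1241) (.leaf 0))) (.node (.node (.leaf 674) (.leaf 0)) (.node (.leaf 1984) (.leaf 0)))) (.node (.node (.node (.leaf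 571) (.leaf 2484)) (.node (.leaf 1564) (.leaf 0))) (.node (.node (.leaf 807) (.leaf 0)) (.node (.leaf 1880) (.leaf 0)))))) (.node (.node (.node (.node (.node (.leaf 222) (.leaf 2152)) (.node (.leaf 1067) (.leaf 0))) (.node (.node (.leaf 555) (.leaf 0)) (.node (.leaf 1682) (.leaf 0)))) (.node (.node (.node (.leaf 387) (.leaf 2451)) (.node (.leaf 1609) (.leaf 0))) (.node (.node (.leaf 906) (.leaf 0)) (.node (.leaf 1837) (.leaf 0))))) (.node (.node (.node (.node (.leaf 129) (.leaf 2296)) (.node (.leaf 1297) (.leaf 0))) (.node (.node (.leaf 821) (.leaf 0)) (.node (.leaf 1770) (.leaf 0)))) (.node (.node (.node (.leaf 622) (.leaf 0)) (.node (.leaf 1376) (.leaf 0))) (.node (.node (.leaf 862) (.leaf 0)) (.node (.leaf 2055) (.leaf 0)))))))))) (.node (.node (.node (.node (.node (.node (.node (.node (.node (.leaf 184) (.leaf 2036)) (.node (.leaf 1004) (.leaf 0))) (.node (.node (.leaf 466) (.leaf 0)) (.node (.leaf 1568) (.leaf 0)))) (.node (.node (.node (.leaf 207) (.leaf 2120)) (.node (.leaf 1078) (.leaf 0))) (.node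 (.node (.leaf 901) (.leaf 0)) (.node (.leaf 1870) (.leaf 0))))) (.node (.node (.node (.node (.leaf 41) (.leaf 2335)) (.node (.leaf 1262) (.leaf 0))) (.node (.node (.leaf 695) (.leaf 0)) (.node (.leaf 1701) (.leaf 0)))) (.node (.node (.node (.leaf 417) (.leaf 2462)) (.node (.leaf 1480) (.leaf 0))) (.node (.node (.leaf 887) (.leaf 0)) (.node (.leaf 1716) (.leaf 0)))))) (.node (.node (.node (.node (.node (.leaf 194) (.leaf 2271)) (.node (.leaf 1061) (.leaf 0))) (.node (.node (.leaf 550) (.leaf 0)) (.node (.leaf 1356) (.leaf 0)))) (.node (.node (.node (.leaf 367) (.leaf 2369)) (.node (.leaf 1500) (.leaf 0))) (.node (.node (.leaf 1016) (.leaf 0)) (.node (.leaf 1988) (.leaf 0))))) (.node (.node (.node (.node (.leaf 171) (.leaf 2075)) (.node (.leaf 1104) (.leaf 0))) (.node (.node (.leaf 513) (.leaf 0)) (.node (.leaf 1826) (.leaf 0)))) (.node (.node (.node (.leaf 680) (.leaf 0)) (.node (.leaf 1415) (.leaf 0))) (.node (.node (.leaf 859) (.leaf 0)) (.node (.leaf 1860) (.leaf 0))))))) (.node (.node (.node (.node (.node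 (.node (.leaf 105) (.leaf 2085)) (.node (.leaf 1119) (.leaf 0))) (.node (.node (.leaf 582) (.leaf 0)) (.node (.leaf 1595) (.leaf 0)))) (.node (.node (.node (.leaf 267) (.leaf 2343)) (.node (.leaf 1162) (.leaf 0))) (.node (.node (.leaf 924) (.leaf 0)) (.node (.leaf 1755) (.leaf 0))))) (.node (.node (.node (.node (.leaf 141) (.leaf 2248)) (.node (.leaf 1203) (.leaf 0))) (.node (.node (.leaf 453) (.leaf 0)) (.node (.leaf 1681) (.leaf 0)))) (.node (.node (.node (.leaf 404) (.leaf 2449)) (.node (.leaf 1343) (.leaf 0))) (.node (.node (.leaf 854) (.leaf 0)) (.node (.leaf 1920) (.leaf 0)))))) (.node (.node (.node (.node (.node (.leaf 245) (.leaf 2148)) (.node (.leaf 1177) (.leaf 0))) (.node (.node (.leaf 670) (.leaf 0)) (.node (.leaf 1635) (.leaf 0)))) (.node (.node (.node (.leaf 338) (.leaf 2411)) (.node (.leaf 1357) (.leaf 0))) (.node (.node (.leaf 743) (.leaf 0)) (.node (.leaf 1893) (.leaf 0))))) (.node (.node (.node (.node (.leaf 204) (.leaf 2276)) (.node (.leaf 1109) (.leaf 0))) (.node (.node (.leaf 871) (.leaf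 0)) (.node (.leaf 1764) (.leaf 0)))) (.node (.node (.node (.leaf 436) (.leaf 0)) (.node (.leaf 1420) (.leaf 0))) (.node (.node (.leaf 975) (.leaf 0)) (.node (.leaf 2049) (.leaf 0)))))))) (.node (.node (.node (.node (.node (.node (.node (.leaf 299) (.leaf 2205)) (.node (.leaf 1171) (.leaf 0))) (.node (.node (.leaf 657) (.leaf 0)) (.node (.leaf 1422) (.leaf 0)))) (.node (.node (.node (.leaf 75) (.leaf 2140)) (.node (.leaf 1330) (.leaf 0))) (.node (.node (.leaf 740) (.leaf 0)) (.node (.leaf 1815) (.leaf 0))))) (.node (.node (.node (.node (.leaf 255) (.leaf 2275)) (.node (.leaf 1100) (.leaf 0))) (.node (.node (.leaf 558) (.leaf 0)) (.node (.leaf 1696) (.leaf 0)))) (.node (.node (.node (.leaf 384) (.leaf 2447)) (.node (.leaf 1615) (.leaf 0))) (.node (.node (.leaf 1025) (.leaf 0)) (.node (.leaf 1996) (.leaf 0)))))) (.node (.node (.node (.node (.node (.leaf 56) (.leaf 2164)) (.node (.leaf 1252) (.leaf 0))) (.node (.node (.leaf 473) (.leaf 0)) (.node (.leaf 1550) (.leaf 0)))) (.node (.node (.node (.leaf 336) (.leaf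 2410)) (.node (.leaf 1408) (.leaf 0))) (.node (.node (.leaf 934) (.leaf 0)) (.node (.leaf 1879) (.leaf 0))))) (.node (.node (.node (.node (.leaf 14) (.leaf 2355)) (.node (.leaf 1208) (.leaf 0))) (.node (.node (.leaf 621) (.leaf 0)) (.node (.leaf 1748) (.leaf 0)))) (.node (.node (.node (.leaf 543) (.leaf 0)) (.node (.leaf 1582) (.leaf 0))) (.node (.node (.leaf 780) (.leaf 0)) (.node (.leaf 2026) (.leaf 0))))))) (.node (.node (.node (.node (.node (.node (.leaf 270) (.leaf 2307)) (.node (.leaf 1286) (.leaf 0))) (.node (.node (.leaf 721) (.leaf 0)) (.node (.leaf 1522) (.leaf 0)))) (.node (.node (.node (.leaf 304) (.leaf 2300)) (.node (.leaf 1433) (.leaf 0))) (.node (.node (.leaf 877) (.leaf 0)) (.node (.leaf 1708) (.leaf 0))))) (.node (.node (.node (.node (.leaf 8) (.leaf 2158)) (.node (.leaf 1188) (.leaf 0))) (.node (.node (.leaf 644) (.leaf 0)) (.node (.leaf 1927) (.leaf 0)))) (.node (.node (.node (.leaf 491) (.leaf 2493)) (.node (.leaf 1563) (.leaf 0))) (.node (.node (.leaf 751) (.leaf 0)) (.node (.leaf 1821)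 (.leaf 0)))))) (.node (.node (.node (.node (.node (.leaf 163) (.leaf 2132)) (.node (.leaf 1069) (.leaf 0))) (.node (.node (.leaf 527) (.leaf 0)) (.node (.leaf 1644) (.leaf 0)))) (.node (.node (.node (.leaf 394) (.leaf 2407)) (.node (.leaf 1556) (.leaf 0))) (.node (.node (.leaf 851) (.leaf 0)) (.node (.leaf 1759) (.leaf 0))))) (.node (.node (.node (.node (.leaf 103) (.leaf 2259)) (.node (.leaf 1215) (.leaf 0))) (.node (.node (.leaf 793) (.leaf 0)) (.node (.leaf 1964) (.leaf 0)))) (.node (.node (.node (.leaf 625) (.leaf 0)) (.node (.leaf 1587) (.leaf 0))) (.node (.node (.leaf 840) (.leaf 0)) (.node (.leaf 2016) (.leaf 0))))))))) (.node (.node (.node (.node (.node (.node (.node (.node (.leaf 214) (.leaf 2047)) (.node (.leaf 1091) (.leaf 0))) (.node (.node (.leaf 577) (.leaf 0)) (.node (.leaf 1622) (.leaf 0)))) (.node (.node (.node (.leaf 54) (.leaf 2282)) (.node (.leaf 1246) (.leaf 0))) (.node (.node (.leaf 733) (.leaf 0)) (.node (.leaf 1772) (.leaf 0))))) (.node (.node (.node (.node (.leaf 169) (.leaf 2113))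 (.node (.leaf 1319) (.leaf 0))) (.node (.node (.leaf 510) (.leaf 0)) (.node (.leaf 1675) (.leaf 0)))) (.node (.node (.node (.leaf 418) (.leaf 2431)) (.node (.leaf 1558) (.leaf 0))) (.node (.node (.leaf 940) (.leaf 0)) (.node (.leaf 1899) (.leaf 0)))))) (.node (.node (.node (.node (.node (.leaf 277) (.leaf 2125)) (.node (.leaf 1223) (.leaf 0))) (.node (.node (.leaf 606) (.leaf 0)) (.node (.leaf 1427) (.leaf 0)))) (.node (.node (.node (.leaf 314) (.leaf 2409)) (.node (.leaf 1383) (.leaf 0))) (.node (.node (.leaf 768) (.leaf 0)) (.node (.leaf 1798) (.leaf 0))))) (.node (.node (.node (.node (.leaf 263) (.leaf 2255)) (.node (.leaf 1127) (.leaf 0))) (.node (.node (.leaf 564) (.leaf 0)) (.node (.leaf 1947) (.leaf 0)))) (.node (.node (.node (.leaf 520) (.leaf 0)) (.node (.leaf 1454) (.leaf 0))) (.node (.node (.leaf 997) (.leaf 0)) (.node (.leaf 1941) (.leaf 0))))))) (.node (.node (.node (.node (.node (.node (.leaf 185) (.leaf 2187)) (.node (.leaf 1144) (.leaf 0))) (.node (.node (.leaf 662) (.leaf 0)) (.node (.leaf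 1494) (.leaf 0)))) (.node (.node (.node (.leaf 306) (.leaf 2220)) (.node (.leaf 1219) (.leaf 0))) (.node (.node (.leaf 1011) (.leaf 0)) (.node (.leaf 1915) (.leaf 0))))) (.node (.node (.node (.node (.leaf 197) (.leaf 2349)) (.node (.leaf 1072) (.leaf 0))) (.node (.node (.leaf 481) (.leaf 0)) (.node (.leaf 1847) (.leaf 0)))) (.node (.node (.node (.leaf 415) (.leaf 2483)) (.node (.leaf 1486) (.leaf 0))) (.node (.node (.leaf 995) (.leaf 0)) (.node (.leaf 1783) (.leaf 0)))))) (.node (.node (.node (.node (.node (.leaf 62) (.leaf 2230)) (.node (.leaf 1261) (.leaf 0))) (.node (.node (.leaf 506) (.leaf 0)) (.node (.leaf 1671) (.leaf 0)))) (.node (.node (.node (.leaf 316) (.leaf 2396)) (.node (.leaf 1476) (.leaf 0))) (.node (.node (.leaf 826) (.leaf 0)) (.node (.leaf 1993) (.leaf 0))))) (.node (.node (.node (.node (.leaf 286) (.leaf 2079)) (.node (.leaf 1158) (.leaf 0))) (.node (.node (.leaf 948) (.leaf 0)) (.node (.leaf 1807) (.leaf 0)))) (.node (.node (.node (.leaf 460) (.leaf 0)) (.node (.leaf 1540) (.leaf 0)))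 (.node (.node (.leaf 1029) (.leaf 0)) (.node (.leaf 2050) (.leaf 0)))))))) (.node (.node (.node (.node (.node (.node (.node (.leaf 82) (.leaf 2287)) (.node (.leaf 1281) (.leaf 0))) (.node (.node (.leaf 469) (.leaf 0)) (.node (.leaf 1463) (.leaf 0)))) (.node (.node (.node (.leaf 238) (.leaf 2183)) (.node (.leaf 1114) (.leaf 0))) (.node (.node (.leaf 876) (.leaf 0)) (.node (.leaf 1972) (.leaf 0))))) (.node (.node (.node (.node (.leaf 91) (.leaf 2069)) (.node (.leaf 1147) (.leaf 0))) (.node (.node (.leaf 614) (.leaf 0)) (.node (.leaf 1653) (.leaf 0)))) (.node (.node (.node (.leaf 419) (.leaf 2438)) (.node (.leaf 1338) (.leaf 0))) (.node (.node (.leaf 805) (.leaf 0)) (.node (.leaf 1760) (.leaf 0)))))) (.node (.node (.node (.node (.node (.leaf 159) (.leaf 2325)) (.node (.leaf 1066) (.leaf 0))) (.node (.node (.leaf 590) (.leaf 0)) (.node (.leaf 1598) (.leaf 0)))) (.node (.node (.node (.leaf 363) (.leaf 2376)) (.node (.leaf 1531) (.leaf 0))) (.node (.node (.leaf 1018) (.leaf 0)) (.node (.leaf 1715) (.leaf 0)))))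 (.node (.node (.node (.node (.leaf 122) (.leaf 2119)) (.node (.leaf 1294) (.leaf 0))) (.node (.node (.leaf 783) (.leaf 0)) (.node (.leaf 1908) (.leaf 0)))) (.node (.node (.node (.leaf 684) (.leaf 0)) (.node (.leaf 1394) (.leaf 0))) (.node (.node (.leaf 895) (.leaf 0)) (.node (.leaf 2009) (.leaf 0))))))) (.node (.node (.node (.node (.node (.node (.leaf 110) (.leaf 2109)) (.node (.leaf 1035) (.leaf 0))) (.node (.node (.leaf 501) (.leaf 0)) (.node (.leaf 1630) (.leaf 0)))) (.node (.node (.node (.leaf 327) (.leaf 2386)) (.node (.leaf 1445) (.leaf 0))) (.node (.node (.leaf 930) (.leaf 0)) (.node (.leaf 1891) (.leaf 0))))) (.node (.node (.node (.node (.leaf 74) (.leaf 2236)) (.node (.leaf 1267) (.leaf 0))) (.node (.node (.leaf 727) (.leaf 0)) (.node (.leaf 1724) (.leaf 0)))) (.node (.node (.node (.leaf 568) (.leaf 2488)) (.node (.leaf 1620) (.leaf 0))) (.node (.node (.leaf 833) (.leaf 0)) (.node (.leaf 1981) (.leaf 0)))))) (.node (.node (.node (.node (.node (.leaf 251) (.leaf 2175)) (.node (.leaf 1183) (.leaf 0)))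 (.node (.node (.leaf 611) (.leaf 0)) (.node (.leaf 1673) (.leaf 0)))) (.node (.node (.node (.leaf 377) (.leaf 2441)) (.node (.leaf 1610) (.leaf 0))) (.node (.node (.leaf 988) (.leaf 0)) (.node (.leaf 1919) (.leaf 0))))) (.node (.node (.node (.node (.leaf 127) (.leaf 2359)) (.node (.leaf 1053) (.leaf 0))) (.node (.node (.leaf 819) (.leaf 0)) (.node (.leaf 1788) (.leaf 0)))) (.node (.node (.node (.leaf 654) (.leaf 0)) (.node (.leaf 1487) (.leaf 0))) (.node (.node (.leaf 919) (.leaf 0)) (.node (.leaf 2051) (.leaf 0)))))))))))) (.node (.node (.node (.node (.node (.node (.node (.node (.node (.node (.node (.leaf 25) (.leaf 2022)) (.node (.leaf 918) (.leaf 0))) (.node (.node (.leaf 710) (.leaf 0)) (.node (.leaf 1521) (.leaf 0)))) (.node (.node (.node (.leaf 152) (.leaf 2103)) (.node (.leaf 1054) (.leaf 0))) (.node (.node (.leaf 843) (.leaf 0)) (.node (.leaf 1809) (.leaf 0))))) (.node (.node (.node (.node (.leaf 250) (.leaf 2235)) (.node (.leaf 1235) (.leaf 0))) (.node (.node (.leaf 610) (.leaf 0)) (.node (.leaf 1700)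 (.leaf 0)))) (.node (.node (.node (.leaf 416) (.leaf 2474)) (.node (.leaf 1365) (.leaf 0))) (.node (.node (.leaf 775) (.leaf 0)) (.node (.leaf 1957) (.leaf 0)))))) (.node (.node (.node (.node (.node (.leaf 135) (.leaf 2190)) (.node (.leaf 1040) (.leaf 0))) (.node (.node (.leaf 526) (.leaf 0)) (.node (.leaf 1631) (.leaf 0)))) (.node (.node (.node (.leaf 361) (.leaf 2374)) (.node (.leaf 1443) (.leaf 0))) (.node (.node (.leaf 958) (.leaf 0)) (.node (.leaf 1929) (.leaf 0))))) (.node (.node (.node (.node (.leaf 73) (.leaf 2337)) (.node (.leaf 1322) (.leaf 0))) (.node (.node (.leaf 729) (.leaf 0)) (.node (.leaf 1744) (.leaf 0)))) (.node (.node (.node (.leaf 651) (.leaf 0)) (.node (.leaf 1391) (.leaf 0))) (.node (.node (.leaf 836) (.leaf 0)) (.node (.leaf 1721) (.leaf 0))))))) (.node (.node (.node (.node (.node (.node (.leaf 84) (.leaf 2344)) (.node (.leaf 1092) (.leaf 0))) (.node (.node (.leaf 468) (.leaf 0)) (.node (.leaf 1543) (.leaf 0)))) (.node (.node (.node (.leaf 239) (.leaf 2241)) (.node (.leaf 1141) (.leaf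 0))) (.node (.node (.leaf 873) (.leaf 0)) (.node (.leaf 1732) (.leaf 0))))) (.node (.node (.node (.node (.leaf 117) (.leaf 2210)) (.node (.leaf 1151) (.leaf 0))) (.node (.node (.leaf 697) (.leaf 0)) (.node (.leaf 1692) (.leaf 0)))) (.node (.node (.node (.leaf 390) (.leaf 2459)) (.node (.leaf 1337) (.leaf 0))) (.node (.node (.leaf 831) (.leaf 0)) (.node (.leaf 1840) (.leaf 0)))))) (.node (.node (.node (.node (.node (.leaf 215) (.leaf 2129)) (.node (.leaf 1064) (.leaf 0))) (.node (.node (.leaf 637) (.leaf 0)) (.node (.leaf 1640) (.leaf 0)))) (.node (.node (.node (.leaf 349) (.leaf 2405)) (.node (.leaf 1577) (.leaf 0))) (.node (.node (.leaf 1017) (.leaf 0)) (.node (.leaf 1853) (.leaf 0))))) (.node (.node (.node (.node (.leaf 145) (.leaf 2196)) (.node (.leaf 1048) (.leaf 0))) (.node (.node (.leaf 788) (.leaf 0)) (.node (.leaf 1948) (.leaf 0)))) (.node (.node (.node (.leaf 686) (.leaf 0)) (.node (.leaf 1396) (.leaf 0))) (.node (.node (.leaf 946) (.leaf 0)) (.node (.leaf 2048) (.leaf 0)))))))) (.node (.node (.node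 (.node (.node (.node (.node (.leaf 241) (.leaf 2066)) (.node (.leaf 1088) (.leaf 0))) (.node (.node (.leaf 631) (.leaf 0)) (.node (.leaf 1397) (.leaf 0)))) (.node (.node (.node (.leaf 50) (.leaf 2320)) (.node (.leaf 1274) (.leaf 0))) (.node (.node (.leaf 732) (.leaf 0)) (.node (.leaf 1793) (.leaf 0))))) (.node (.node (.node (.node (.leaf 225) (.leaf 2195)) (.node (.leaf 1042) (.leaf 0))) (.node (.node (.leaf 534) (.leaf 0)) (.node (.leaf 1702) (.leaf 0)))) (.node (.node (.node (.leaf 388) (.leaf 2470)) (.node (.leaf 1557) (.leaf 0))) (.node (.node (.leaf 971) (.leaf 0)) (.node (.leaf 1936) (.leaf 0)))))) (.node (.node (.node (.node (.node (.leaf 34) (.leaf 2145)) (.node (.leaf 1225) (.leaf 0))) (.node (.node (.leaf 687) (.leaf 0)) (.node (.leaf 1469) (.leaf 0)))) (.node (.node (.node (.leaf 348) (.leaf 2365)) (.node (.leaf 1385) (.leaf 0))) (.node (.node (.leaf 883) (.leaf 0)) (.node (.leaf 1817) (.leaf 0))))) (.node (.node (.node (.node (.leaf 260) (.leaf 2295)) (.node (.leaf 1156) (.leaf 0))) (.node (.node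 (.leaf 566) (.leaf 0)) (.node (.leaf 1730) (.leaf 0)))) (.node (.node (.node (.leaf 519) (.leaf 0)) (.node (.leaf 1532) (.leaf 0))) (.node (.node (.leaf 756) (.leaf 0)) (.node (.leaf 2002) (.leaf 0))))))) (.node (.node (.node (.node (.node (.node (.leaf 186) (.leaf 2264)) (.node (.leaf 1199) (.leaf 0))) (.node (.node (.leaf 664) (.leaf 0)) (.node (.leaf 1495) (.leaf 0)))) (.node (.node (.node (.leaf 309) (.leaf 2261)) (.node (.leaf 1305) (.leaf 0))) (.node (.node (.leaf 765) (.leaf 0)) (.node (.leaf 1955) (.leaf 0))))) (.node (.node (.node (.node (.leaf 281) (.leaf 2137)) (.node (.leaf 1076) (.leaf 0))) (.node (.node (.leaf 592) (.leaf 0)) (.node (.leaf 1885) (.leaf 0)))) (.node (.node (.node (.leaf 482) (.leaf 2450)) (.node (.leaf 1516) (.leaf 0))) (.node (.node (.leaf 996) (.leaf 0)) (.node (.leaf 1801) (.leaf 0)))))) (.node (.node (.node (.node (.node (.leaf 61) (.leaf 2329)) (.node (.leaf 1316) (.leaf 0))) (.node (.node (.leaf 502) (.leaf 0)) (.node (.leaf 1656) (.leaf 0)))) (.node (.node (.node (.leaf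 339) (.leaf 2423)) (.node (.leaf 1504) (.leaf 0))) (.node (.node (.leaf 825) (.leaf 0)) (.node (.leaf 1739) (.leaf 0))))) (.node (.node (.node (.node (.leaf 17) (.leaf 2217)) (.node (.leaf 1157) (.leaf 0))) (.node (.node (.leaf 978) (.leaf 0)) (.node (.leaf 1864) (.leaf 0)))) (.node (.node (.node (.leaf 573) (.leaf 0)) (.node (.leaf 1537) (.leaf 0))) (.node (.node (.leaf 813) (.leaf 0)) (.node (.leaf 2020) (.leaf 0))))))))) (.node (.node (.node (.node (.node (.node (.node (.node (.leaf 181) (.leaf 2063)) (.node (.leaf 1082) (.leaf 0))) (.node (.node (.leaf 463) (.leaf 0)) (.node (.leaf 1570) (.leaf 0)))) (.node (.node (.node (.leaf 293) (.leaf 2200)) (.node (.leaf 1192) (.leaf 0))) (.node (.node (.leaf 984) (.leaf 0)) (.node (.leaf 1969) (.leaf 0))))) (.node (.node (.node (.node (.leaf 67) (.leaf 2093)) (.node (.leaf 1266) (.leaf 0))) (.node (.node (.leaf 448) (.leaf 0)) (.node (.leaf 1662) (.leaf 0)))) (.node (.node (.node (.leaf 373) (.leaf 2430)) (.node (.leaf 1511) (.leaf 0))) (.node (.node (.leaf 891)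 (.leaf 0)) (.node (.leaf 1857) (.leaf 0)))))) (.node (.node (.node (.node (.node (.leaf 193) (.leaf 2309)) (.node (.leaf 1175) (.leaf 0))) (.node (.node (.leaf 551) (.leaf 0)) (.node (.leaf 1402) (.leaf 0)))) (.node (.node (.node (.leaf 347) (.leaf 2408)) (.node (.leaf 1604) (.leaf 0))) (.node (.node (.leaf 1015) (.leaf 0)) (.node (.leaf 1779) (.leaf 0))))) (.node (.node (.node (.node (.leaf 231) (.leaf 2213)) (.node (.leaf 1105) (.leaf 0))) (.node (.node (.leaf 538) (.leaf 0)) (.node (.leaf 1904) (.leaf 0)))) (.node (.node (.node (.leaf 495) (.leaf 0)) (.node (.leaf 1413) (.leaf 0))) (.node (.node (.leaf 912) (.leaf 0)) (.node (.leaf 1902) (.leaf 0))))))) (.node (.node (.node (.node (.node (.node (.leaf 134) (.leaf 2107)) (.node (.leaf 1120) (.leaf 0))) (.node (.node (.leaf 636) (.leaf 0)) (.node (.leaf 1377) (.leaf 0)))) (.node (.node (.node (.leaf 24) (.leaf 2082)) (.node (.leaf 1163) (.leaf 0))) (.node (.node (.leaf 953) (.leaf 0)) (.node (.leaf 1834) (.leaf 0))))) (.node (.node (.node (.node (.leaf 142)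 (.leaf 2289)) (.node (.leaf 1287) (.leaf 0))) (.node (.node (.leaf 455) (.leaf 0)) (.node (.leaf 1707) (.leaf 0)))) (.node (.node (.node (.leaf 431) (.leaf 2428)) (.node (.leaf 1371) (.leaf 0))) (.node (.node (.leaf 911) (.leaf 0)) (.node (.leaf 1962) (.leaf 0)))))) (.node (.node (.node (.node (.node (.leaf 38) (.leaf 2168)) (.node (.leaf 1228) (.leaf 0))) (.node (.node (.leaf 722) (.leaf 0)) (.node (.leaf 1634) (.leaf 0)))) (.node (.node (.node (.leaf 321) (.leaf 2382)) (.node (.leaf 1361) (.leaf 0))) (.node (.node (.leaf 801) (.leaf 0)) (.node (.leaf 1932) (.leaf 0))))) (.node (.node (.node (.node (.leaf 200) (.leaf 2316)) (.node (.leaf 1132) (.leaf 0))) (.node (.node (.leaf 867) (.leaf 0)) (.node (.leaf 1787) (.leaf 0)))) (.node (.node (.node (.leaf 441) (.leaf 0)) (.node (.leaf 1459) (.leaf 0))) (.node (.node (.leaf 972) (.leaf 0)) (.node (.leaf 2005) (.leaf 0)))))))) (.node (.node (.node (.node (.node (.node (.node (.leaf 1) (.leaf 2245)) (.node (.leaf 1248) (.leaf 0))) (.node (.node (.leaf 712) (.leaf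 0)) (.node (.leaf 1426) (.leaf 0)))) (.node (.node (.node (.leaf 177) (.leaf 2161)) (.node (.leaf 1329) (.leaf 0))) (.node (.node (.leaf 758) (.leaf 0)) (.node (.leaf 1873) (.leaf 0))))) (.node (.node (.node (.node (.leaf 258) (.leaf 2315)) (.node (.leaf 1126) (.leaf 0))) (.node (.node (.leaf 559) (.leaf 0)) (.node (.leaf 1664) (.leaf 0)))) (.node (.node (.node (.leaf 413) (.leaf 2432)) (.node (.leaf 1334) (.leaf 0))) (.node (.node (.leaf 1026) (.leaf 0)) (.node (.leaf 1741) (.leaf 0)))))) (.node (.node (.node (.node (.node (.leaf 57) (.leaf 2225)) (.node (.leaf 1308) (.leaf 0))) (.node (.node (.leaf 472) (.leaf 0)) (.node (.leaf 1551) (.leaf 0)))) (.node (.node (.node (.leaf 315) (.leaf 2380)) (.node (.leaf 1450) (.leaf 0))) (.node (.node (.leaf 964) (.leaf 0)) (.node (.leaf 1977) (.leaf 0))))) (.node (.node (.node (.node (.leaf 95) (.leaf 2099)) (.node (.leaf 1210) (.leaf 0))) (.node (.node (.leaf 705) (.leaf 0)) (.node (.leaf 1829) (.leaf 0)))) (.node (.node (.node (.leaf 598) (.leaf 0)) (.node (.leaf 1348)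 (.leaf 0))) (.node (.node (.leaf 779) (.leaf 0)) (.node (.leaf 2014) (.leaf 0))))))) (.node (.node (.node (.node (.node (.node (.leaf 89) (.leaf 2088)) (.node (.leaf 1282) (.leaf 0))) (.node (.node (.leaf 444) (.leaf 0)) (.node (.leaf 1572) (.leaf 0)))) (.node (.node (.node (.leaf 333) (.leaf 2360)) (.node (.leaf 1441) (.leaf 0))) (.node (.node (.leaf 881) (.leaf 0)) (.node (.leaf 1848) (.leaf 0))))) (.node (.node (.node (.node (.leaf 46) (.leaf 2176)) (.node (.leaf 1240) (.leaf 0))) (.node (.node (.leaf 673) (.leaf 0)) (.node (.leaf 1985) (.leaf 0)))) (.node (.node (.node (.leaf 489) (.leaf 2491)) (.node (.leaf 1562) (.leaf 0))) (.node (.node (.leaf 809) (.leaf 0)) (.node (.leaf 1881) (.leaf 0)))))) (.node (.node (.node (.node (.node (.leaf 223) (.leaf 2155)) (.node (.leaf 1071) (.leaf 0))) (.node (.node (.leaf 556) (.leaf 0)) (.node (.leaf 1672) (.leaf 0)))) (.node (.node (.node (.leaf 382) (.leaf 2435)) (.node (.leaf 1552) (.leaf 0))) (.node (.node (.leaf 904) (.leaf 0)) (.node (.leaf 1839) (.leaf 0)))))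 (.node (.node (.node (.node (.leaf 100) (.leaf 2299)) (.node (.leaf 1298) (.leaf 0))) (.node (.node (.leaf 795) (.leaf 0)) (.node (.leaf 1771) (.leaf 0)))) (.node (.node (.node (.leaf 623) (.leaf 0)) (.node (.leaf 1373) (.leaf 0))) (.node (.node (.leaf 865) (.leaf 0)) (.node (.leaf 2045) (.leaf 0)))))))))) (.node (.node (.node (.node (.node (.node (.node (.node (.node (.leaf 180) (.leaf 2013)) (.node (.leaf 1006) (.leaf 0))) (.node (.node (.leaf 464) (.leaf 0)) (.node (.leaf 1520) (.leaf 0)))) (.node (.node (.node (.leaf 205) (.leaf 2121)) (.node (.leaf 1077) (.leaf 0))) (.node (.node (.leaf 900) (.leaf 0)) (.node (.leaf 1868) (.leaf 0))))) (.node (.node (.node (.node (.leaf 44) (.leaf 2333)) (.node (.leaf 1265) (.leaf 0))) (.node (.node (.leaf 692) (.leaf 0)) (.node (.leaf 1690) (.leaf 0)))) (.node (.node (.node (.leaf 407) (.leaf 2452)) (.node (.leaf 1481) (.leaf 0))) (.node (.node (.leaf 774) (.leaf 0)) (.node (.leaf 1717) (.leaf 0)))))) (.node (.node (.node (.node (.node (.leaf 139) (.leaf 2269)) (.node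 (.leaf 1059) (.leaf 0))) (.node (.node (.leaf 524) (.leaf 0)) (.node (.leaf 1354) (.leaf 0)))) (.node (.node (.node (.leaf 356) (.leaf 2413)) (.node (.leaf 1501) (.leaf 0))) (.node (.node (.leaf 1013) (.leaf 0)) (.node (.leaf 1989) (.leaf 0))))) (.node (.node (.node (.node (.leaf 174) (.leaf 2073)) (.node (.leaf 1325) (.leaf 0))) (.node (.node (.leaf 514) (.leaf 0)) (.node (.leaf 1827) (.leaf 0)))) (.node (.node (.node (.leaf 678) (.leaf 0)) (.node (.leaf 1416) (.leaf 0))) (.node (.node (.leaf 860) (.leaf 0)) (.node (.leaf 1861) (.leaf 0))))))) (.node (.node (.node (.node (.node (.node (.leaf 107) (.leaf 2086)) (.node (.leaf 1094) (.leaf 0))) (.node (.node (.leaf 584) (.leaf 0)) (.node (.leaf 1592) (.leaf 0)))) (.node (.node (.node (.leaf 265) (.leaf 2340)) (.node (.leaf 1164) (.leaf 0))) (.node (.node (.leaf 926) (.leaf 0)) (.node (.leaf 1753) (.leaf 0))))) (.node (.node (.node (.node (.leaf 140) (.leaf 2249)) (.node (.leaf 1204) (.leaf 0))) (.node (.node (.leaf 456) (.leaf 0)) (.node (.leaf 1670) (.leaf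 0)))) (.node (.node (.node (.leaf 381) (.leaf 2444)) (.node (.leaf 1342) (.leaf 0))) (.node (.node (.leaf 852) (.leaf 0)) (.node (.leaf 1921) (.leaf 0)))))) (.node (.node (.node (.node (.node (.leaf 248) (.leaf 2151)) (.node (.leaf 1181) (.leaf 0))) (.node (.node (.leaf 671) (.leaf 0)) (.node (.leaf 1642) (.leaf 0)))) (.node (.node (.node (.leaf 330) (.leaf 2401)) (.node (.leaf 1579) (.leaf 0))) (.node (.node (.leaf 744) (.leaf 0)) (.node (.leaf 1894) (.leaf 0))))) (.node (.node (.node (.node (.leaf 147) (.leaf 2279)) (.node (.leaf 1111) (.leaf 0))) (.node (.node (.leaf 789) (.leaf 0)) (.node (.leaf 1767) (.leaf 0)))) (.node (.node (.node (.leaf 432) (.leaf 0)) (.node (.leaf 1421) (.leaf 0))) (.node (.node (.leaf 974) (.leaf 0)) (.node (.leaf 2039) (.leaf 0)))))))) (.node (.node (.node (.node (.node (.node (.node (.leaf 296) (.leaf 2206)) (.node (.leaf 1168) (.leaf 0))) (.node (.node (.leaf 660) (.leaf 0)) (.node (.leaf 1425) (.leaf 0)))) (.node (.node (.node (.leaf 78) (.leaf 2142)) (.node (.leaf 1272) (.leaf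 0))) (.node (.node (.leaf 741) (.leaf 0)) (.node (.leaf 1812) (.leaf 0))))) (.node (.node (.node (.node (.leaf 228) (.leaf 2274)) (.node (.leaf 1099) (.leaf 0))) (.node (.node (.leaf 536) (.leaf 0)) (.node (.leaf 1679) (.leaf 0)))) (.node (.node (.node (.leaf 375) (.leaf 2442)) (.node (.leaf 1613) (.leaf 0))) (.node (.node (.leaf 1023) (.leaf 0)) (.node (.leaf 1998) (.leaf 0)))))) (.node (.node (.node (.node (.node (.leaf 58) (.leaf 2165)) (.node (.leaf 1254) (.leaf 0))) (.node (.node (.leaf 474) (.leaf 0)) (.node (.leaf 1468) (.leaf 0)))) (.node (.node (.node (.leaf 328) (.leaf 2400)) (.node (.leaf 1409) (.leaf 0))) (.node (.node (.leaf 932) (.leaf 0)) (.node (.leaf 1876) (.leaf 0))))) (.node (.node (.node (.node (.leaf 11) (.leaf 2353)) (.node (.leaf 1211) (.leaf 0))) (.node (.node (.leaf 618) (.leaf 0)) (.node (.leaf 1751) (.leaf 0)))) (.node (.node (.node (.leaf 542) (.leaf 0)) (.node (.leaf 1583) (.leaf 0))) (.node (.node (.leaf 755) (.leaf 0)) (.node (.leaf 2025) (.leaf 0))))))) (.node (.node (.node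 (.node (.node (.node (.leaf 274) (.leaf 2306)) (.node (.leaf 1285) (.leaf 0))) (.node (.node (.leaf 720) (.leaf 0)) (.node (.leaf 1523) (.leaf 0)))) (.node (.node (.node (.leaf 305) (.leaf 2301)) (.node (.leaf 1435) (.leaf 0))) (.node (.node (.leaf 762) (.leaf 0)) (.node (.leaf 1711) (.leaf 0))))) (.node (.node (.node (.node (.leaf 9) (.leaf 2159)) (.node (.leaf 1187) (.leaf 0))) (.node (.node (.leaf 643) (.leaf 0)) (.node (.leaf 1925) (.leaf 0)))) (.node (.node (.node (.leaf 488) (.leaf 2495)) (.node (.leaf 1512) (.leaf 0))) (.node (.node (.leaf 748) (.leaf 0)) (.node (.leaf 1820) (.leaf 0)))))) (.node (.node (.node (.node (.node (.leaf 161) (.leaf 2133)) (.node (.leaf 1313) (.leaf 0))) (.node (.node (.leaf 531) (.leaf 0)) (.node (.leaf 1694) (.leaf 0)))) (.node (.node (.node (.leaf 393) (.leaf 2391)) (.node (.leaf 1553) (.leaf 0))) (.node (.node (.leaf 848) (.leaf 0)) (.node (.leaf 1756) (.leaf 0))))) (.node (.node (.node (.node (.leaf 102) (.leaf 2256)) (.node (.leaf 1216) (.leaf 0))) (.node (.node (.leaf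 796) (.leaf 0)) (.node (.leaf 1965) (.leaf 0)))) (.node (.node (.node (.leaf 574) (.leaf 0)) (.node (.leaf 1588) (.leaf 0))) (.node (.node (.leaf 837) (.leaf 0)) (.node (.leaf 2007) (.leaf 0))))))))) (.node (.node (.node (.node (.node (.node (.node (.node (.leaf 211) (.leaf 2031)) (.node (.leaf 1087) (.leaf 0))) (.node (.node (.leaf 580) (.leaf 0)) (.node (.leaf 1626) (.leaf 0)))) (.node (.node (.node (.leaf 292) (.leaf 2283)) (.node (.leaf 1244) (.leaf 0))) (.node (.node (.leaf 983) (.leaf 0)) (.node (.leaf 1773) (.leaf 0))))) (.node (.node (.node (.node (.leaf 166) (.leaf 2112)) (.node (.leaf 1320) (.leaf 0))) (.node (.node (.leaf 507) (.leaf 0)) (.node (.leaf 1652) (.leaf 0)))) (.node (.node (.node (.leaf 408) (.leaf 2480)) (.node (.leaf 1509) (.leaf 0))) (.node (.node (.leaf 941) (.leaf 0)) (.node (.leaf 1898) (.leaf 0)))))) (.node (.node (.node (.node (.node (.leaf 279) (.leaf 2126)) (.node (.leaf 1176) (.leaf 0))) (.node (.node (.leaf 604) (.leaf 0)) (.node (.leaf 1429) (.leaf 0)))) (.node (.node (.node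 (.leaf 313) (.leaf 2399)) (.node (.leaf 1382) (.leaf 0))) (.node (.node (.leaf 771) (.leaf 0)) (.node (.leaf 1799) (.leaf 0))))) (.node (.node (.node (.node (.leaf 261) (.leaf 2252)) (.node (.leaf 1130) (.leaf 0))) (.node (.node (.leaf 562) (.leaf 0)) (.node (.leaf 1945) (.leaf 0)))) (.node (.node (.node (.leaf 496) (.leaf 0)) (.node (.leaf 1456) (.leaf 0))) (.node (.node (.leaf 1000) (.leaf 0)) (.node (.leaf 1940) (.leaf 0))))))) (.node (.node (.node (.node (.node (.node (.leaf 189) (.leaf 2185)) (.node (.leaf 1142) (.leaf 0))) (.node (.node (.leaf 663) (.leaf 0)) (.node (.leaf 1378) (.leaf 0)))) (.node (.node (.node (.leaf 307) (.leaf 2222)) (.node (.leaf 1221) (.leaf 0))) (.node (.node (.leaf 1009) (.leaf 0)) (.node (.leaf 1914) (.leaf 0))))) (.node (.node (.node (.node (.leaf 196) (.leaf 2348)) (.node (.leaf 1075) (.leaf 0))) (.node (.node (.leaf 480) (.leaf 0)) (.node (.leaf 1844) (.leaf 0)))) (.node (.node (.node (.leaf 399) (.leaf 2472)) (.node (.leaf 1482) (.leaf 0))) (.node (.node (.leaf 909) (.leaf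 0)) (.node (.leaf 1781) (.leaf 0)))))) (.node (.node (.node (.node (.node (.leaf 35) (.leaf 2231)) (.node (.leaf 1259) (.leaf 0))) (.node (.node (.leaf 726) (.leaf 0)) (.node (.leaf 1655) (.leaf 0)))) (.node (.node (.node (.leaf 371) (.leaf 2373)) (.node (.leaf 1475) (.leaf 0))) (.node (.node (.leaf 822) (.leaf 0)) (.node (.leaf 1994) (.leaf 0))))) (.node (.node (.node (.node (.leaf 287) (.leaf 2077)) (.node (.leaf 1134) (.leaf 0))) (.node (.node (.leaf 951) (.leaf 0)) (.node (.leaf 1805) (.leaf 0)))) (.node (.node (.node (.leaf 458) (.leaf 0)) (.node (.leaf 1538) (.leaf 0))) (.node (.node (.leaf 1031) (.leaf 0)) (.node (.leaf 2040) (.leaf 0)))))))) (.node (.node (.node (.node (.node (.node (.node (.leaf 3) (.leaf 2285)) (.node (.leaf 1278) (.leaf 0))) (.node (.node (.leaf 715) (.leaf 0)) (.node (.leaf 1464) (.leaf 0)))) (.node (.node (.node (.leaf 236) (.leaf 2181)) (.node (.leaf 1112) (.leaf 0))) (.node (.node (.leaf 872) (.leaf 0)) (.node (.leaf 1974) (.leaf 0))))) (.node (.node (.node (.node (.leaf 93)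 (.leaf 2070)) (.node (.leaf 1125) (.leaf 0))) (.node (.node (.leaf 616) (.leaf 0)) (.node (.leaf 1648) (.leaf 0)))) (.node (.node (.node (.leaf 409) (.leaf 2482)) (.node (.leaf 1339) (.leaf 0))) (.node (.node (.leaf 803) (.leaf 0)) (.node (.leaf 1762) (.leaf 0)))))) (.node (.node (.node (.node (.node (.leaf 157) (.leaf 2324)) (.node (.leaf 1063) (.leaf 0))) (.node (.node (.leaf 591) (.leaf 0)) (.node (.leaf 1597) (.leaf 0)))) (.node (.node (.node (.leaf 353) (.leaf 2367)) (.node (.leaf 1529) (.leaf 0))) (.node (.node (.leaf 962) (.leaf 0)) (.node (.leaf 1713) (.leaf 0))))) (.node (.node (.node (.node (.leaf 123) (.leaf 2117)) (.node (.leaf 1296) (.leaf 0))) (.node (.node (.leaf 782) (.leaf 0)) (.node (.leaf 1911) (.leaf 0)))) (.node (.node (.node (.leaf 683) (.leaf 0)) (.node (.leaf 1349) (.leaf 0))) (.node (.node (.leaf 893) (.leaf 0)) (.node (.leaf 2053) (.leaf 0))))))) (.node (.node (.node (.node (.node (.node (.leaf 113) (.leaf 2110)) (.node (.leaf 1036) (.leaf 0))) (.node (.node (.leaf 497) (.leaf 0))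 (.node (.leaf 1629) (.leaf 0)))) (.node (.node (.node (.leaf 322) (.leaf 2385)) (.node (.leaf 1440) (.leaf 0))) (.node (.node (.leaf 931) (.leaf 0)) (.node (.leaf 1889) (.leaf 0))))) (.node (.node (.node (.node (.leaf 45) (.leaf 2239)) (.node (.leaf 1271) (.leaf 0))) (.node (.node (.leaf 675) (.leaf 0)) (.node (.leaf 1727) (.leaf 0)))) (.node (.node (.node (.leaf 567) (.leaf 2486)) (.node (.leaf 1617) (.leaf 0))) (.node (.node (.leaf 835) (.leaf 0)) (.node (.leaf 1982) (.leaf 0)))))) (.node (.node (.node (.node (.node (.leaf 252) (.leaf 2172)) (.node (.leaf 1186) (.leaf 0))) (.node (.node (.leaf 609) (.leaf 0)) (.node (.leaf 1650) (.leaf 0)))) (.node (.node (.node (.leaf 421) (.leaf 2436)) (.node (.leaf 1607) (.leaf 0))) (.node (.node (.leaf 989) (.leaf 0)) (.node (.leaf 1916) (.leaf 0))))) (.node (.node (.node (.node (.leaf 128) (.leaf 2357)) (.node (.leaf 1055) (.leaf 0))) (.node (.node (.leaf 817) (.leaf 0)) (.node (.leaf 1791) (.leaf 0)))) (.node (.node (.node (.leaf 652) (.leaf 0)) (.node (.leaf 1490)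 (.leaf 0))) (.node (.node (.leaf 863) (.leaf 0)) (.node (.leaf 2041) (.leaf 0))))))))))) (.node (.node (.node (.node (.node (.node (.node (.node (.node (.node (.leaf 29) (.leaf 2046)) (.node (.leaf 1003) (.leaf 0))) (.node (.node (.leaf 711) (.leaf 0)) (.node (.leaf 1519) (.leaf 0)))) (.node (.node (.node (.leaf 151) (.leaf 2102)) (.node (.leaf 1080) (.leaf 0))) (.node (.node (.leaf 845) (.leaf 0)) (.node (.leaf 1808) (.leaf 0))))) (.node (.node (.node (.node (.leaf 42) (.leaf 2232)) (.node (.leaf 1232) (.leaf 0))) (.node (.node (.leaf 693) (.leaf 0)) (.node (.leaf 1674) (.leaf 0)))) (.node (.node (.node (.leaf 378) (.leaf 2425)) (.node (.leaf 1363) (.leaf 0))) (.node (.node (.leaf 776) (.leaf 0)) (.node (.leaf 1959) (.leaf 0)))))) (.node (.node (.node (.node (.node (.leaf 137) (.leaf 2191)) (.node (.leaf 1038) (.leaf 0))) (.node (.node (.leaf 523) (.leaf 0)) (.node (.leaf 1352) (.leaf 0)))) (.node (.node (.node (.leaf 340) (.leaf 2387)) (.node (.leaf 1499) (.leaf 0))) (.node (.node (.leaf 957) (.leaf 0))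 (.node (.leaf 1930) (.leaf 0))))) (.node (.node (.node (.node (.leaf 172) (.leaf 2336)) (.node (.leaf 1326) (.leaf 0))) (.node (.node (.leaf 512) (.leaf 0)) (.node (.leaf 1746) (.leaf 0)))) (.node (.node (.node (.leaf 650) (.leaf 0)) (.node (.leaf 1389) (.leaf 0))) (.node (.node (.leaf 858) (.leaf 0)) (.node (.leaf 1720) (.leaf 0))))))) (.node (.node (.node (.node (.node (.node (.leaf 109) (.leaf 2346)) (.node (.leaf 1093) (.leaf 0))) (.node (.node (.leaf 583) (.leaf 0)) (.node (.leaf 1544) (.leaf 0)))) (.node (.node (.node (.leaf 266) (.leaf 2240)) (.node (.leaf 1138) (.leaf 0))) (.node (.node (.leaf 925) (.leaf 0)) (.node (.leaf 1733) (.leaf 0))))) (.node (.node (.node (.node (.leaf 118) (.leaf 2208)) (.node (.leaf 1205) (.leaf 0))) (.node (.node (.leaf 701) (.leaf 0)) (.node (.leaf 1660) (.leaf 0)))) (.node (.node (.node (.leaf 414) (.leaf 2427)) (.node (.leaf 1345) (.leaf 0))) (.node (.node (.leaf 829) (.leaf 0)) (.node (.leaf 1841) (.leaf 0)))))) (.node (.node (.node (.node (.node (.leaf 219) (.leaf 2130))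 (.node (.leaf 1178) (.leaf 0))) (.node (.node (.leaf 638) (.leaf 0)) (.node (.leaf 1638) (.leaf 0)))) (.node (.node (.node (.leaf 370) (.leaf 2372)) (.node (.leaf 1578) (.leaf 0))) (.node (.node (.leaf 745) (.leaf 0)) (.node (.leaf 1854) (.leaf 0))))) (.node (.node (.node (.node (.leaf 146) (.leaf 2198)) (.node (.leaf 1047) (.leaf 0))) (.node (.node (.leaf 787) (.leaf 0)) (.node (.leaf 1951) (.leaf 0)))) (.node (.node (.node (.leaf 434) (.leaf 0)) (.node (.leaf 1419) (.leaf 0))) (.node (.node (.leaf 942) (.leaf 0)) (.node (.leaf 2010) (.leaf 0)))))))) (.node (.node (.node (.node (.node (.node (.node (.leaf 240) (.leaf 2064)) (.node (.leaf 1170) (.leaf 0))) (.node (.node (.leaf 629) (.leaf 0)) (.node (.leaf 1400) (.leaf 0)))) (.node (.node (.node (.leaf 76) (.leaf 2322)) (.node (.leaf 1275) (.leaf 0))) (.node (.node (.leaf 739) (.leaf 0)) (.node (.leaf 1792) (.leaf 0))))) (.node (.node (.node (.node (.leaf 229) (.leaf 2193)) (.node (.leaf 1046) (.leaf 0))) (.node (.node (.leaf 535) (.leaf 0)) (.node (.leaf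 1663) (.leaf 0)))) (.node (.node (.node (.leaf 412) (.leaf 2426)) (.node (.leaf 1614) (.leaf 0))) (.node (.node (.leaf 967) (.leaf 0)) (.node (.leaf 1938) (.leaf 0)))))) (.node (.node (.node (.node (.node (.leaf 31) (.leaf 2144)) (.node (.leaf 1256) (.leaf 0))) (.node (.node (.leaf 688) (.leaf 0)) (.node (.leaf 1467) (.leaf 0)))) (.node (.node (.node (.leaf 369) (.leaf 2371)) (.node (.leaf 1411) (.leaf 0))) (.node (.node (.leaf 886) (.leaf 0)) (.node (.leaf 1818) (.leaf 0))))) (.node (.node (.node (.node (.leaf 13) (.leaf 2294)) (.node (.leaf 1153) (.leaf 0))) (.node (.node (.leaf 619) (.leaf 0)) (.node (.leaf 1728) (.leaf 0)))) (.node (.node (.node (.leaf 546) (.leaf 0)) (.node (.leaf 1535) (.leaf 0))) (.node (.node (.leaf 752) (.leaf 0)) (.node (.leaf 2000) (.leaf 0))))))) (.node (.node (.node (.node (.node (.node (.leaf 271) (.leaf 2265)) (.node (.leaf 1197) (.leaf 0))) (.node (.node (.leaf 719) (.leaf 0)) (.node (.leaf 1526) (.leaf 0)))) (.node (.node (.node (.leaf 301) (.leaf 2262)) (.node (.leaf 1306)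 (.leaf 0))) (.node (.node (.leaf 766) (.leaf 0)) (.node (.leaf 1954) (.leaf 0))))) (.node (.node (.node (.node (.leaf 284) (.leaf 2138)) (.node (.leaf 1190) (.leaf 0))) (.node (.node (.leaf 594) (.leaf 0)) (.node (.leaf 1886) (.leaf 0)))) (.node (.node (.node (.leaf 484) (.leaf 2478)) (.node (.leaf 1513) (.leaf 0))) (.node (.node (.leaf 747) (.leaf 0)) (.node (.leaf 1802) (.leaf 0)))))) (.node (.node (.node (.node (.node (.leaf 164) (.leaf 2328)) (.node (.leaf 1314) (.leaf 0))) (.node (.node (.leaf 528) (.leaf 0)) (.node (.leaf 1666) (.leaf 0)))) (.node (.node (.node (.leaf 365) (.leaf 2378)) (.node (.leaf 1503) (.leaf 0))) (.node (.node (.leaf 849) (.leaf 0)) (.node (.leaf 1736) (.leaf 0))))) (.node (.node (.node (.node (.leaf 18) (.leaf 2218)) (.node (.leaf 1214) (.leaf 0))) (.node (.node (.leaf 981) (.leaf 0)) (.node (.leaf 1865) (.leaf 0)))) (.node (.node (.node (.leaf 576) (.leaf 0)) (.node (.leaf 1589) (.leaf 0))) (.node (.node (.leaf 814) (.leaf 0)) (.node (.leaf 2044) (.leaf 0))))))))) (.node (.node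 (.node (.node (.node (.node (.node (.node (.leaf 213) (.leaf 2018)) (.node (.leaf 1086) (.leaf 0))) (.node (.node (.leaf 579) (.leaf 0)) (.node (.leaf 1624) (.leaf 0)))) (.node (.node (.node (.leaf 294) (.leaf 2201)) (.node (.leaf 1194) (.leaf 0))) (.node (.node (.leaf 985) (.leaf 0)) (.node (.leaf 1970) (.leaf 0))))) (.node (.node (.node (.node (.leaf 69) (.leaf 2094)) (.node (.leaf 1321) (.leaf 0))) (.node (.node (.leaf 449) (.leaf 0)) (.node (.leaf 1678) (.leaf 0)))) (.node (.node (.node (.leaf 379) (.leaf 2463)) (.node (.leaf 1507) (.leaf 0))) (.node (.node (.leaf 938) (.leaf 0)) (.node (.leaf 1858) (.leaf 0)))))) (.node (.node (.node (.node (.node (.leaf 278) (.leaf 2311)) (.node (.leaf 1173) (.leaf 0))) (.node (.node (.leaf 603) (.leaf 0)) (.node (.leaf 1403) (.leaf 0)))) (.node (.node (.node (.leaf 368) (.leaf 2370)) (.node (.leaf 1602) (.leaf 0))) (.node (.node (.leaf 769) (.leaf 0)) (.node (.leaf 1778) (.leaf 0))))) (.node (.node (.node (.node (.leaf 232) (.leaf 2215)) (.node (.leaf 1128) (.leaf 0)))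 (.node (.node (.leaf 541) (.leaf 0)) (.node (.leaf 1905) (.leaf 0)))) (.node (.node (.node (.leaf 492) (.leaf 0)) (.node (.leaf 1455) (.leaf 0))) (.node (.node (.leaf 913) (.leaf 0)) (.node (.leaf 1903) (.leaf 0))))))) (.node (.node (.node (.node (.node (.node (.leaf 132) (.leaf 2106)) (.node (.leaf 1146) (.leaf 0))) (.node (.node (.leaf 634) (.leaf 0)) (.node (.leaf 1381) (.leaf 0)))) (.node (.node (.node (.leaf 22) (.leaf 2080)) (.node (.leaf 1220) (.leaf 0))) (.node (.node (.leaf 956) (.leaf 0)) (.node (.leaf 1832) (.leaf 0))))) (.node (.node (.node (.node (.leaf 198) (.leaf 2288)) (.node (.leaf 1290) (.leaf 0))) (.node (.node (.leaf 477) (.leaf 0)) (.node (.leaf 1705) (.leaf 0)))) (.node (.node (.node (.leaf 386) (.leaf 2456)) (.node (.leaf 1370) (.leaf 0))) (.node (.node (.leaf 908) (.leaf 0)) (.node (.leaf 1960) (.leaf 0)))))) (.node (.node (.node (.node (.node (.leaf 37) (.leaf 2169)) (.node (.leaf 1231) (.leaf 0))) (.node (.node (.leaf 723) (.leaf 0)) (.node (.leaf 1632) (.leaf 0)))) (.node (.node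 (.node (.leaf 350) (.leaf 2406)) (.node (.leaf 1474) (.leaf 0))) (.node (.node (.leaf 799) (.leaf 0)) (.node (.leaf 1934) (.leaf 0))))) (.node (.node (.node (.node (.leaf 288) (.leaf 2317)) (.node (.leaf 1133) (.leaf 0))) (.node (.node (.leaf 947) (.leaf 0)) (.node (.leaf 1785) (.leaf 0)))) (.node (.node (.node (.leaf 438) (.leaf 0)) (.node (.leaf 1460) (.leaf 0))) (.node (.node (.leaf 1027) (.leaf 0)) (.node (.leaf 2011) (.leaf 0)))))))) (.node (.node (.node (.node (.node (.node (.node (.leaf 2) (.leaf 2246)) (.node (.leaf 1247) (.leaf 0))) (.node (.node (.leaf 714) (.leaf 0)) (.node (.leaf 1462) (.leaf 0)))) (.node (.node (.node (.leaf 175) (.leaf 2162)) (.node (.leaf 1116) (.leaf 0))) (.node (.node (.leaf 761) (.leaf 0)) (.node (.leaf 1874) (.leaf 0))))) (.node (.node (.node (.node (.leaf 92) (.leaf 2314)) (.node (.leaf 1122) (.leaf 0))) (.node (.node (.leaf 615) (.leaf 0)) (.node (.leaf 1680) (.leaf 0)))) (.node (.node (.node (.leaf 380) (.leaf 2465)) (.node (.leaf 1333) (.leaf 0))) (.node (.node (.leaf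 802) (.leaf 0)) (.node (.leaf 1742) (.leaf 0)))))) (.node (.node (.node (.node (.node (.leaf 158) (.leaf 2226)) (.node (.leaf 1311) (.leaf 0))) (.node (.node (.leaf 587) (.leaf 0)) (.node (.leaf 1599) (.leaf 0)))) (.node (.node (.node (.leaf 329) (.leaf 2404)) (.node (.leaf 1449) (.leaf 0))) (.node (.node (.leaf 966) (.leaf 0)) (.node (.leaf 1979) (.leaf 0))))) (.node (.node (.node (.node (.leaf 99) (.leaf 2096)) (.node (.leaf 1295) (.leaf 0))) (.node (.node (.leaf 703) (.leaf 0)) (.node (.leaf 1830) (.leaf 0)))) (.node (.node (.node (.leaf 600) (.leaf 0)) (.node (.leaf 1347) (.leaf 0))) (.node (.node (.leaf 892) (.leaf 0)) (.node (.leaf 2027) (.leaf 0))))))) (.node (.node (.node (.node (.node (.node (.leaf 88) (.leaf 2089)) (.node (.leaf 1032) (.leaf 0))) (.node (.node (.leaf 442) (.leaf 0)) (.node (.leaf 1574) (.leaf 0)))) (.node (.node (.node (.leaf 345) (.leaf 2362)) (.node (.leaf 1437) (.leaf 0))) (.node (.node (.leaf 928) (.leaf 0)) (.node (.leaf 1850) (.leaf 0))))) (.node (.node (.node (.node (.leaf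 48) (.leaf 2177)) (.node (.leaf 1237) (.leaf 0))) (.node (.node (.leaf 676) (.leaf 0)) (.node (.leaf 1986) (.leaf 0)))) (.node (.node (.node (.leaf 570) (.leaf 2489)) (.node (.leaf 1619) (.leaf 0))) (.node (.node (.leaf 810) (.leaf 0)) (.node (.leaf 1883) (.leaf 0)))))) (.node (.node (.node (.node (.node (.leaf 221) (.leaf 2154)) (.node (.leaf 1182) (.leaf 0))) (.node (.node (.leaf 552) (.leaf 0)) (.node (.leaf 1688) (.leaf 0)))) (.node (.node (.node (.leaf 395) (.leaf 2467)) (.node (.leaf 1611) (.leaf 0))) (.node (.node (.leaf 905) (.leaf 0)) (.node (.leaf 1838) (.leaf 0))))) (.node (.node (.node (.node (.leaf 126) (.leaf 2297)) (.node (.leaf 1299) (.leaf 0))) (.node (.node (.leaf 820) (.leaf 0)) (.node (.leaf 1769) (.leaf 0)))) (.node (.node (.node (.leaf 653) (.leaf 0)) (.node (.leaf 1374) (.leaf 0))) (.node (.node (.leaf 866) (.leaf 0)) (.node (.leaf 2012) (.leaf 0)))))))))) (.node (.node (.node (.node (.node (.node (.node (.node (.node (.leaf 183) (.leaf 2042)) (.node (.leaf 1005) (.leaf 0))) (.node (.node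 (.leaf 465) (.leaf 0)) (.node (.leaf 1569) (.leaf 0)))) (.node (.node (.node (.leaf 206) (.leaf 2123)) (.node (.leaf 1193) (.leaf 0))) (.node (.node (.leaf 897) (.leaf 0)) (.node (.leaf 1869) (.leaf 0))))) (.node (.node (.node (.node (.leaf 65) (.leaf 2334)) (.node (.leaf 1263) (.leaf 0))) (.node (.node (.leaf 447) (.leaf 0)) (.node (.leaf 1646) (.leaf 0)))) (.node (.node (.node (.leaf 428) (.leaf 2468)) (.node (.leaf 1478) (.leaf 0))) (.node (.node (.leaf 888) (.leaf 0)) (.node (.leaf 1718) (.leaf 0)))))) (.node (.node (.node (.node (.node (.leaf 191) (.leaf 2270)) (.node (.leaf 1058) (.leaf 0))) (.node (.node (.leaf 547) (.leaf 0)) (.node (.leaf 1405) (.leaf 0)))) (.node (.node (.node (.leaf 318) (.leaf 2392)) (.node (.leaf 1498) (.leaf 0))) (.node (.node (.leaf 1012) (.leaf 0)) (.node (.leaf 1991) (.leaf 0))))) (.node (.node (.node (.node (.leaf 170) (.leaf 2072)) (.node (.leaf 1102) (.leaf 0))) (.node (.node (.leaf 515) (.leaf 0)) (.node (.leaf 1824) (.leaf 0)))) (.node (.node (.node (.leaf 681) (.leaf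 0)) (.node (.leaf 1412) (.leaf 0))) (.node (.node (.leaf 915) (.leaf 0)) (.node (.leaf 1863) (.leaf 0))))))) (.node (.node (.node (.node (.node (.node (.leaf 108) (.leaf 2084)) (.node (.leaf 1117) (.leaf 0))) (.node (.node (.leaf 585) (.leaf 0)) (.node (.leaf 1594) (.leaf 0)))) (.node (.node (.node (.leaf 23) (.leaf 2342)) (.node (.leaf 1166) (.leaf 0))) (.node (.node (.leaf 954) (.leaf 0)) (.node (.leaf 1754) (.leaf 0))))) (.node (.node (.node (.node (.leaf 144) (.leaf 2251)) (.node (.leaf 1202) (.leaf 0))) (.node (.node (.leaf 452) (.leaf 0)) (.node (.leaf 1698) (.leaf 0)))) (.node (.node (.node (.leaf 410) (.leaf 2460)) (.node (.leaf 1367) (.leaf 0))) (.node (.node (.leaf 856) (.leaf 0)) (.node (.leaf 1923) (.leaf 0)))))) (.node (.node (.node (.node (.node (.leaf 246) (.leaf 2149)) (.node (.leaf 1230) (.leaf 0))) (.node (.node (.leaf 667) (.leaf 0)) (.node (.leaf 1636) (.leaf 0)))) (.node (.node (.node (.leaf 354) (.leaf 2422)) (.node (.leaf 1358) (.leaf 0))) (.node (.node (.leaf 742) (.leaf 0)) (.node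 (.leaf 1892) (.leaf 0))))) (.node (.node (.node (.node (.leaf 201) (.leaf 2277)) (.node (.leaf 1108) (.leaf 0))) (.node (.node (.leaf 870) (.leaf 0)) (.node (.leaf 1765) (.leaf 0)))) (.node (.node (.node (.leaf 439) (.leaf 0)) (.node (.leaf 1417) (.leaf 0))) (.node (.node (.leaf 976) (.leaf 0)) (.node (.leaf 2060) (.leaf 0)))))))) (.node (.node (.node (.node (.node (.node (.node (.leaf 295) (.leaf 2207)) (.node (.leaf 1251) (.leaf 0))) (.node (.node (.leaf 659) (.leaf 0)) (.node (.leaf 1424) (.leaf 0)))) (.node (.node (.node (.leaf 77) (.leaf 2143)) (.node (.leaf 1327) (.leaf 0))) (.node (.node (.leaf 738) (.leaf 0)) (.node (.leaf 1814) (.leaf 0))))) (.node (.node (.node (.node (.leaf 259) (.leaf 2272)) (.node (.leaf 1097) (.leaf 0))) (.node (.node (.leaf 557) (.leaf 0)) (.node (.leaf 1647) (.leaf 0)))) (.node (.node (.node (.leaf 389) (.leaf 2458)) (.node (.leaf 1616) (.leaf 0))) (.node (.node (.leaf 1022) (.leaf 0)) (.node (.leaf 1999) (.leaf 0)))))) (.node (.node (.node (.node (.node (.leaf 55) (.leaf 2167))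 (.node (.leaf 1253) (.leaf 0))) (.node (.node (.leaf 476) (.leaf 0)) (.node (.leaf 1548) (.leaf 0)))) (.node (.node (.node (.leaf 352) (.leaf 2421)) (.node (.leaf 1447) (.leaf 0))) (.node (.node (.leaf 936) (.leaf 0)) (.node (.leaf 1878) (.leaf 0))))) (.node (.node (.node (.node (.leaf 97) (.leaf 2354)) (.node (.leaf 1207) (.leaf 0))) (.node (.node (.leaf 702) (.leaf 0)) (.node (.leaf 1749) (.leaf 0)))) (.node (.node (.node (.leaf 544) (.leaf 0)) (.node (.leaf 1585) (.leaf 0))) (.node (.node (.leaf 781) (.leaf 0)) (.node (.leaf 2037) (.leaf 0))))))) (.node (.node (.node (.node (.node (.node (.leaf 87) (.leaf 2305)) (.node (.leaf 1284) (.leaf 0))) (.node (.node (.leaf 445) (.leaf 0)) (.node (.leaf 1524) (.leaf 0)))) (.node (.node (.node (.leaf 300) (.leaf 2302)) (.node (.leaf 1436) (.leaf 0))) (.node (.node (.leaf 880) (.leaf 0)) (.node (.leaf 1710) (.leaf 0))))) (.node (.node (.node (.node (.leaf 7) (.leaf 2157)) (.node (.leaf 1239) (.leaf 0))) (.node (.node (.leaf 646) (.leaf 0)) (.node (.leaf 1924) (.leaf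 0)))) (.node (.node (.node (.leaf 487) (.leaf 2492)) (.node (.leaf 1566) (.leaf 0))) (.node (.node (.leaf 749) (.leaf 0)) (.node (.leaf 1823) (.leaf 0)))))) (.node (.node (.node (.node (.node (.leaf 160) (.leaf 2135)) (.node (.leaf 1068) (.leaf 0))) (.node (.node (.leaf 529) (.leaf 0)) (.node (.leaf 1645) (.leaf 0)))) (.node (.node (.node (.leaf 405) (.leaf 2417)) (.node (.leaf 1554) (.leaf 0))) (.node (.node (.leaf 902) (.leaf 0)) (.node (.leaf 1757) (.leaf 0))))) (.node (.node (.node (.node (.leaf 104) (.leaf 2257)) (.node (.leaf 1213) (.leaf 0))) (.node (.node (.leaf 794) (.leaf 0)) (.node (.leaf 1966) (.leaf 0)))) (.node (.node (.node (.leaf 624) (.leaf 0)) (.node (.leaf 1372) (.leaf 0))) (.node (.node (.leaf 841) (.leaf 0)) (.node (.leaf 2021) (.leaf 0))))))))) (.node (.node (.node (.node (.node (.node (.node (.node (.leaf 244) (.leaf 2057)) (.node (.leaf 1090) (.leaf 0))) (.node (.node (.leaf 630) (.leaf 0)) (.node (.leaf 1625) (.leaf 0)))) (.node (.node (.node (.leaf 51) (.leaf 2280)) (.node (.leaf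 1243) (.leaf 0))) (.node (.node (.leaf 734) (.leaf 0)) (.node (.leaf 1774) (.leaf 0))))) (.node (.node (.node (.node (.leaf 168) (.leaf 2115)) (.node (.leaf 1044) (.leaf 0))) (.node (.node (.leaf 511) (.leaf 0)) (.node (.leaf 1685) (.leaf 0)))) (.node (.node (.node (.leaf 429) (.leaf 2454)) (.node (.leaf 1560) (.leaf 0))) (.node (.node (.leaf 937) (.leaf 0)) (.node (.leaf 1896) (.leaf 0)))))) (.node (.node (.node (.node (.node (.leaf 276) (.leaf 2124)) (.node (.leaf 1226) (.leaf 0))) (.node (.node (.leaf 605) (.leaf 0)) (.node (.leaf 1430) (.leaf 0)))) (.node (.node (.node (.leaf 319) (.leaf 2420)) (.node (.leaf 1386) (.leaf 0))) (.node (.node (.leaf 882) (.leaf 0)) (.node (.leaf 1796) (.leaf 0))))) (.node (.node (.node (.node (.leaf 262) (.leaf 2254)) (.node (.leaf 1131) (.leaf 0))) (.node (.node (.leaf 563) (.leaf 0)) (.node (.leaf 1946) (.leaf 0)))) (.node (.node (.node (.leaf 521) (.leaf 0)) (.node (.leaf 1534) (.leaf 0))) (.node (.node (.leaf 998) (.leaf 0)) (.node (.leaf 1943) (.leaf 0))))))) (.node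 (.node (.node (.node (.node (.node (.leaf 188) (.leaf 2186)) (.node (.leaf 1145) (.leaf 0))) (.node (.node (.leaf 665) (.leaf 0)) (.node (.leaf 1493) (.leaf 0)))) (.node (.node (.node (.leaf 308) (.leaf 2223)) (.node (.leaf 1303) (.leaf 0))) (.node (.node (.leaf 1007) (.leaf 0)) (.node (.leaf 1913) (.leaf 0))))) (.node (.node (.node (.node (.leaf 283) (.leaf 2351)) (.node (.leaf 1073) (.leaf 0))) (.node (.node (.leaf 593) (.leaf 0)) (.node (.leaf 1845) (.leaf 0)))) (.node (.node (.node (.leaf 425) (.leaf 2440)) (.node (.leaf 1483) (.leaf 0))) (.node (.node (.leaf 992) (.leaf 0)) (.node (.leaf 1780) (.leaf 0)))))) (.node (.node (.node (.node (.node (.leaf 64) (.leaf 2229)) (.node (.leaf 1258) (.leaf 0))) (.node (.node (.leaf 505) (.leaf 0)) (.node (.leaf 1687) (.leaf 0)))) (.node (.node (.node (.leaf 326) (.leaf 2402)) (.node (.leaf 1473) (.leaf 0))) (.node (.node (.leaf 824) (.leaf 0)) (.node (.leaf 1995) (.leaf 0))))) (.node (.node (.node (.node (.leaf 289) (.leaf 2078)) (.node (.leaf 1159) (.leaf 0))) (.node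 (.node (.leaf 950) (.leaf 0)) (.node (.leaf 1804) (.leaf 0)))) (.node (.node (.node (.leaf 457) (.leaf 0)) (.node (.leaf 1539) (.leaf 0))) (.node (.node (.leaf 815) (.leaf 0)) (.node (.leaf 2061) (.leaf 0)))))))) (.node (.node (.node (.node (.node (.node (.node (.leaf 83) (.leaf 2286)) (.node (.leaf 1277) (.leaf 0))) (.node (.node (.leaf 470) (.leaf 0)) (.node (.leaf 1546) (.leaf 0)))) (.node (.node (.node (.leaf 237) (.leaf 2182)) (.node (.leaf 1115) (.leaf 0))) (.node (.node (.leaf 875) (.leaf 0)) (.node (.leaf 1975) (.leaf 0))))) (.node (.node (.node (.node (.leaf 94) (.leaf 2071)) (.node (.leaf 1150) (.leaf 0))) (.node (.node (.leaf 613) (.leaf 0)) (.node (.leaf 1676) (.leaf 0)))) (.node (.node (.node (.leaf 430) (.leaf 2443)) (.node (.leaf 1340) (.leaf 0))) (.node (.node (.leaf 828) (.leaf 0)) (.node (.leaf 1763) (.leaf 0)))))) (.node (.node (.node (.node (.node (.leaf 217) (.leaf 2327)) (.node (.leaf 1062) (.leaf 0))) (.node (.node (.leaf 640) (.leaf 0)) (.node (.leaf 1601) (.leaf 0)))) (.node (.node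 (.node (.leaf 320) (.leaf 2381)) (.node (.leaf 1528) (.leaf 0))) (.node (.node (.leaf 1021) (.leaf 0)) (.node (.leaf 1714) (.leaf 0))))) (.node (.node (.node (.node (.leaf 121) (.leaf 2118)) (.node (.leaf 1051) (.leaf 0))) (.node (.node (.leaf 784) (.leaf 0)) (.node (.leaf 1910) (.leaf 0)))) (.node (.node (.node (.leaf 682) (.leaf 0)) (.node (.leaf 1395) (.leaf 0))) (.node (.node (.leaf 896) (.leaf 0)) (.node (.leaf 2032) (.leaf 0))))))) (.node (.node (.node (.node (.node (.node (.leaf 112) (.leaf 2108)) (.node (.leaf 1037) (.leaf 0))) (.node (.node (.leaf 500) (.leaf 0)) (.node (.leaf 1627) (.leaf 0)))) (.node (.node (.node (.leaf 335) (.leaf 2397)) (.node (.leaf 1446) (.leaf 0))) (.node (.node (.leaf 929) (.leaf 0)) (.node (.leaf 1888) (.leaf 0))))) (.node (.node (.node (.node (.leaf 71) (.leaf 2237)) (.node (.leaf 1270) (.leaf 0))) (.node (.node (.leaf 731) (.leaf 0)) (.node (.leaf 1725) (.leaf 0)))) (.node (.node (.node (.leaf 647) (.leaf 2485)) (.node (.leaf 1618) (.leaf 0))) (.node (.node (.leaf 832)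 (.leaf 0)) (.node (.leaf 1980) (.leaf 0)))))) (.node (.node (.node (.node (.node (.leaf 254) (.leaf 2174)) (.node (.leaf 1185) (.leaf 0))) (.node (.node (.leaf 608) (.leaf 0)) (.node (.leaf 1683) (.leaf 0)))) (.node (.node (.node (.leaf 400) (.leaf 2446)) (.node (.leaf 1362) (.leaf 0))) (.node (.node (.leaf 990) (.leaf 0)) (.node (.leaf 1918) (.leaf 0))))) (.node (.node (.node (.node (.leaf 150) (.leaf 2356)) (.node (.leaf 1056) (.leaf 0))) (.node (.node (.leaf 844) (.leaf 0)) (.node (.leaf 1789) (.leaf 0)))) (.node (.node (.node (.leaf 655) (.leaf 0)) (.node (.leaf 1491) (.leaf 0))) (.node (.node (.leaf 917) (.leaf 0)) (.node (.leaf 2062) (.leaf 0))))))))))))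

noncomputable def permB : Trie Nat := .node (.node (.node (.node (.node (.node (.node (.node (.node (.node (.node (.node (.leaf 1848) (.leaf 781)) (.node (.leaf 1374) (.leaf 0))) (.node (.node (.leaf 538) (.leaf 0)) (.node (.leaf 527) (.leaf 0)))) (.node (.node (.node (.leaf 1917) (.leaf 2266)) (.node (.leaf 383) (.leaf 0))) (.node (.node (.leaf 1692) (.leaf 0)) (.node (.leaf 822) (.leaf 0))))) (.node (.node (.node (.node (.leaf 31) (.leaf 1793)) (.node (.leaf 1907) (.leaf 0))) (.node (.node (.leaf 1232) (.leaf 0)) (.node (.leaf 195) (.leaf 0)))) (.node (.node (.node (.leaf 1514) (.leaf 964)) (.node (.leaf 1638) (.leaf 0))) (.node (.node (.leaf 1226) (.leaf 0)) (.node (.leaf 1307) (.leaf 0)))))) (.node (.node (.node (.node (.node (.leaf 1081) (.leaf 145)) (.node (.leaf 1790) (.leaf 0))) (.node (.node (.leaf 2074) (.leaf 0)) (.node (.leaf 393) (.leaf 0)))) (.node (.node (.node (.leaf 2083) (.leaf 278)) (.node (.leaf 2109) (.leaf 0))) (.node (.node (.leaf 2414) (.leaf 0)) (.node (.leaf 275) (.leaf 0))))) (.node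 (.node (.node (.node (.leaf 1321) (.leaf 1455)) (.node (.leaf 619) (.leaf 0))) (.node (.node (.leaf 184) (.leaf 0)) (.node (.leaf 1312) (.leaf 0)))) (.node (.node (.node (.leaf 493) (.leaf 0)) (.node (.leaf 1841) (.leaf 0))) (.node (.node (.leaf 174) (.leaf 0)) (.node (.leaf 187) (.leaf 0))))))) (.node (.node (.node (.node (.node (.node (.leaf 2217) (.leaf 1547)) (.node (.leaf 1229) (.leaf 0))) (.node (.node (.leaf 68) (.leaf 0)) (.node (.leaf 840) (.leaf 0)))) (.node (.node (.node (.leaf 761) (.leaf 41)) (.node (.leaf 627) (.leaf 0))) (.node (.node (.leaf 212) (.leaf 0)) (.node (.leaf 343) (.leaf 0))))) (.node (.node (.node (.node (.leaf 1718) (.leaf 673)) (.node (.leaf 255) (.leaf 0))) (.node (.node (.leaf 707) (.leaf 0)) (.node (.leaf 178) (.leaf 0)))) (.node (.node (.node (.leaf 1156) (.leaf 867)) (.node (.leaf 1015) (.leaf 0))) (.node (.node (.leaf 588) (.leaf 0)) (.node (.leaf 1266) (.leaf 0)))))) (.node (.node (.node (.node (.node (.leaf 697) (.leaf 1507)) (.node (.leaf 1842) (.leaf 0))) (.node (.node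 (.leaf 2489) (.leaf 0)) (.node (.leaf 2057) (.leaf 0)))) (.node (.node (.node (.leaf 672) (.leaf 1979)) (.node (.leaf 2211) (.leaf 0))) (.node (.node (.leaf 1148) (.leaf 0)) (.node (.leaf 2448) (.leaf 0))))) (.node (.node (.node (.node (.leaf 1354) (.leaf 1760)) (.node (.leaf 1110) (.leaf 0))) (.node (.node (.leaf 1290) (.leaf 0)) (.node (.leaf 1024) (.leaf 0)))) (.node (.node (.node (.leaf 303) (.leaf 0)) (.node (.leaf 1936) (.leaf 0))) (.node (.node (.leaf 1896) (.leaf 0)) (.node (.leaf 2412) (.leaf 0)))))))) (.node (.node (.node (.node (.node (.node (.node (.leaf 979) (.leaf 1360)) (.node (.leaf 330) (.leaf 0))) (.node (.node (.leaf 818) (.leaf 0)) (.node (.leaf 1873) (.leaf 0)))) (.node (.node (.node (.leaf 2068) (.leaf 2174)) (.node (.leaf 2031) (.leaf 0))) (.node (.node (.leaf 219) (.leaf 0)) (.node (.leaf 644) (.leaf 0))))) (.node (.node (.node (.node (.leaf 2419) (.leaf 2133)) (.node (.leaf 2288) (.leaf 0))) (.node (.node (.leaf 390) (.leaf 0)) (.node (.leaf 1242) (.leaf 0)))) (.node (.node (.node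 (.leaf 717) (.leaf 1323)) (.node (.leaf 1556) (.leaf 0))) (.node (.node (.leaf 1460) (.leaf 0)) (.node (.leaf 1350) (.leaf 0)))))) (.node (.node (.node (.node (.node (.leaf 1967) (.leaf 2111)) (.node (.leaf 16) (.leaf 0))) (.node (.node (.leaf 249) (.leaf 0)) (.node (.leaf 200) (.leaf 0)))) (.node (.node (.node (.leaf 479) (.leaf 2374)) (.node (.leaf 646) (.leaf 0))) (.node (.node (.leaf 1881) (.leaf 0)) (.node (.leaf 467) (.leaf 0))))) (.node (.node (.node (.node (.leaf 1647) (.leaf 2097)) (.node (.leaf 2200) (.leaf 0))) (.node (.node (.leaf 1975) (.leaf 0)) (.node (.leaf 995) (.leaf 0)))) (.node (.node (.node (.leaf 745) (.leaf 0)) (.node (.leaf 419) (.leaf 0))) (.node (.node (.leaf 1923) (.leaf 0)) (.node (.leaf 11) (.leaf 0))))))) (.node (.node (.node (.node (.node (.node (.leaf 1660) (.leaf 540)) (.node (.leaf 2429) (.leaf 0))) (.node (.node (.leaf 441) (.leaf 0)) (.node (.leaf 1394) (.leaf 0)))) (.node (.node (.node (.leaf 578) (.leaf 620)) (.node (.leaf 1552) (.leaf 0))) (.node (.node (.leaf 415) (.leaf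 0)) (.node (.leaf 318) (.leaf 0))))) (.node (.node (.node (.node (.leaf 1866) (.leaf 1361)) (.node (.leaf 2094) (.leaf 0))) (.node (.node (.leaf 2472) (.leaf 0)) (.node (.leaf 1538) (.leaf 0)))) (.node (.node (.node (.leaf 2040) (.leaf 351)) (.node (.leaf 1924) (.leaf 0))) (.node (.node (.leaf 2320) (.leaf 0)) (.node (.leaf 2347) (.leaf 0)))))) (.node (.node (.node (.node (.node (.leaf 1466) (.leaf 1391)) (.node (.leaf 524) (.leaf 0))) (.node (.node (.leaf 197) (.leaf 0)) (.node (.leaf 2119) (.leaf 0)))) (.node (.node (.node (.leaf 2309) (.leaf 2038)) (.node (.leaf 634) (.leaf 0))) (.node (.node (.leaf 969) (.leaf 0)) (.node (.leaf 1158) (.leaf 0))))) (.node (.node (.node (.node (.leaf 592) (.leaf 2285)) (.node (.leaf 497) (.leaf 0))) (.node (.node (.leaf 1846) (.leaf 0)) (.node (.leaf 282) (.leaf 0)))) (.node (.node (.node (.leaf 1892) (.leaf 0)) (.node (.leaf 993) (.leaf 0))) (.node (.node (.leaf 1030) (.leaf 0)) (.node (.leaf 1215) (.leaf 0))))))))) (.node (.node (.node (.node (.node (.node (.node (.node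 (.leaf 571) (.leaf 604)) (.node (.leaf 2208) (.leaf 0))) (.node (.node (.leaf 1355) (.leaf 0)) (.node (.leaf 1976) (.leaf 0)))) (.node (.node (.node (.leaf 2427) (.leaf 2080)) (.node (.leaf 485) (.leaf 0))) (.node (.node (.leaf 12) (.leaf 0)) (.node (.leaf 746) (.leaf 0))))) (.node (.node (.node (.node (.leaf 1289) (.leaf 2207)) (.node (.leaf 1536) (.leaf 0))) (.node (.node (.leaf 1068) (.leaf 0)) (.node (.leaf 951) (.leaf 0)))) (.node (.node (.node (.leaf 382) (.leaf 1472)) (.node (.leaf 1437) (.leaf 0))) (.node (.node (.leaf 751) (.leaf 0)) (.node (.leaf 1404) (.leaf 0)))))) (.node (.node (.node (.node (.node (.leaf 2161) (.leaf 56)) (.node (.leaf 4) (.leaf 0))) (.node (.node (.leaf 335) (.leaf 0)) (.node (.leaf 1393) (.leaf 0)))) (.node (.node (.node (.leaf 1410) (.leaf 853)) (.node (.leaf 1999) (.leaf 0))) (.node (.node (.leaf 1576) (.leaf 0)) (.node (.leaf 593) (.leaf 0))))) (.node (.node (.node (.node (.leaf 182) (.leaf 2295)) (.node (.leaf 1439) (.leaf 0))) (.node (.node (.leaf 665) (.leaf 0)) (.node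 (.leaf 1042) (.leaf 0)))) (.node (.node (.node (.leaf 1625) (.leaf 0)) (.node (.leaf 2287) (.leaf 0))) (.node (.node (.leaf 1726) (.leaf 0)) (.node (.leaf 285) (.leaf 0))))))) (.node (.node (.node (.node (.node (.node (.leaf 486) (.leaf 552)) (.node (.leaf 2300) (.leaf 0))) (.node (.node (.leaf 1599) (.leaf 0)) (.node (.leaf 1674) (.leaf 0)))) (.node (.node (.node (.leaf 1490) (.leaf 715)) (.node (.leaf 927) (.leaf 0))) (.node (.node (.leaf 2141) (.leaf 0)) (.node (.leaf 367) (.leaf 0))))) (.node (.node (.node (.node (.leaf 1078) (.leaf 598)) (.node (.leaf 838) (.leaf 0))) (.node (.node (.leaf 89) (.leaf 0)) (.node (.leaf 1368) (.leaf 0)))) (.node (.node (.node (.leaf 1670) (.leaf 709)) (.node (.leaf 2488) (.leaf 0))) (.node (.node (.leaf 2092) (.leaf 0)) (.node (.leaf 1263) (.leaf 0)))))) (.node (.node (.node (.node (.node (.leaf 2136) (.leaf 1587)) (.node (.leaf 821) (.leaf 0))) (.node (.node (.leaf 1060) (.leaf 0)) (.node (.leaf 891) (.leaf 0)))) (.node (.node (.node (.leaf 974) (.leaf 1171)) (.node (.leaf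 1161) (.leaf 0))) (.node (.node (.leaf 2434) (.leaf 0)) (.node (.leaf 2445) (.leaf 0))))) (.node (.node (.node (.node (.leaf 1470) (.leaf 1978)) (.node (.leaf 243) (.leaf 0))) (.node (.node (.leaf 1335) (.leaf 0)) (.node (.leaf 281) (.leaf 0)))) (.node (.node (.node (.leaf 468) (.leaf 0)) (.node (.leaf 1033) (.leaf 0))) (.node (.node (.leaf 2334) (.leaf 0)) (.node (.leaf 2046) (.leaf 0)))))))) (.node (.node (.node (.node (.node (.node (.node (.leaf 5) (.leaf 1453)) (.node (.leaf 379) (.leaf 0))) (.node (.node (.leaf 607) (.leaf 0)) (.node (.leaf 2273) (.leaf 0)))) (.node (.node (.node (.leaf 448) (.leaf 171)) (.node (.leaf 736) (.leaf 0))) (.node (.node (.leaf 839) (.leaf 0)) (.node (.leaf 516) (.leaf 0))))) (.node (.node (.node (.node (.leaf 2468) (.leaf 2348)) (.node (.leaf 922) (.leaf 0))) (.node (.node (.leaf 1362) (.leaf 0)) (.node (.leaf 943) (.leaf 0)))) (.node (.node (.node (.leaf 1898) (.leaf 696)) (.node (.leaf 1077) (.leaf 0))) (.node (.node (.leaf 91) (.leaf 0)) (.node (.leaf 1264) (.leaf 0))))))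 (.node (.node (.node (.node (.node (.leaf 885) (.leaf 2305)) (.node (.leaf 1063) (.leaf 0))) (.node (.node (.leaf 2358) (.leaf 0)) (.node (.leaf 1089) (.leaf 0)))) (.node (.node (.node (.leaf 1137) (.leaf 492)) (.node (.leaf 226) (.leaf 0))) (.node (.node (.leaf 1729) (.leaf 0)) (.node (.leaf 491) (.leaf 0))))) (.node (.node (.node (.node (.leaf 1197) (.leaf 1942)) (.node (.leaf 1667) (.leaf 0))) (.node (.node (.leaf 1376) (.leaf 0)) (.node (.leaf 749) (.leaf 0)))) (.node (.node (.node (.leaf 1968) (.leaf 0)) (.node (.leaf 2477) (.leaf 0))) (.node (.node (.leaf 1521) (.leaf 0)) (.node (.leaf 177) (.leaf 0))))))) (.node (.node (.node (.node (.node (.node (.leaf 913) (.leaf 254)) (.node (.leaf 1792) (.leaf 0))) (.node (.node (.leaf 1669) (.leaf 0)) (.node (.leaf 814) (.leaf 0)))) (.node (.node (.node (.leaf 1812) (.leaf 525)) (.node (.leaf 209) (.leaf 0))) (.node (.node (.leaf 204) (.leaf 0)) (.node (.leaf 257) (.leaf 0))))) (.node (.node (.node (.node (.leaf 863) (.leaf 1605)) (.node (.leaf 1719) (.leaf 0)))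 (.node (.node (.leaf 1419) (.leaf 0)) (.node (.leaf 1558) (.leaf 0)))) (.node (.node (.node (.leaf 2291) (.leaf 1395)) (.node (.leaf 1446) (.leaf 0))) (.node (.node (.leaf 395) (.leaf 0)) (.node (.leaf 2314) (.leaf 0)))))) (.node (.node (.node (.node (.node (.leaf 1921) (.leaf 1915)) (.node (.leaf 850) (.leaf 0))) (.node (.node (.leaf 2437) (.leaf 0)) (.node (.leaf 1409) (.leaf 0)))) (.node (.node (.node (.leaf 2236) (.leaf 1751)) (.node (.leaf 2290) (.leaf 0))) (.node (.node (.leaf 1489) (.leaf 0)) (.node (.leaf 1066) (.leaf 0))))) (.node (.node (.node (.node (.leaf 873) (.leaf 2306)) (.node (.leaf 2007) (.leaf 0))) (.node (.node (.leaf 1037) (.leaf 0)) (.node (.leaf 920) (.leaf 0)))) (.node (.node (.node (.leaf 2422) (.leaf 0)) (.node (.leaf 829) (.leaf 0))) (.node (.node (.leaf 1919) (.leaf 0)) (.node (.leaf 1295) (.leaf 0)))))))))) (.node (.node (.node (.node (.node (.node (.node (.node (.node (.leaf 117) (.leaf 997)) (.node (.leaf 1029) (.leaf 0))) (.node (.node (.leaf 1746) (.leaf 0)) (.node (.leaf 2337)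 (.leaf 0)))) (.node (.node (.node (.leaf 949) (.leaf 2227)) (.node (.leaf 957) (.leaf 0))) (.node (.node (.leaf 656) (.leaf 0)) (.node (.leaf 757) (.leaf 0))))) (.node (.node (.node (.node (.leaf 2425) (.leaf 1770)) (.node (.leaf 102) (.leaf 0))) (.node (.node (.leaf 46) (.leaf 0)) (.node (.leaf 1103) (.leaf 0)))) (.node (.node (.node (.leaf 756) (.leaf 1623)) (.node (.leaf 2333) (.leaf 0))) (.node (.node (.leaf 190) (.leaf 0)) (.node (.leaf 1622) (.leaf 0)))))) (.node (.node (.node (.node (.node (.leaf 1260) (.leaf 0)) (.node (.leaf 1310) (.leaf 0))) (.node (.node (.leaf 2102) (.leaf 0)) (.node (.leaf 589) (.leaf 0)))) (.node (.node (.node (.leaf 2450) (.leaf 1253)) (.node (.leaf 975) (.leaf 0))) (.node (.node (.leaf 1701) (.leaf 0)) (.node (.leaf 32) (.leaf 0))))) (.node (.node (.node (.node (.leaf 2059) (.leaf 2229)) (.node (.leaf 2237) (.leaf 0))) (.node (.node (.leaf 1447) (.leaf 0)) (.node (.leaf 1059) (.leaf 0)))) (.node (.node (.node (.leaf 2017) (.leaf 0)) (.node (.leaf 2433) (.leaf 0))) (.node (.node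 (.leaf 252) (.leaf 0)) (.node (.leaf 269) (.leaf 0))))))) (.node (.node (.node (.node (.node (.node (.leaf 476) (.leaf 511)) (.node (.leaf 1713) (.leaf 0))) (.node (.node (.leaf 2145) (.leaf 0)) (.node (.leaf 1757) (.leaf 0)))) (.node (.node (.node (.leaf 2146) (.leaf 248)) (.node (.leaf 2098) (.leaf 0))) (.node (.node (.leaf 2004) (.leaf 0)) (.node (.leaf 358) (.leaf 0))))) (.node (.node (.node (.node (.leaf 1218) (.leaf 567)) (.node (.leaf 53) (.leaf 0))) (.node (.node (.leaf 386) (.leaf 0)) (.node (.leaf 391) (.leaf 0)))) (.node (.node (.node (.leaf 1111) (.leaf 484)) (.node (.leaf 2051) (.leaf 0))) (.node (.node (.leaf 304) (.leaf 0)) (.node (.leaf 1265) (.leaf 0)))))) (.node (.node (.node (.node (.node (.leaf 1730) (.leaf 1352)) (.node (.leaf 2368) (.leaf 0))) (.node (.node (.leaf 1135) (.leaf 0)) (.node (.leaf 1359) (.leaf 0)))) (.node (.node (.node (.leaf 901) (.leaf 1510)) (.node (.leaf 439) (.leaf 0))) (.node (.node (.leaf 769) (.leaf 0)) (.node (.leaf 2474) (.leaf 0))))) (.node (.node (.node (.node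 (.leaf 1318) (.leaf 1764)) (.node (.leaf 2032) (.leaf 0))) (.node (.node (.leaf 2381) (.leaf 0)) (.node (.leaf 283) (.leaf 0)))) (.node (.node (.node (.leaf 802) (.leaf 0)) (.node (.leaf 51) (.leaf 0))) (.node (.node (.leaf 463) (.leaf 0)) (.node (.leaf 450) (.leaf 0)))))))) (.node (.node (.node (.node (.node (.node (.node (.leaf 1953) (.leaf 1603)) (.node (.leaf 1784) (.leaf 0))) (.node (.node (.leaf 2173) (.leaf 0)) (.node (.leaf 1656) (.leaf 0)))) (.node (.node (.node (.leaf 150) (.leaf 62)) (.node (.leaf 2447) (.leaf 0))) (.node (.node (.leaf 2471) (.leaf 0)) (.node (.leaf 438) (.leaf 0))))) (.node (.node (.node (.node (.leaf 29) (.leaf 2191)) (.node (.leaf 902) (.leaf 0))) (.node (.node (.leaf 1241) (.leaf 0)) (.node (.leaf 727) (.leaf 0)))) (.node (.node (.node (.leaf 615) (.leaf 635)) (.node (.leaf 1637) (.leaf 0))) (.node (.node (.leaf 1817) (.leaf 0)) (.node (.leaf 1473) (.leaf 0)))))) (.node (.node (.node (.node (.node (.leaf 2276) (.leaf 2242)) (.node (.leaf 1415) (.leaf 0))) (.node (.node (.leaf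 2154) (.leaf 0)) (.node (.leaf 1452) (.leaf 0)))) (.node (.node (.node (.leaf 1282) (.leaf 956)) (.node (.leaf 1046) (.leaf 0))) (.node (.node (.leaf 1050) (.leaf 0)) (.node (.leaf 563) (.leaf 0))))) (.node (.node (.node (.node (.leaf 1869) (.leaf 2362)) (.node (.leaf 1977) (.leaf 0))) (.node (.node (.leaf 2324) (.leaf 0)) (.node (.leaf 845) (.leaf 0)))) (.node (.node (.node (.leaf 1884) (.leaf 0)) (.node (.leaf 1863) (.leaf 0))) (.node (.node (.leaf 581) (.leaf 0)) (.node (.leaf 232) (.leaf 0))))))) (.node (.node (.node (.node (.node (.node (.leaf 2254) (.leaf 603)) (.node (.leaf 1512) (.leaf 0))) (.node (.node (.leaf 271) (.leaf 0)) (.node (.leaf 1117) (.leaf 0)))) (.node (.node (.node (.leaf 805) (.leaf 459)) (.node (.leaf 1872) (.leaf 0))) (.node (.node (.leaf 1430) (.leaf 0)) (.node (.leaf 296) (.leaf 0))))) (.node (.node (.node (.node (.leaf 896) (.leaf 1616)) (.node (.leaf 163) (.leaf 0))) (.node (.node (.leaf 2009) (.leaf 0)) (.node (.leaf 1336) (.leaf 0)))) (.node (.node (.node (.leaf 1403) (.leaf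 2389)) (.node (.leaf 1465) (.leaf 0))) (.node (.node (.leaf 1069) (.leaf 0)) (.node (.leaf 2176) (.leaf 0)))))) (.node (.node (.node (.node (.node (.leaf 832) (.leaf 1961)) (.node (.leaf 1861) (.leaf 0))) (.node (.node (.leaf 994) (.leaf 0)) (.node (.leaf 680) (.leaf 0)))) (.node (.node (.node (.leaf 2163) (.leaf 1824)) (.node (.leaf 348) (.leaf 0))) (.node (.node (.leaf 312) (.leaf 0)) (.node (.leaf 1084) (.leaf 0))))) (.node (.node (.node (.node (.leaf 562) (.leaf 2157)) (.node (.leaf 7) (.leaf 0))) (.node (.node (.leaf 1169) (.leaf 0)) (.node (.leaf 280) (.leaf 0)))) (.node (.node (.node (.leaf 359) (.leaf 0)) (.node (.leaf 1740) (.leaf 0))) (.node (.node (.leaf 2199) (.leaf 0)) (.node (.leaf 1280) (.leaf 0))))))))) (.node (.node (.node (.node (.node (.node (.node (.node (.leaf 2070) (.leaf 2346)) (.node (.leaf 1227) (.leaf 0))) (.node (.node (.leaf 1780) (.leaf 0)) (.node (.leaf 767) (.leaf 0)))) (.node (.node (.node (.leaf 876) (.leaf 2245)) (.node (.leaf 2323) (.leaf 0))) (.node (.node (.leaf 1112) (.leaf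 0)) (.node (.leaf 654) (.leaf 0))))) (.node (.node (.node (.node (.leaf 1963) (.leaf 2150)) (.node (.leaf 959) (.leaf 0))) (.node (.node (.leaf 482) (.leaf 0)) (.node (.leaf 878) (.leaf 0)))) (.node (.node (.node (.leaf 1347) (.leaf 128)) (.node (.leaf 2117) (.leaf 0))) (.node (.node (.leaf 518) (.leaf 0)) (.node (.leaf 1422) (.leaf 0)))))) (.node (.node (.node (.node (.node (.leaf 798) (.leaf 2159)) (.node (.leaf 1250) (.leaf 0))) (.node (.node (.leaf 161) (.leaf 0)) (.node (.leaf 79) (.leaf 0)))) (.node (.node (.node (.leaf 354) (.leaf 1384)) (.node (.leaf 206) (.leaf 0))) (.node (.node (.leaf 1210) (.leaf 0)) (.node (.leaf 528) (.leaf 0))))) (.node (.node (.node (.node (.leaf 2182) (.leaf 2269)) (.node (.leaf 1182) (.leaf 0))) (.node (.node (.leaf 121) (.leaf 0)) (.node (.leaf 1221) (.leaf 0)))) (.node (.node (.node (.leaf 300) (.leaf 0)) (.node (.leaf 537) (.leaf 0))) (.node (.node (.leaf 380) (.leaf 0)) (.node (.leaf 215) (.leaf 0))))))) (.node (.node (.node (.node (.node (.node (.leaf 2137) (.leaf 685))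 (.node (.leaf 1092) (.leaf 0))) (.node (.node (.leaf 766) (.leaf 0)) (.node (.leaf 406) (.leaf 0)))) (.node (.node (.node (.leaf 365) (.leaf 443)) (.node (.leaf 2000) (.leaf 0))) (.node (.node (.leaf 856) (.leaf 0)) (.node (.leaf 350) (.leaf 0))))) (.node (.node (.node (.node (.leaf 676) (.leaf 688)) (.node (.leaf 871) (.leaf 0))) (.node (.node (.leaf 78) (.leaf 0)) (.node (.leaf 1408) (.leaf 0)))) (.node (.node (.node (.leaf 1900) (.leaf 218)) (.node (.leaf 1706) (.leaf 0))) (.node (.node (.leaf 576) (.leaf 0)) (.node (.leaf 2210) (.leaf 0)))))) (.node (.node (.node (.node (.node (.leaf 299) (.leaf 1378)) (.node (.leaf 1700) (.leaf 0))) (.node (.node (.leaf 2193) (.leaf 0)) (.node (.leaf 2233) (.leaf 0)))) (.node (.node (.node (.leaf 1417) (.leaf 1200)) (.node (.leaf 1454) (.leaf 0))) (.node (.node (.leaf 1198) (.leaf 0)) (.node (.leaf 2458) (.leaf 0))))) (.node (.node (.node (.node (.leaf 1223) (.leaf 2110)) (.node (.leaf 553) (.leaf 0))) (.node (.node (.leaf 998) (.leaf 0)) (.node (.leaf 284) (.leaf 0))))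 (.node (.node (.node (.leaf 682) (.leaf 0)) (.node (.leaf 2027) (.leaf 0))) (.node (.node (.leaf 1471) (.leaf 0)) (.node (.leaf 1543) (.leaf 0)))))))) (.node (.node (.node (.node (.node (.node (.node (.leaf 2360) (.leaf 1612)) (.node (.leaf 2315) (.leaf 0))) (.node (.node (.leaf 1588) (.leaf 0)) (.node (.leaf 336) (.leaf 0)))) (.node (.node (.node (.leaf 1578) (.leaf 235)) (.node (.leaf 1337) (.leaf 0))) (.node (.node (.leaf 377) (.leaf 0)) (.node (.leaf 532) (.leaf 0))))) (.node (.node (.node (.node (.leaf 1720) (.leaf 622)) (.node (.leaf 2364) (.leaf 0))) (.node (.node (.leaf 1698) (.leaf 0)) (.node (.leaf 953) (.leaf 0)))) (.node (.node (.node (.leaf 912) (.leaf 1120)) (.node (.leaf 1096) (.leaf 0))) (.node (.node (.leaf 2274) (.leaf 0)) (.node (.leaf 1262) (.leaf 0)))))) (.node (.node (.node (.node (.node (.leaf 1373) (.leaf 2286)) (.node (.leaf 101) (.leaf 0))) (.node (.node (.leaf 2251) (.leaf 0)) (.node (.leaf 1486) (.leaf 0)))) (.node (.node (.node (.leaf 1175) (.leaf 582)) (.node (.leaf 2387) (.leaf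 0))) (.node (.node (.leaf 1634) (.leaf 0)) (.node (.leaf 2439) (.leaf 0))))) (.node (.node (.node (.node (.leaf 173) (.leaf 1994)) (.node (.leaf 1418) (.leaf 0))) (.node (.node (.leaf 1788) (.leaf 0)) (.node (.leaf 934) (.leaf 0)))) (.node (.node (.node (.leaf 775) (.leaf 0)) (.node (.leaf 2369) (.leaf 0))) (.node (.node (.leaf 917) (.leaf 0)) (.node (.leaf 2121) (.leaf 0))))))) (.node (.node (.node (.node (.node (.node (.leaf 2349) (.leaf 103)) (.node (.leaf 352) (.leaf 0))) (.node (.node (.leaf 64) (.leaf 0)) (.node (.leaf 1844) (.leaf 0)))) (.node (.node (.node (.leaf 1887) (.leaf 33)) (.node (.leaf 637) (.leaf 0))) (.node (.node (.leaf 2076) (.leaf 0)) (.node (.leaf 126) (.leaf 0))))) (.node (.node (.node (.node (.leaf 1702) (.leaf 1548)) (.node (.leaf 1377) (.leaf 0))) (.node (.node (.leaf 1828) (.leaf 0)) (.node (.leaf 1122) (.leaf 0)))) (.node (.node (.node (.leaf 1239) (.leaf 621)) (.node (.leaf 2485) (.leaf 0))) (.node (.node (.leaf 1850) (.leaf 0)) (.node (.leaf 2283) (.leaf 0)))))) (.node (.node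 (.node (.node (.node (.leaf 587) (.leaf 1712)) (.node (.leaf 2148) (.leaf 0))) (.node (.node (.leaf 498) (.leaf 0)) (.node (.leaf 1371) (.leaf 0)))) (.node (.node (.node (.leaf 1074) (.leaf 1880)) (.node (.leaf 1311) (.leaf 0))) (.node (.node (.leaf 2479) (.leaf 0)) (.node (.leaf 1102) (.leaf 0))))) (.node (.node (.node (.node (.leaf 1903) (.leaf 2240)) (.node (.leaf 96) (.leaf 0))) (.node (.node (.leaf 898) (.leaf 0)) (.node (.leaf 1012) (.leaf 0)))) (.node (.node (.node (.leaf 214) (.leaf 0)) (.node (.leaf 108) (.leaf 0))) (.node (.node (.leaf 137) (.leaf 0)) (.node (.leaf 1469) (.leaf 0))))))))))) (.node (.node (.node (.node (.node (.node (.node (.node (.node (.node (.leaf 2101) (.leaf 793)) (.node (.leaf 1731) (.leaf 0))) (.node (.node (.leaf 2378) (.leaf 0)) (.node (.leaf 895) (.leaf 0)))) (.node (.node (.node (.leaf 875) (.leaf 59)) (.node (.leaf 2275) (.leaf 0))) (.node (.node (.leaf 1244) (.leaf 0)) (.node (.leaf 1019) (.leaf 0))))) (.node (.node (.node (.node (.leaf 1913) (.leaf 884)) (.node (.leaf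 733) (.leaf 0))) (.node (.node (.leaf 2460) (.leaf 0)) (.node (.leaf 1309) (.leaf 0)))) (.node (.node (.node (.leaf 1444) (.leaf 2432)) (.node (.leaf 2164) (.leaf 0))) (.node (.node (.leaf 577) (.leaf 0)) (.node (.leaf 2396) (.leaf 0)))))) (.node (.node (.node (.node (.node (.leaf 1017) (.leaf 1314)) (.node (.leaf 1831) (.leaf 0))) (.node (.node (.leaf 18) (.leaf 0)) (.node (.leaf 610) (.leaf 0)))) (.node (.node (.node (.leaf 2431) (.leaf 1115)) (.node (.leaf 207) (.leaf 0))) (.node (.node (.leaf 272) (.leaf 0)) (.node (.leaf 1997) (.leaf 0))))) (.node (.node (.node (.node (.leaf 2203) (.leaf 22)) (.node (.leaf 1931) (.leaf 0))) (.node (.node (.leaf 1627) (.leaf 0)) (.node (.leaf 19) (.leaf 0)))) (.node (.node (.node (.leaf 2340) (.leaf 0)) (.node (.leaf 605) (.leaf 0))) (.node (.node (.leaf 401) (.leaf 0)) (.node (.leaf 106) (.leaf 0))))))) (.node (.node (.node (.node (.node (.node (.leaf 2327) (.leaf 1749)) (.node (.leaf 1183) (.leaf 0))) (.node (.node (.leaf 861) (.leaf 0)) (.node (.leaf 2129) (.leaf 0))))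 (.node (.node (.node (.leaf 723) (.leaf 675)) (.node (.leaf 1737) (.leaf 0))) (.node (.node (.leaf 807) (.leaf 0)) (.node (.leaf 74) (.leaf 0))))) (.node (.node (.node (.node (.leaf 691) (.leaf 783)) (.node (.leaf 976) (.leaf 0))) (.node (.node (.leaf 1562) (.leaf 0)) (.node (.leaf 240) (.leaf 0)))) (.node (.node (.node (.leaf 1206) (.leaf 926)) (.node (.leaf 2054) (.leaf 0))) (.node (.node (.leaf 574) (.leaf 0)) (.node (.leaf 1428) (.leaf 0)))))) (.node (.node (.node (.node (.node (.leaf 792) (.leaf 1711)) (.node (.leaf 1662) (.leaf 0))) (.node (.node (.leaf 2167) (.leaf 0)) (.node (.leaf 1456) (.leaf 0)))) (.node (.node (.node (.leaf 597) (.leaf 1941)) (.node (.leaf 52) (.leaf 0))) (.node (.node (.leaf 1965) (.leaf 0)) (.node (.leaf 961) (.leaf 0))))) (.node (.node (.node (.node (.leaf 1168) (.leaf 2008)) (.node (.leaf 1155) (.leaf 0))) (.node (.node (.leaf 794) (.leaf 0)) (.node (.leaf 1716) (.leaf 0)))) (.node (.node (.node (.leaf 1010) (.leaf 0)) (.node (.leaf 2037) (.leaf 0))) (.node (.node (.leaf 1344)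 (.leaf 0)) (.node (.leaf 2383) (.leaf 0)))))))) (.node (.node (.node (.node (.node (.node (.node (.leaf 690) (.leaf 1926)) (.node (.leaf 2281) (.leaf 0))) (.node (.node (.leaf 1511) (.leaf 0)) (.node (.leaf 317) (.leaf 0)))) (.node (.node (.node (.leaf 1554) (.leaf 146)) (.node (.leaf 506) (.leaf 0))) (.node (.node (.leaf 287) (.leaf 0)) (.node (.leaf 13) (.leaf 0))))) (.node (.node (.node (.node (.leaf 1224) (.leaf 536)) (.node (.leaf 2341) (.leaf 0))) (.node (.node (.leaf 1691) (.leaf 0)) (.node (.leaf 731) (.leaf 0)))) (.node (.node (.node (.leaf 681) (.leaf 1292)) (.node (.leaf 1502) (.leaf 0))) (.node (.node (.leaf 1026) (.leaf 0)) (.node (.leaf 1018) (.leaf 0)))))) (.node (.node (.node (.node (.node (.leaf 1451) (.leaf 2001)) (.node (.leaf 250) (.leaf 0))) (.node (.node (.leaf 345) (.leaf 0)) (.node (.leaf 1433) (.leaf 0)))) (.node (.node (.node (.leaf 456) (.leaf 414)) (.node (.leaf 2416) (.leaf 0))) (.node (.node (.leaf 1643) (.leaf 0)) (.node (.leaf 2175) (.leaf 0))))) (.node (.node (.node (.node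 (.leaf 1738) (.leaf 1426)) (.node (.leaf 1505) (.leaf 0))) (.node (.node (.leaf 662) (.leaf 0)) (.node (.leaf 1929) (.leaf 0)))) (.node (.node (.node (.leaf 776) (.leaf 0)) (.node (.leaf 2304) (.leaf 0))) (.node (.node (.leaf 669) (.leaf 0)) (.node (.leaf 155) (.leaf 0))))))) (.node (.node (.node (.node (.node (.node (.leaf 464) (.leaf 1328)) (.node (.leaf 2126) (.leaf 0))) (.node (.node (.leaf 1597) (.leaf 0)) (.node (.leaf 1988) (.leaf 0)))) (.node (.node (.node (.leaf 1009) (.leaf 198)) (.node (.leaf 930) (.leaf 0))) (.node (.node (.leaf 2343) (.leaf 0)) (.node (.leaf 164) (.leaf 0))))) (.node (.node (.node (.node (.leaf 1186) (.leaf 48)) (.node (.leaf 1389) (.leaf 0))) (.node (.node (.leaf 1791) (.leaf 0)) (.node (.leaf 1960) (.leaf 0)))) (.node (.node (.node (.leaf 1279) (.leaf 371)) (.node (.leaf 2495) (.leaf 0))) (.node (.node (.leaf 2213) (.leaf 0)) (.node (.leaf 2413) (.leaf 0)))))) (.node (.node (.node (.node (.node (.leaf 611) (.leaf 1938)) (.node (.leaf 970) (.leaf 0))) (.node (.node (.leaf 640)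 (.leaf 0)) (.node (.leaf 639) (.leaf 0)))) (.node (.node (.node (.leaf 2104) (.leaf 425)) (.node (.leaf 1064) (.leaf 0))) (.node (.node (.leaf 2438) (.leaf 0)) (.node (.leaf 2404) (.leaf 0))))) (.node (.node (.node (.node (.leaf 488) (.leaf 1083)) (.node (.leaf 233) (.leaf 0))) (.node (.node (.leaf 1540) (.leaf 0)) (.node (.leaf 1874) (.leaf 0)))) (.node (.node (.node (.leaf 261) (.leaf 0)) (.node (.leaf 1258) (.leaf 0))) (.node (.node (.leaf 135) (.leaf 0)) (.node (.leaf 1099) (.leaf 0))))))))) (.node (.node (.node (.node (.node (.node (.node (.node (.leaf 1922) (.leaf 1635)) (.node (.leaf 1826) (.leaf 0))) (.node (.node (.leaf 2081) (.leaf 0)) (.node (.leaf 489) (.leaf 0)))) (.node (.node (.node (.leaf 1728) (.leaf 1)) (.node (.leaf 2469) (.leaf 0))) (.node (.node (.leaf 1671) (.leaf 0)) (.node (.leaf 797) (.leaf 0))))) (.node (.node (.node (.node (.leaf 69) (.leaf 655)) (.node (.leaf 1864) (.leaf 0))) (.node (.node (.leaf 1129) (.leaf 0)) (.node (.leaf 817) (.leaf 0)))) (.node (.node (.node (.leaf 2406)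 (.leaf 277)) (.node (.leaf 1636) (.leaf 0))) (.node (.node (.leaf 1849) (.leaf 0)) (.node (.leaf 914) (.leaf 0)))))) (.node (.node (.node (.node (.node (.leaf 1185) (.leaf 1043)) (.node (.leaf 1414) (.leaf 0))) (.node (.node (.leaf 2272) (.leaf 0)) (.node (.leaf 1358) (.leaf 0)))) (.node (.node (.node (.leaf 1332) (.leaf 841)) (.node (.leaf 2307) (.leaf 0))) (.node (.node (.leaf 1293) (.leaf 0)) (.node (.leaf 2082) (.leaf 0))))) (.node (.node (.node (.node (.leaf 1237) (.leaf 1348)) (.node (.leaf 1763) (.leaf 0))) (.node (.node (.leaf 2249) (.leaf 0)) (.node (.leaf 292) (.leaf 0)))) (.node (.node (.node (.leaf 1865) (.leaf 0)) (.node (.leaf 1727) (.leaf 0))) (.node (.node (.leaf 42) (.leaf 0)) (.node (.leaf 210) (.leaf 0))))))) (.node (.node (.node (.node (.node (.node (.leaf 2311) (.leaf 1331)) (.node (.leaf 1431) (.leaf 0))) (.node (.node (.leaf 201) (.leaf 0)) (.node (.leaf 1177) (.leaf 0)))) (.node (.node (.node (.leaf 1566) (.leaf 88)) (.node (.leaf 631) (.leaf 0))) (.node (.node (.leaf 158) (.leaf 0))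 (.node (.leaf 290) (.leaf 0))))) (.node (.node (.node (.node (.leaf 1980) (.leaf 804)) (.node (.leaf 125) (.leaf 0))) (.node (.node (.leaf 2060) (.leaf 0)) (.node (.leaf 1912) (.leaf 0)))) (.node (.node (.node (.leaf 2417) (.leaf 14)) (.node (.leaf 1581) (.leaf 0))) (.node (.node (.leaf 657) (.leaf 0)) (.node (.leaf 1401) (.leaf 0)))))) (.node (.node (.node (.node (.node (.leaf 952) (.leaf 1825)) (.node (.leaf 1725) (.leaf 0))) (.node (.node (.leaf 2491) (.leaf 0)) (.node (.leaf 958) (.leaf 0)))) (.node (.node (.node (.leaf 1529) (.leaf 1274)) (.node (.leaf 360) (.leaf 0))) (.node (.node (.leaf 327) (.leaf 0)) (.node (.leaf 851) (.leaf 0))))) (.node (.node (.node (.node (.leaf 1379) (.leaf 2015)) (.node (.leaf 50) (.leaf 0))) (.node (.node (.leaf 1199) (.leaf 0)) (.node (.leaf 1996) (.leaf 0)))) (.node (.node (.node (.leaf 530) (.leaf 0)) (.node (.leaf 1827) (.leaf 0))) (.node (.node (.leaf 1878) (.leaf 0)) (.node (.leaf 2020) (.leaf 0)))))))) (.node (.node (.node (.node (.node (.node (.node (.leaf 2268) (.leaf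 1883)) (.node (.leaf 340) (.leaf 0))) (.node (.node (.leaf 967) (.leaf 0)) (.node (.leaf 1998) (.leaf 0)))) (.node (.node (.node (.leaf 2299) (.leaf 687)) (.node (.leaf 2041) (.leaf 0))) (.node (.node (.leaf 2049) (.leaf 0)) (.node (.leaf 268) (.leaf 0))))) (.node (.node (.node (.node (.leaf 2370) (.leaf 514)) (.node (.leaf 116) (.leaf 0))) (.node (.node (.leaf 400) (.leaf 0)) (.node (.leaf 834) (.leaf 0)))) (.node (.node (.node (.leaf 1879) (.leaf 1251)) (.node (.leaf 1052) (.leaf 0))) (.node (.node (.leaf 311) (.leaf 0)) (.node (.leaf 1516) (.leaf 0)))))) (.node (.node (.node (.node (.node (.leaf 1891) (.leaf 1934)) (.node (.leaf 291) (.leaf 0))) (.node (.node (.leaf 1245) (.leaf 0)) (.node (.leaf 274) (.leaf 0)))) (.node (.node (.node (.leaf 1173) (.leaf 455)) (.node (.leaf 653) (.leaf 0))) (.node (.node (.leaf 1748) (.leaf 0)) (.node (.leaf 2225) (.leaf 0))))) (.node (.node (.node (.node (.leaf 1216) (.leaf 2013)) (.node (.leaf 2329) (.leaf 0))) (.node (.node (.leaf 1951) (.leaf 0)) (.node (.leaf 1811)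 (.leaf 0)))) (.node (.node (.node (.leaf 919) (.leaf 0)) (.node (.leaf 2388) (.leaf 0))) (.node (.node (.leaf 558) (.leaf 0)) (.node (.leaf 2124) (.leaf 0))))))) (.node (.node (.node (.node (.node (.node (.leaf 1034) (.leaf 1058)) (.node (.leaf 339) (.leaf 0))) (.node (.node (.leaf 1654) (.leaf 0)) (.node (.leaf 1586) (.leaf 0)))) (.node (.node (.node (.leaf 1906) (.leaf 24)) (.node (.leaf 990) (.leaf 0))) (.node (.node (.leaf 1680) (.leaf 0)) (.node (.leaf 1833) (.leaf 0))))) (.node (.node (.node (.node (.leaf 2035) (.leaf 167)) (.node (.leaf 2256) (.leaf 0))) (.node (.node (.leaf 2457) (.leaf 0)) (.node (.leaf 1715) (.leaf 0)))) (.node (.node (.node (.leaf 2023) (.leaf 2463)) (.node (.leaf 1947) (.leaf 0))) (.node (.node (.leaf 55) (.leaf 0)) (.node (.leaf 2408) (.leaf 0)))))) (.node (.node (.node (.node (.node (.leaf 1341) (.leaf 780)) (.node (.leaf 148) (.leaf 0))) (.node (.node (.leaf 23) (.leaf 0)) (.node (.leaf 1557) (.leaf 0)))) (.node (.node (.node (.leaf 1073) (.leaf 1798)) (.node (.leaf 451) (.leaf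 0))) (.node (.node (.leaf 1004) (.leaf 0)) (.node (.leaf 2401) (.leaf 0))))) (.node (.node (.node (.node (.leaf 877) (.leaf 1105)) (.node (.leaf 613) (.leaf 0))) (.node (.node (.leaf 534) (.leaf 0)) (.node (.leaf 916) (.leaf 0)))) (.node (.node (.node (.leaf 1948) (.leaf 0)) (.node (.leaf 2354) (.leaf 0))) (.node (.node (.leaf 1031) (.leaf 0)) (.node (.leaf 1144) (.leaf 0)))))))))) (.node (.node (.node (.node (.node (.node (.node (.node (.node (.leaf 799) (.leaf 684)) (.node (.leaf 138) (.leaf 0))) (.node (.node (.leaf 879) (.leaf 0)) (.node (.leaf 144) (.leaf 0)))) (.node (.node (.node (.leaf 1838) (.leaf 253)) (.node (.leaf 2036) (.leaf 0))) (.node (.node (.leaf 988) (.leaf 0)) (.node (.leaf 978) (.leaf 0))))) (.node (.node (.node (.node (.leaf 2395) (.leaf 752)) (.node (.leaf 2188) (.leaf 0))) (.node (.node (.leaf 616) (.leaf 0)) (.node (.leaf 1065) (.leaf 0)))) (.node (.node (.node (.leaf 882) (.leaf 1425)) (.node (.leaf 1619) (.leaf 0))) (.node (.node (.leaf 1461) (.leaf 0)) (.node (.leaf 980) (.leaf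 0)))))) (.node (.node (.node (.node (.node (.leaf 2151) (.leaf 1123)) (.node (.leaf 160) (.leaf 0))) (.node (.node (.leaf 239) (.leaf 0)) (.node (.leaf 659) (.leaf 0)))) (.node (.node (.node (.leaf 2456) (.leaf 982)) (.node (.leaf 678) (.leaf 0))) (.node (.node (.leaf 2289) (.leaf 0)) (.node (.leaf 1875) (.leaf 0))))) (.node (.node (.node (.node (.leaf 1684) (.leaf 1406)) (.node (.leaf 2221) (.leaf 0))) (.node (.node (.leaf 1893) (.leaf 0)) (.node (.leaf 162) (.leaf 0)))) (.node (.node (.node (.leaf 1100) (.leaf 0)) (.node (.leaf 422) (.leaf 0))) (.node (.node (.leaf 1816) (.leaf 0)) (.node (.leaf 142) (.leaf 0))))))) (.node (.node (.node (.node (.node (.node (.leaf 1686) (.leaf 1330)) (.node (.leaf 2480) (.leaf 0))) (.node (.node (.leaf 652) (.leaf 0)) (.node (.leaf 355) (.leaf 0)))) (.node (.node (.node (.leaf 1621) (.leaf 624)) (.node (.leaf 1579) (.leaf 0))) (.node (.node (.leaf 396) (.leaf 0)) (.node (.leaf 114) (.leaf 0))))) (.node (.node (.node (.node (.leaf 1813) (.leaf 763)) (.node (.leaf 2409) (.leaf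 0))) (.node (.node (.leaf 20) (.leaf 0)) (.node (.leaf 408) (.leaf 0)))) (.node (.node (.node (.leaf 1655) (.leaf 503)) (.node (.leaf 2034) (.leaf 0))) (.node (.node (.leaf 2131) (.leaf 0)) (.node (.leaf 1574) (.leaf 0)))))) (.node (.node (.node (.node (.node (.leaf 1593) (.leaf 1741)) (.node (.leaf 618) (.leaf 0))) (.node (.node (.leaf 2089) (.leaf 0)) (.node (.leaf 908) (.leaf 0)))) (.node (.node (.node (.leaf 924) (.leaf 1591)) (.node (.leaf 722) (.leaf 0))) (.node (.node (.leaf 830) (.leaf 0)) (.node (.leaf 907) (.leaf 0))))) (.node (.node (.node (.node (.leaf 43) (.leaf 2055)) (.node (.leaf 641) (.leaf 0))) (.node (.node (.leaf 1990) (.leaf 0)) (.node (.leaf 1804) (.leaf 0)))) (.node (.node (.node (.leaf 764) (.leaf 0)) (.node (.leaf 1023) (.leaf 0))) (.node (.node (.leaf 826) (.leaf 0)) (.node (.leaf 726) (.leaf 0)))))))) (.node (.node (.node (.node (.node (.node (.node (.leaf 2186) (.leaf 1946)) (.node (.leaf 1228) (.leaf 0))) (.node (.node (.leaf 1902) (.leaf 0)) (.node (.leaf 852) (.leaf 0)))) (.node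 (.node (.node (.leaf 744) (.leaf 600)) (.node (.leaf 2073) (.leaf 0))) (.node (.node (.leaf 2453) (.leaf 0)) (.node (.leaf 286) (.leaf 0))))) (.node (.node (.node (.node (.leaf 1714) (.leaf 643)) (.node (.leaf 295) (.leaf 0))) (.node (.node (.leaf 505) (.leaf 0)) (.node (.leaf 730) (.leaf 0)))) (.node (.node (.node (.leaf 1735) (.leaf 447)) (.node (.leaf 2234) (.leaf 0))) (.node (.node (.leaf 667) (.leaf 0)) (.node (.leaf 801) (.leaf 0)))))) (.node (.node (.node (.node (.node (.leaf 495) (.leaf 1908)) (.node (.leaf 1121) (.leaf 0))) (.node (.node (.leaf 2494) (.leaf 0)) (.node (.leaf 90) (.leaf 0)))) (.node (.node (.node (.leaf 1152) (.leaf 738)) (.node (.leaf 2313) (.leaf 0))) (.node (.node (.leaf 1261) (.leaf 0)) (.node (.leaf 2246) (.leaf 0))))) (.node (.node (.node (.node (.leaf 1933) (.leaf 1624)) (.node (.leaf 1301) (.leaf 0))) (.node (.node (.leaf 122) (.leaf 0)) (.node (.leaf 1982) (.leaf 0)))) (.node (.node (.node (.leaf 309) (.leaf 0)) (.node (.leaf 683) (.leaf 0))) (.node (.node (.leaf 1734) (.leaf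 0)) (.node (.leaf 152) (.leaf 0))))))) (.node (.node (.node (.node (.node (.node (.leaf 2248) (.leaf 1327)) (.node (.leaf 1079) (.leaf 0))) (.node (.node (.leaf 1011) (.leaf 0)) (.node (.leaf 431) (.leaf 0)))) (.node (.node (.node (.leaf 765) (.leaf 169)) (.node (.leaf 2241) (.leaf 0))) (.node (.node (.leaf 2376) (.leaf 0)) (.node (.leaf 1805) (.leaf 0))))) (.node (.node (.node (.node (.leaf 788) (.leaf 199)) (.node (.leaf 460) (.leaf 0))) (.node (.node (.leaf 223) (.leaf 0)) (.node (.leaf 1795) (.leaf 0)))) (.node (.node (.node (.leaf 585) (.leaf 1432)) (.node (.leaf 1781) (.leaf 0))) (.node (.node (.leaf 1130) (.leaf 0)) (.node (.leaf 2365) (.leaf 0)))))) (.node (.node (.node (.node (.node (.leaf 129) (.leaf 796)) (.node (.leaf 1886) (.leaf 0))) (.node (.node (.leaf 1296) (.leaf 0)) (.node (.leaf 1652) (.leaf 0)))) (.node (.node (.node (.leaf 2214) (.leaf 1742)) (.node (.leaf 1551) (.leaf 0))) (.node (.node (.leaf 1167) (.leaf 0)) (.node (.leaf 2366) (.leaf 0))))) (.node (.node (.node (.node (.leaf 1778)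 (.leaf 1062)) (.node (.leaf 686) (.leaf 0))) (.node (.node (.leaf 1682) (.leaf 0)) (.node (.leaf 1759) (.leaf 0)))) (.node (.node (.node (.leaf 555) (.leaf 0)) (.node (.leaf 2033) (.leaf 0))) (.node (.node (.leaf 1477) (.leaf 0)) (.node (.leaf 1236) (.leaf 0))))))))) (.node (.node (.node (.node (.node (.node (.node (.node (.leaf 132) (.leaf 2280)) (.node (.leaf 417) (.leaf 0))) (.node (.node (.leaf 551) (.leaf 0)) (.node (.leaf 2301) (.leaf 0)))) (.node (.node (.node (.leaf 693) (.leaf 104)) (.node (.leaf 888) (.leaf 0))) (.node (.node (.leaf 10) (.leaf 0)) (.node (.leaf 217) (.leaf 0))))) (.node (.node (.node (.node (.leaf 2440) (.leaf 437)) (.node (.leaf 3) (.leaf 0))) (.node (.node (.leaf 1611) (.leaf 0)) (.node (.leaf 1041) (.leaf 0)))) (.node (.node (.node (.leaf 1424) (.leaf 1143)) (.node (.leaf 2216) (.leaf 0))) (.node (.node (.leaf 77) (.leaf 0)) (.node (.leaf 940) (.leaf 0)))))) (.node (.node (.node (.node (.node (.leaf 1209) (.leaf 1736)) (.node (.leaf 1106) (.leaf 0))) (.node (.node (.leaf 2147)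 (.leaf 0)) (.node (.leaf 1127) (.leaf 0)))) (.node (.node (.node (.leaf 328) (.leaf 1386)) (.node (.leaf 134) (.leaf 0))) (.node (.node (.leaf 1776) (.leaf 0)) (.node (.leaf 2267) (.leaf 0))))) (.node (.node (.node (.node (.leaf 2010) (.leaf 1476)) (.node (.leaf 1644) (.leaf 0))) (.node (.node (.leaf 1480) (.leaf 0)) (.node (.leaf 71) (.leaf 0)))) (.node (.node (.node (.leaf 1840) (.leaf 0)) (.node (.leaf 2436) (.leaf 0))) (.node (.node (.leaf 2) (.leaf 0)) (.node (.leaf 263) (.leaf 0))))))) (.node (.node (.node (.node (.node (.node (.leaf 475) (.leaf 1329)) (.node (.leaf 1914) (.leaf 0))) (.node (.node (.leaf 2069) (.leaf 0)) (.node (.leaf 836) (.leaf 0)))) (.node (.node (.node (.leaf 670) (.leaf 45)) (.node (.leaf 2361) (.leaf 0))) (.node (.node (.leaf 2045) (.leaf 0)) (.node (.leaf 15) (.leaf 0))))) (.node (.node (.node (.node (.leaf 1313) (.leaf 1007)) (.node (.leaf 1981) (.leaf 0))) (.node (.node (.leaf 1440) (.leaf 0)) (.node (.leaf 1768) (.leaf 0)))) (.node (.node (.node (.leaf 1753) (.leaf 288)) (.node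 (.leaf 1515) (.leaf 0))) (.node (.node (.leaf 308) (.leaf 0)) (.node (.leaf 2390) (.leaf 0)))))) (.node (.node (.node (.node (.node (.leaf 1986) (.leaf 1785)) (.node (.leaf 2375) (.leaf 0))) (.node (.node (.leaf 2465) (.leaf 0)) (.node (.leaf 2356) (.leaf 0)))) (.node (.node (.node (.leaf 302) (.leaf 2025)) (.node (.leaf 2078) (.leaf 0))) (.node (.node (.leaf 1608) (.leaf 0)) (.node (.leaf 889) (.leaf 0))))) (.node (.node (.node (.node (.leaf 1097) (.leaf 1159)) (.node (.leaf 2062) (.leaf 0))) (.node (.node (.leaf 2423) (.leaf 0)) (.node (.leaf 1835) (.leaf 0)))) (.node (.node (.node (.leaf 2367) (.leaf 0)) (.node (.leaf 130) (.leaf 0))) (.node (.node (.leaf 708) (.leaf 0)) (.node (.leaf 1546) (.leaf 0)))))))) (.node (.node (.node (.node (.node (.node (.node (.leaf 559) (.leaf 1799)) (.node (.leaf 1710) (.leaf 0))) (.node (.node (.leaf 1601) (.leaf 0)) (.node (.leaf 1648) (.leaf 0)))) (.node (.node (.node (.leaf 95) (.leaf 568)) (.node (.leaf 929) (.leaf 0))) (.node (.node (.leaf 2066) (.leaf 0)) (.node (.leaf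 189) (.leaf 0))))) (.node (.node (.node (.node (.leaf 1300) (.leaf 857)) (.node (.leaf 808) (.leaf 0))) (.node (.node (.leaf 1278) (.leaf 0)) (.node (.leaf 230) (.leaf 0)))) (.node (.node (.node (.leaf 1021) (.leaf 900)) (.node (.leaf 921) (.leaf 0))) (.node (.node (.leaf 2239) (.leaf 0)) (.node (.leaf 1442) (.leaf 0)))))) (.node (.node (.node (.node (.node (.leaf 2325) (.leaf 1870)) (.node (.leaf 880) (.leaf 0))) (.node (.node (.leaf 1044) (.leaf 0)) (.node (.leaf 1550) (.leaf 0)))) (.node (.node (.node (.leaf 1176) (.leaf 1992)) (.node (.leaf 1057) (.leaf 0))) (.node (.node (.leaf 1326) (.leaf 0)) (.node (.leaf 734) (.leaf 0))))) (.node (.node (.node (.node (.leaf 1532) (.leaf 2039)) (.node (.leaf 1995) (.leaf 0))) (.node (.node (.leaf 1559) (.leaf 0)) (.node (.leaf 1959) (.leaf 0)))) (.node (.node (.node (.leaf 1815) (.leaf 0)) (.node (.leaf 1147) (.leaf 0))) (.node (.node (.leaf 2252) (.leaf 0)) (.node (.leaf 2377) (.leaf 0))))))) (.node (.node (.node (.node (.node (.node (.leaf 2238) (.leaf 1217)) (.node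 (.leaf 314) (.leaf 0))) (.node (.node (.leaf 364) (.leaf 0)) (.node (.leaf 1271) (.leaf 0)))) (.node (.node (.node (.leaf 2244) (.leaf 297)) (.node (.leaf 1807) (.leaf 0))) (.node (.node (.leaf 1445) (.leaf 0)) (.node (.leaf 1756) (.leaf 0))))) (.node (.node (.node (.node (.leaf 224) (.leaf 86)) (.node (.leaf 73) (.leaf 0))) (.node (.node (.leaf 2058) (.leaf 0)) (.node (.leaf 110) (.leaf 0)))) (.node (.node (.node (.leaf 1475) (.leaf 714)) (.node (.leaf 1339) (.leaf 0))) (.node (.node (.leaf 1823) (.leaf 0)) (.node (.leaf 2421) (.leaf 0)))))) (.node (.node (.node (.node (.node (.leaf 816) (.leaf 1000)) (.node (.leaf 1494) (.leaf 0))) (.node (.node (.leaf 933) (.leaf 0)) (.node (.leaf 166) (.leaf 0)))) (.node (.node (.node (.leaf 1572) (.leaf 965)) (.node (.leaf 334) (.leaf 0))) (.node (.node (.leaf 357) (.leaf 0)) (.node (.leaf 2391) (.leaf 0))))) (.node (.node (.node (.node (.leaf 2446) (.leaf 1308)) (.node (.leaf 376) (.leaf 0))) (.node (.node (.leaf 216) (.leaf 0)) (.node (.leaf 941) (.leaf 0)))) (.node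 (.node (.node (.leaf 332) (.leaf 0)) (.node (.leaf 1761) (.leaf 0))) (.node (.node (.leaf 2140) (.leaf 0)) (.node (.leaf 1517) (.leaf 0)))))))))))) (.node (.node (.node (.node (.node (.node (.node (.node (.node (.node (.node (.leaf 938) (.leaf 753)) (.node (.leaf 136) (.leaf 0))) (.node (.node (.leaf 105) (.leaf 0)) (.node (.leaf 264) (.leaf 0)))) (.node (.node (.node (.leaf 1783) (.leaf 1717)) (.node (.leaf 407) (.leaf 0))) (.node (.node (.leaf 972) (.leaf 0)) (.node (.leaf 28) (.leaf 0))))) (.node (.node (.node (.node (.leaf 658) (.leaf 893)) (.node (.leaf 2134) (.leaf 0))) (.node (.node (.leaf 718) (.leaf 0)) (.node (.leaf 87) (.leaf 0)))) (.node (.node (.node (.leaf 1400) (.leaf 962)) (.node (.leaf 1580) (.leaf 0))) (.node (.node (.leaf 1458) (.leaf 0)) (.node (.leaf 1479) (.leaf 0)))))) (.node (.node (.node (.node (.node (.leaf 2135) (.leaf 427)) (.node (.leaf 1773) (.leaf 0))) (.node (.node (.leaf 170) (.leaf 0)) (.node (.leaf 1830) (.leaf 0)))) (.node (.node (.node (.leaf 2265) (.leaf 1133)) (.node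 (.leaf 720) (.leaf 0))) (.node (.node (.leaf 2169) (.leaf 0)) (.node (.leaf 2262) (.leaf 0))))) (.node (.node (.node (.node (.leaf 1696) (.leaf 361)) (.node (.leaf 1589) (.leaf 0))) (.node (.node (.leaf 1989) (.leaf 0)) (.node (.leaf 1855) (.leaf 0)))) (.node (.node (.node (.leaf 1320) (.leaf 0)) (.node (.leaf 384) (.leaf 0))) (.node (.node (.leaf 1985) (.leaf 0)) (.node (.leaf 911) (.leaf 0))))))) (.node (.node (.node (.node (.node (.node (.leaf 1688) (.leaf 458)) (.node (.leaf 2461) (.leaf 0))) (.node (.node (.leaf 512) (.leaf 0)) (.node (.leaf 368) (.leaf 0)))) (.node (.node (.node (.leaf 1338) (.leaf 180)) (.node (.leaf 1618) (.leaf 0))) (.node (.node (.leaf 426) (.leaf 0)) (.node (.leaf 651) (.leaf 0))))) (.node (.node (.node (.node (.leaf 1905) (.leaf 1334)) (.node (.leaf 2379) (.leaf 0))) (.node (.node (.leaf 1673) (.leaf 0)) (.node (.leaf 99) (.leaf 0)))) (.node (.node (.node (.leaf 1141) (.leaf 973)) (.node (.leaf 824) (.leaf 0))) (.node (.node (.leaf 2153) (.leaf 0)) (.node (.leaf 837) (.leaf 0))))))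 (.node (.node (.node (.node (.node (.leaf 1500) (.leaf 1154)) (.node (.leaf 457) (.leaf 0))) (.node (.node (.leaf 2326) (.leaf 0)) (.node (.leaf 1606) (.leaf 0)))) (.node (.node (.node (.leaf 569) (.leaf 1762)) (.node (.leaf 2397) (.leaf 0))) (.node (.node (.leaf 1642) (.leaf 0)) (.node (.leaf 2165) (.leaf 0))))) (.node (.node (.node (.node (.leaf 237) (.leaf 1249)) (.node (.leaf 1140) (.leaf 0))) (.node (.node (.leaf 1829) (.leaf 0)) (.node (.leaf 2142) (.leaf 0)))) (.node (.node (.node (.leaf 773) (.leaf 0)) (.node (.leaf 747) (.leaf 0))) (.node (.node (.leaf 1014) (.leaf 0)) (.node (.leaf 2386) (.leaf 0)))))))) (.node (.node (.node (.node (.node (.node (.node (.leaf 2144) (.leaf 617)) (.node (.leaf 1230) (.leaf 0))) (.node (.node (.leaf 1754) (.leaf 0)) (.node (.leaf 811) (.leaf 0)))) (.node (.node (.node (.leaf 1013) (.leaf 1809)) (.node (.leaf 2155) (.leaf 0))) (.node (.node (.leaf 265) (.leaf 0)) (.node (.leaf 398) (.leaf 0))))) (.node (.node (.node (.node (.leaf 1794) (.leaf 323)) (.node (.leaf 2317)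 (.leaf 0))) (.node (.node (.leaf 466) (.leaf 0)) (.node (.leaf 1116) (.leaf 0)))) (.node (.node (.node (.leaf 638) (.leaf 1048)) (.node (.leaf 2357) (.leaf 0))) (.node (.node (.leaf 650) (.leaf 0)) (.node (.leaf 648) (.leaf 0)))))) (.node (.node (.node (.node (.node (.leaf 584) (.leaf 1196)) (.node (.leaf 1268) (.leaf 0))) (.node (.node (.leaf 294) (.leaf 0)) (.node (.leaf 191) (.leaf 0)))) (.node (.node (.node (.leaf 586) (.leaf 2486)) (.node (.leaf 2282) (.leaf 0))) (.node (.node (.leaf 1188) (.leaf 0)) (.node (.leaf 2180) (.leaf 0))))) (.node (.node (.node (.node (.leaf 2087) (.leaf 1609)) (.node (.leaf 1056) (.leaf 0))) (.node (.node (.leaf 120) (.leaf 0)) (.node (.leaf 2260) (.leaf 0)))) (.node (.node (.node (.leaf 305) (.leaf 0)) (.node (.leaf 554) (.leaf 0))) (.node (.node (.leaf 521) (.leaf 0)) (.node (.leaf 849) (.leaf 0))))))) (.node (.node (.node (.node (.node (.node (.leaf 2091) (.leaf 835)) (.node (.leaf 1053) (.leaf 0))) (.node (.node (.leaf 806) (.leaf 0)) (.node (.leaf 411) (.leaf 0)))) (.node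 (.node (.node (.leaf 647) (.leaf 143)) (.node (.leaf 1911) (.leaf 0))) (.node (.node (.leaf 2394) (.leaf 0)) (.node (.leaf 706) (.leaf 0))))) (.node (.node (.node (.node (.leaf 626) (.leaf 356)) (.node (.leaf 445) (.leaf 0))) (.node (.node (.leaf 94) (.leaf 0)) (.node (.leaf 1868) (.leaf 0)))) (.node (.node (.node (.leaf 453) (.leaf 346)) (.node (.leaf 1901) (.leaf 0))) (.node (.node (.leaf 572) (.leaf 0)) (.node (.leaf 1203) (.leaf 0)))))) (.node (.node (.node (.node (.node (.leaf 259) (.leaf 1204)) (.node (.leaf 1649) (.leaf 0))) (.node (.node (.leaf 1047) (.leaf 0)) (.node (.leaf 614) (.leaf 0)))) (.node (.node (.node (.leaf 2255) (.leaf 2021)) (.node (.leaf 1357) (.leaf 0))) (.node (.node (.leaf 1287) (.leaf 0)) (.node (.leaf 1497) (.leaf 0))))) (.node (.node (.node (.node (.leaf 471) (.leaf 98)) (.node (.leaf 510) (.leaf 0))) (.node (.node (.leaf 755) (.leaf 0)) (.node (.leaf 1131) (.leaf 0)))) (.node (.node (.node (.leaf 606) (.leaf 0)) (.node (.leaf 2056) (.leaf 0))) (.node (.node (.leaf 1592) (.leaf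 0)) (.node (.leaf 1317) (.leaf 0))))))))) (.node (.node (.node (.node (.node (.node (.node (.node (.leaf 228) (.leaf 556)) (.node (.leaf 413) (.leaf 0))) (.node (.node (.leaf 660) (.leaf 0)) (.node (.leaf 2120) (.leaf 0)))) (.node (.node (.node (.leaf 1005) (.leaf 1956)) (.node (.leaf 848) (.leaf 0))) (.node (.node (.leaf 515) (.leaf 0)) (.node (.leaf 203) (.leaf 0))))) (.node (.node (.node (.node (.leaf 2466) (.leaf 347)) (.node (.leaf 251) (.leaf 0))) (.node (.node (.leaf 1087) (.leaf 0)) (.node (.leaf 968) (.leaf 0)))) (.node (.node (.node (.leaf 307) (.leaf 256)) (.node (.leaf 2308) (.leaf 0))) (.node (.node (.leaf 222) (.leaf 0)) (.node (.leaf 705) (.leaf 0)))))) (.node (.node (.node (.node (.node (.leaf 1191) (.leaf 378)) (.node (.leaf 1157) (.leaf 0))) (.node (.node (.leaf 2184) (.leaf 0)) (.node (.leaf 1070) (.leaf 0)))) (.node (.node (.node (.leaf 1539) (.leaf 810)) (.node (.leaf 925) (.leaf 0))) (.node (.node (.leaf 1657) (.leaf 0)) (.node (.leaf 2202) (.leaf 0))))) (.node (.node (.node (.node (.leaf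 2042) (.leaf 1524)) (.node (.leaf 1679) (.leaf 0))) (.node (.node (.leaf 1498) (.leaf 0)) (.node (.leaf 1897) (.leaf 0)))) (.node (.node (.node (.leaf 1724) (.leaf 0)) (.node (.leaf 2428) (.leaf 0))) (.node (.node (.leaf 149) (.leaf 0)) (.node (.leaf 960) (.leaf 0))))))) (.node (.node (.node (.node (.node (.node (.leaf 474) (.leaf 944)) (.node (.leaf 1769) (.leaf 0))) (.node (.node (.leaf 2187) (.leaf 0)) (.node (.leaf 946) (.leaf 0)))) (.node (.node (.node (.leaf 1526) (.leaf 213)) (.node (.leaf 2294) (.leaf 0))) (.node (.node (.leaf 2019) (.leaf 0)) (.node (.leaf 580) (.leaf 0))))) (.node (.node (.node (.node (.leaf 1061) (.leaf 1541)) (.node (.leaf 225) (.leaf 0))) (.node (.node (.leaf 165) (.leaf 0)) (.node (.leaf 1739) (.leaf 0)))) (.node (.node (.node (.leaf 1651) (.leaf 2452)) (.node (.leaf 1398) (.leaf 0))) (.node (.node (.leaf 301) (.leaf 0)) (.node (.leaf 986) (.leaf 0)))))) (.node (.node (.node (.node (.node (.leaf 1819) (.leaf 1139)) (.node (.leaf 2373) (.leaf 0))) (.node (.node (.leaf 1256) (.leaf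 0)) (.node (.leaf 847) (.leaf 0)))) (.node (.node (.node (.leaf 1503) (.leaf 1288)) (.node (.leaf 2168) (.leaf 0))) (.node (.node (.leaf 1565) (.leaf 0)) (.node (.leaf 2192) (.leaf 0))))) (.node (.node (.node (.node (.leaf 1277) (.leaf 1119)) (.node (.leaf 2018) (.leaf 0))) (.node (.node (.leaf 2385) (.leaf 0)) (.node (.leaf 1194) (.leaf 0)))) (.node (.node (.node (.leaf 490) (.leaf 0)) (.node (.leaf 6) (.leaf 0))) (.node (.node (.leaf 502) (.leaf 0)) (.node (.leaf 337) (.leaf 0)))))))) (.node (.node (.node (.node (.node (.node (.node (.leaf 2099) (.leaf 442)) (.node (.leaf 1937) (.leaf 0))) (.node (.node (.leaf 2226) (.leaf 0)) (.node (.leaf 1697) (.leaf 0)))) (.node (.node (.node (.leaf 179) (.leaf 192)) (.node (.leaf 2455) (.leaf 0))) (.node (.node (.leaf 2197) (.leaf 0)) (.node (.leaf 421) (.leaf 0))))) (.node (.node (.node (.node (.leaf 202) (.leaf 321)) (.node (.leaf 855) (.leaf 0))) (.node (.node (.leaf 1319) (.leaf 0)) (.node (.leaf 813) (.leaf 0)))) (.node (.node (.node (.leaf 1854) (.leaf 1304))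 (.node (.leaf 1184) (.leaf 0))) (.node (.node (.leaf 1920) (.leaf 0)) (.node (.leaf 904) (.leaf 0)))))) (.node (.node (.node (.node (.node (.leaf 2250) (.leaf 1128)) (.node (.leaf 1412) (.leaf 0))) (.node (.node (.leaf 1316) (.leaf 0)) (.node (.leaf 1615) (.leaf 0)))) (.node (.node (.node (.leaf 2014) (.leaf 701)) (.node (.leaf 1219) (.leaf 0))) (.node (.node (.leaf 1233) (.leaf 0)) (.node (.leaf 2086) (.leaf 0))))) (.node (.node (.node (.node (.leaf 1519) (.leaf 1269)) (.node (.leaf 1766) (.leaf 0))) (.node (.node (.leaf 2090) (.leaf 0)) (.node (.leaf 2064) (.leaf 0)))) (.node (.node (.node (.leaf 1904) (.leaf 0)) (.node (.leaf 2418) (.leaf 0))) (.node (.node (.leaf 2105) (.leaf 0)) (.node (.leaf 2352) (.leaf 0))))))) (.node (.node (.node (.node (.node (.node (.leaf 2215) (.leaf 403)) (.node (.leaf 1397) (.leaf 0))) (.node (.node (.leaf 1658) (.leaf 0)) (.node (.leaf 1248) (.leaf 0)))) (.node (.node (.node (.leaf 1867) (.leaf 260)) (.node (.leaf 1834) (.leaf 0))) (.node (.node (.leaf 1399) (.leaf 0)) (.node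 (.leaf 2143) (.leaf 0))))) (.node (.node (.node (.node (.leaf 193) (.leaf 338)) (.node (.leaf 111) (.leaf 0))) (.node (.node (.leaf 2047) (.leaf 0)) (.node (.leaf 1935) (.leaf 0)))) (.node (.node (.node (.leaf 1349) (.leaf 1485)) (.node (.leaf 1553) (.leaf 0))) (.node (.node (.leaf 1860) (.leaf 0)) (.node (.leaf 1153) (.leaf 0)))))) (.node (.node (.node (.node (.node (.leaf 942) (.leaf 789)) (.node (.leaf 1518) (.leaf 0))) (.node (.node (.leaf 1022) (.leaf 0)) (.node (.leaf 1333) (.leaf 0)))) (.node (.node (.node (.leaf 1076) (.leaf 1925)) (.node (.leaf 325) (.leaf 0))) (.node (.node (.leaf 319) (.leaf 0)) (.node (.leaf 1450) (.leaf 0))))) (.node (.node (.node (.node (.leaf 2482) (.leaf 176)) (.node (.leaf 133) (.leaf 0))) (.node (.node (.leaf 188) (.leaf 0)) (.node (.leaf 65) (.leaf 0)))) (.node (.node (.node (.leaf 342) (.leaf 0)) (.node (.leaf 1765) (.leaf 0))) (.node (.node (.leaf 2114) (.leaf 0)) (.node (.leaf 1325) (.leaf 0)))))))))) (.node (.node (.node (.node (.node (.node (.node (.node (.node (.leaf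 1818) (.leaf 539)) (.node (.leaf 1499) (.leaf 0))) (.node (.node (.leaf 2247) (.leaf 0)) (.node (.leaf 565) (.leaf 0)))) (.node (.node (.node (.leaf 1966) (.leaf 1930)) (.node (.leaf 2424) (.leaf 0))) (.node (.node (.leaf 1695) (.leaf 0)) (.node (.leaf 270) (.leaf 0))))) (.node (.node (.node (.node (.leaf 273) (.leaf 866)) (.node (.leaf 1814) (.leaf 0))) (.node (.node (.leaf 1142) (.leaf 0)) (.node (.leaf 1085) (.leaf 0)))) (.node (.node (.node (.leaf 795) (.leaf 1402)) (.node (.leaf 1632) (.leaf 0))) (.node (.node (.leaf 1955) (.leaf 0)) (.node (.leaf 579) (.leaf 0)))))) (.node (.node (.node (.node (.node (.leaf 1299) (.leaf 410)) (.node (.leaf 1416) (.leaf 0))) (.node (.node (.leaf 2130) (.leaf 0)) (.node (.leaf 550) (.leaf 0)))) (.node (.node (.node (.leaf 2435) (.leaf 1246)) (.node (.leaf 2158) (.leaf 0))) (.node (.node (.leaf 2384) (.leaf 0)) (.node (.leaf 2196) (.leaf 0))))) (.node (.node (.node (.node (.leaf 1098) (.leaf 1564)) (.node (.leaf 712) (.leaf 0))) (.node (.node (.leaf 2139) (.leaf 0)) (.node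 (.leaf 1877) (.leaf 0)))) (.node (.node (.node (.leaf 481) (.leaf 0)) (.node (.leaf 1822) (.leaf 0))) (.node (.node (.leaf 238) (.leaf 0)) (.node (.leaf 887) (.leaf 0))))))) (.node (.node (.node (.node (.node (.node (.leaf 2106) (.leaf 737)) (.node (.leaf 1443) (.leaf 0))) (.node (.node (.leaf 26) (.leaf 0)) (.node (.leaf 906) (.leaf 0)))) (.node (.node (.node (.leaf 823) (.leaf 221)) (.node (.leaf 630) (.leaf 0))) (.node (.node (.leaf 109) (.leaf 0)) (.node (.leaf 519) (.leaf 0))))) (.node (.node (.node (.node (.leaf 1808) (.leaf 1561)) (.node (.leaf 34) (.leaf 0))) (.node (.node (.leaf 196) (.leaf 0)) (.node (.leaf 420) (.leaf 0)))) (.node (.node (.node (.leaf 1663) (.leaf 462)) (.node (.leaf 2016) (.leaf 0))) (.node (.node (.leaf 608) (.leaf 0)) (.node (.leaf 854) (.leaf 0)))))) (.node (.node (.node (.node (.node (.leaf 452) (.leaf 1284)) (.node (.leaf 1820) (.leaf 0))) (.node (.node (.leaf 2490) (.leaf 0)) (.node (.leaf 1549) (.leaf 0)))) (.node (.node (.node (.leaf 869) (.leaf 1356)) (.node (.leaf 2345)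 (.leaf 0))) (.node (.node (.leaf 787) (.leaf 0)) (.node (.leaf 2359) (.leaf 0))))) (.node (.node (.node (.node (.leaf 1590) (.leaf 1306)) (.node (.leaf 115) (.leaf 0))) (.node (.node (.leaf 1222) (.leaf 0)) (.node (.leaf 1091) (.leaf 0)))) (.node (.node (.node (.leaf 786) (.leaf 0)) (.node (.leaf 1787) (.leaf 0))) (.node (.node (.leaf 1853) (.leaf 0)) (.node (.leaf 694) (.leaf 0)))))))) (.node (.node (.node (.node (.node (.node (.node (.leaf 1020) (.leaf 523)) (.node (.leaf 370) (.leaf 0))) (.node (.node (.leaf 948) (.leaf 0)) (.node (.leaf 1806) (.leaf 0)))) (.node (.node (.node (.leaf 2185) (.leaf 75)) (.node (.leaf 2006) (.leaf 0))) (.node (.node (.leaf 2478) (.leaf 0)) (.node (.leaf 416) (.leaf 0))))) (.node (.node (.node (.node (.leaf 2402) (.leaf 316)) (.node (.leaf 131) (.leaf 0))) (.node (.node (.leaf 430) (.leaf 0)) (.node (.leaf 729) (.leaf 0)))) (.node (.node (.node (.leaf 388) (.leaf 724)) (.node (.leaf 1340) (.leaf 0))) (.node (.node (.leaf 1457) (.leaf 0)) (.node (.leaf 671) (.leaf 0)))))) (.node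 (.node (.node (.node (.node (.leaf 1777) (.leaf 1162)) (.node (.leaf 112) (.leaf 0))) (.node (.node (.leaf 1039) (.leaf 0)) (.node (.leaf 66) (.leaf 0)))) (.node (.node (.node (.leaf 1202) (.leaf 945)) (.node (.leaf 533) (.leaf 0))) (.node (.node (.leaf 1927) (.leaf 0)) (.node (.leaf 2223) (.leaf 0))))) (.node (.node (.node (.node (.leaf 2003) (.leaf 1488)) (.node (.leaf 2085) (.leaf 0))) (.node (.node (.leaf 1744) (.leaf 0)) (.node (.leaf 2112) (.leaf 0)))) (.node (.node (.node (.leaf 1016) (.leaf 0)) (.node (.leaf 402) (.leaf 0))) (.node (.node (.leaf 649) (.leaf 0)) (.node (.leaf 97) (.leaf 0))))))) (.node (.node (.node (.node (.node (.node (.leaf 1664) (.leaf 955)) (.node (.leaf 2426) (.leaf 0))) (.node (.node (.leaf 535) (.leaf 0)) (.node (.leaf 1567) (.leaf 0)))) (.node (.node (.node (.leaf 785) (.leaf 107)) (.node (.leaf 897) (.leaf 0))) (.node (.node (.leaf 1693) (.leaf 0)) (.node (.leaf 2065) (.leaf 0))))) (.node (.node (.node (.node (.leaf 771) (.leaf 313)) (.node (.leaf 2160) (.leaf 0))) (.node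 (.node (.leaf 2451) (.leaf 0)) (.node (.leaf 2002) (.leaf 0)))) (.node (.node (.node (.leaf 2026) (.leaf 1583)) (.node (.leaf 1797) (.leaf 0))) (.node (.node (.leaf 1088) (.leaf 0)) (.node (.leaf 1283) (.leaf 0)))))) (.node (.node (.node (.node (.node (.leaf 1577) (.leaf 770)) (.node (.leaf 446) (.leaf 0))) (.node (.node (.leaf 85) (.leaf 0)) (.node (.leaf 500) (.leaf 0)))) (.node (.node (.node (.leaf 2258) (.leaf 1939)) (.node (.leaf 546) (.leaf 0))) (.node (.node (.leaf 819) (.leaf 0)) (.node (.leaf 1375) (.leaf 0))))) (.node (.node (.node (.node (.leaf 820) (.leaf 241)) (.node (.leaf 721) (.leaf 0))) (.node (.node (.leaf 440) (.leaf 0)) (.node (.leaf 1071) (.leaf 0)))) (.node (.node (.node (.leaf 1974) (.leaf 0)) (.node (.leaf 932) (.leaf 0))) (.node (.node (.leaf 1027) (.leaf 0)) (.node (.leaf 322) (.leaf 0))))))))) (.node (.node (.node (.node (.node (.node (.node (.node (.leaf 625) (.leaf 2312)) (.node (.leaf 2179) (.leaf 0))) (.node (.node (.leaf 1388) (.leaf 0)) (.node (.leaf 1993) (.leaf 0)))) (.node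 (.node (.node (.leaf 2464) (.leaf 1983)) (.node (.leaf 465) (.leaf 0))) (.node (.node (.leaf 289) (.leaf 0)) (.node (.leaf 429) (.leaf 0))))) (.node (.node (.node (.node (.leaf 1276) (.leaf 363)) (.node (.leaf 1468) (.leaf 0))) (.node (.node (.leaf 1687) (.leaf 0)) (.node (.leaf 1255) (.leaf 0)))) (.node (.node (.node (.leaf 1474) (.leaf 298)) (.node (.leaf 1530) (.leaf 0))) (.node (.node (.leaf 992) (.leaf 0)) (.node (.leaf 517) (.leaf 0)))))) (.node (.node (.node (.node (.node (.leaf 2095) (.leaf 1090)) (.node (.leaf 147) (.leaf 0))) (.node (.node (.leaf 320) (.leaf 0)) (.node (.leaf 1582) (.leaf 0)))) (.node (.node (.node (.leaf 2029) (.leaf 1385)) (.node (.leaf 2372) (.leaf 0))) (.node (.node (.leaf 1633) (.leaf 0)) (.node (.leaf 2331) (.leaf 0))))) (.node (.node (.node (.node (.leaf 92) (.leaf 1366)) (.node (.leaf 1527) (.leaf 0))) (.node (.node (.leaf 663) (.leaf 0)) (.node (.leaf 1732) (.leaf 0)))) (.node (.node (.node (.leaf 772) (.leaf 0)) (.node (.leaf 2156) (.leaf 0))) (.node (.node (.leaf 1969)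 (.leaf 0)) (.node (.leaf 735) (.leaf 0))))))) (.node (.node (.node (.node (.node (.node (.leaf 711) (.leaf 812)) (.node (.leaf 2339) (.leaf 0))) (.node (.node (.leaf 1598) (.leaf 0)) (.node (.leaf 1772) (.leaf 0)))) (.node (.node (.node (.leaf 520) (.leaf 157)) (.node (.leaf 928) (.leaf 0))) (.node (.node (.leaf 2113) (.leaf 0)) (.node (.leaf 668) (.leaf 0))))) (.node (.node (.node (.node (.leaf 1093) (.leaf 1370)) (.node (.leaf 1353) (.leaf 0))) (.node (.node (.leaf 1847) (.leaf 0)) (.node (.leaf 1910) (.leaf 0)))) (.node (.node (.node (.leaf 1839) (.leaf 267)) (.node (.leaf 2493) (.leaf 0))) (.node (.node (.leaf 2259) (.leaf 0)) (.node (.leaf 1138) (.leaf 0)))))) (.node (.node (.node (.node (.node (.leaf 548) (.leaf 1109)) (.node (.leaf 947) (.leaf 0))) (.node (.node (.leaf 1124) (.leaf 0)) (.node (.leaf 2166) (.leaf 0)))) (.node (.node (.node (.leaf 1438) (.leaf 2063)) (.node (.leaf 1082) (.leaf 0))) (.node (.node (.leaf 2430) (.leaf 0)) (.node (.leaf 2116) (.leaf 0))))) (.node (.node (.node (.node (.leaf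 1345) (.leaf 153)) (.node (.leaf 151) (.leaf 0))) (.node (.node (.leaf 1411) (.leaf 0)) (.node (.leaf 1164) (.leaf 0)))) (.node (.node (.node (.leaf 140) (.leaf 0)) (.node (.leaf 1189) (.leaf 0))) (.node (.node (.leaf 2310) (.leaf 0)) (.node (.leaf 1545) (.leaf 0)))))))) (.node (.node (.node (.node (.node (.node (.node (.leaf 2292) (.leaf 716)) (.node (.leaf 372) (.leaf 0))) (.node (.node (.leaf 435) (.leaf 0)) (.node (.leaf 2152) (.leaf 0)))) (.node (.node (.node (.leaf 636) (.leaf 93)) (.node (.leaf 1871) (.leaf 0))) (.node (.node (.leaf 985) (.leaf 0)) (.node (.leaf 373) (.leaf 0))))) (.node (.node (.node (.node (.leaf 601) (.leaf 1407)) (.node (.leaf 899) (.leaf 0))) (.node (.node (.leaf 1522) (.leaf 0)) (.node (.leaf 1672) (.leaf 0)))) (.node (.node (.node (.leaf 939) (.leaf 1178)) (.node (.leaf 742) (.leaf 0))) (.node (.node (.leaf 575) (.leaf 0)) (.node (.leaf 809) (.leaf 0)))))) (.node (.node (.node (.node (.node (.leaf 999) (.leaf 1067)) (.node (.leaf 1681) (.leaf 0))) (.node (.node (.leaf 2118) (.leaf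 0)) (.node (.leaf 1193) (.leaf 0)))) (.node (.node (.node (.leaf 1172) (.leaf 2380)) (.node (.leaf 119) (.leaf 0))) (.node (.node (.leaf 1888) (.leaf 0)) (.node (.leaf 2232) (.leaf 0))))) (.node (.node (.node (.node (.leaf 1291) (.leaf 1181)) (.node (.leaf 1689) (.leaf 0))) (.node (.node (.leaf 886) (.leaf 0)) (.node (.leaf 2198) (.leaf 0)))) (.node (.node (.node (.leaf 1821) (.leaf 0)) (.node (.leaf 2407) (.leaf 0))) (.node (.node (.leaf 1492) (.leaf 0)) (.node (.leaf 2302) (.leaf 0))))))) (.node (.node (.node (.node (.node (.node (.leaf 937) (.leaf 418)) (.node (.leaf 344) (.leaf 0))) (.node (.node (.leaf 70) (.leaf 0)) (.node (.leaf 741) (.leaf 0)))) (.node (.node (.node (.leaf 2224) (.leaf 258)) (.node (.leaf 205) (.leaf 0))) (.node (.node (.leaf 67) (.leaf 0)) (.node (.leaf 2115) (.leaf 0))))) (.node (.node (.node (.node (.leaf 2220) (.leaf 369)) (.node (.leaf 1810) (.leaf 0))) (.node (.node (.leaf 1531) (.leaf 0)) (.node (.leaf 1802) (.leaf 0)))) (.node (.node (.node (.leaf 2318) (.leaf 461)) (.node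 (.leaf 1429) (.leaf 0))) (.node (.node (.leaf 405) (.leaf 0)) (.node (.leaf 1108) (.leaf 0)))))) (.node (.node (.node (.node (.node (.leaf 1851) (.leaf 828)) (.node (.leaf 910) (.leaf 0))) (.node (.node (.leaf 2481) (.leaf 0)) (.node (.leaf 49) (.leaf 0)))) (.node (.node (.node (.leaf 1075) (.leaf 966)) (.node (.leaf 2319) (.leaf 0))) (.node (.node (.leaf 1363) (.leaf 0)) (.node (.leaf 1594) (.leaf 0))))) (.node (.node (.node (.node (.leaf 874) (.leaf 234)) (.node (.leaf 423) (.leaf 0))) (.node (.node (.leaf 1136) (.leaf 0)) (.node (.leaf 36) (.leaf 0)))) (.node (.node (.node (.leaf 2392) (.leaf 0)) (.node (.leaf 791) (.leaf 0))) (.node (.node (.leaf 1779) (.leaf 0)) (.node (.leaf 1493) (.leaf 0))))))))))) (.node (.node (.node (.node (.node (.node (.node (.node (.node (.node (.leaf 599) (.leaf 883)) (.node (.leaf 2067) (.leaf 0))) (.node (.node (.leaf 324) (.leaf 0)) (.node (.leaf 1943) (.leaf 0)))) (.node (.node (.node (.leaf 2476) (.leaf 1207)) (.node (.leaf 561) (.leaf 0))) (.node (.node (.leaf 266) (.leaf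 0)) (.node (.leaf 236) (.leaf 0))))) (.node (.node (.node (.node (.leaf 1170) (.leaf 1800)) (.node (.leaf 1346) (.leaf 0))) (.node (.node (.leaf 843) (.leaf 0)) (.node (.leaf 1160) (.leaf 0)))) (.node (.node (.node (.leaf 779) (.leaf 1690)) (.node (.leaf 1629) (.leaf 0))) (.node (.node (.leaf 935) (.leaf 0)) (.node (.leaf 2355) (.leaf 0)))))) (.node (.node (.node (.node (.node (.leaf 2257) (.leaf 858)) (.node (.leaf 1991) (.leaf 0))) (.node (.node (.leaf 341) (.leaf 0)) (.node (.leaf 434) (.leaf 0)))) (.node (.node (.node (.leaf 2443) (.leaf 1040)) (.node (.leaf 1758) (.leaf 0))) (.node (.node (.leaf 1513) (.leaf 0)) (.node (.leaf 1247) (.leaf 0))))) (.node (.node (.node (.node (.leaf 76) (.leaf 936)) (.node (.leaf 17) (.leaf 0))) (.node (.node (.leaf 664) (.leaf 0)) (.node (.leaf 2189) (.leaf 0)))) (.node (.node (.node (.leaf 1423) (.leaf 0)) (.node (.leaf 2108) (.leaf 0))) (.node (.node (.leaf 1843) (.leaf 0)) (.node (.leaf 831) (.leaf 0))))))) (.node (.node (.node (.node (.node (.node (.leaf 504) (.leaf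 1678)) (.node (.leaf 2123) (.leaf 0))) (.node (.node (.leaf 1600) (.leaf 0)) (.node (.leaf 1653) (.leaf 0)))) (.node (.node (.node (.leaf 242) (.leaf 547)) (.node (.leaf 931) (.leaf 0))) (.node (.node (.leaf 2263) (.leaf 0)) (.node (.leaf 1036) (.leaf 0))))) (.node (.node (.node (.node (.leaf 1055) (.leaf 1294)) (.node (.leaf 984) (.leaf 0))) (.node (.node (.leaf 1101) (.leaf 0)) (.node (.leaf 394) (.leaf 0)))) (.node (.node (.node (.leaf 1286) (.leaf 2492)) (.node (.leaf 2024) (.leaf 0))) (.node (.node (.leaf 2162) (.leaf 0)) (.node (.leaf 633) (.leaf 0)))))) (.node (.node (.node (.node (.node (.leaf 2088) (.leaf 2053)) (.node (.leaf 1006) (.leaf 0))) (.node (.node (.leaf 1220) (.leaf 0)) (.node (.leaf 1614) (.leaf 0)))) (.node (.node (.node (.leaf 689) (.leaf 1380)) (.node (.leaf 1126) (.leaf 0))) (.node (.node (.leaf 894) (.leaf 0)) (.node (.leaf 1571) (.leaf 0))))) (.node (.node (.node (.node (.leaf 1495) (.leaf 1478)) (.node (.leaf 1285) (.leaf 0))) (.node (.node (.leaf 1369) (.leaf 0)) (.node (.leaf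 409) (.leaf 0)))) (.node (.node (.node (.leaf 860) (.leaf 0)) (.node (.leaf 1208) (.leaf 0))) (.node (.node (.leaf 2219) (.leaf 0)) (.node (.leaf 632) (.leaf 0)))))))) (.node (.node (.node (.node (.node (.node (.node (.leaf 54) (.leaf 1659)) (.node (.leaf 387) (.leaf 0))) (.node (.node (.leaf 591) (.leaf 0)) (.node (.leaf 2072) (.leaf 0)))) (.node (.node (.node (.leaf 542) (.leaf 1151)) (.node (.leaf 909) (.leaf 0))) (.node (.node (.leaf 2441) (.leaf 0)) (.node (.leaf 1585) (.leaf 0))))) (.node (.node (.node (.node (.leaf 2444) (.leaf 1745)) (.node (.leaf 2170) (.leaf 0))) (.node (.node (.leaf 1491) (.leaf 0)) (.node (.leaf 728) (.leaf 0)))) (.node (.node (.node (.leaf 501) (.leaf 1703)) (.node (.leaf 2107) (.leaf 0))) (.node (.node (.leaf 181) (.leaf 0)) (.node (.leaf 1113) (.leaf 0)))))) (.node (.node (.node (.node (.node (.leaf 754) (.leaf 83)) (.node (.leaf 1086) (.leaf 0))) (.node (.node (.leaf 2297) (.leaf 0)) (.node (.leaf 1166) (.leaf 0)))) (.node (.node (.node (.leaf 496) (.leaf 815)) (.node (.leaf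 9) (.leaf 0))) (.node (.node (.leaf 1918) (.leaf 0)) (.node (.leaf 478) (.leaf 0))))) (.node (.node (.node (.node (.leaf 1909) (.leaf 2330)) (.node (.leaf 1675) (.leaf 0))) (.node (.node (.leaf 1596) (.leaf 0)) (.node (.leaf 404) (.leaf 0)))) (.node (.node (.node (.leaf 1862) (.leaf 0)) (.node (.leaf 2454) (.leaf 0))) (.node (.node (.leaf 702) (.leaf 0)) (.node (.leaf 768) (.leaf 0))))))) (.node (.node (.node (.node (.node (.node (.leaf 473) (.leaf 1630)) (.node (.leaf 1962) (.leaf 0))) (.node (.node (.leaf 2100) (.leaf 0)) (.node (.leaf 954) (.leaf 0)))) (.node (.node (.node (.leaf 859) (.leaf 566)) (.node (.leaf 2271) (.leaf 0))) (.node (.node (.leaf 39) (.leaf 0)) (.node (.leaf 1190) (.leaf 0))))) (.node (.node (.node (.node (.leaf 1125) (.leaf 1025)) (.node (.leaf 1958) (.leaf 0))) (.node (.node (.leaf 1504) (.leaf 0)) (.node (.leaf 1610) (.leaf 0)))) (.node (.node (.node (.leaf 2079) (.leaf 329)) (.node (.leaf 1573) (.leaf 0))) (.node (.node (.leaf 1195) (.leaf 0)) (.node (.leaf 1533) (.leaf 0)))))) (.node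 (.node (.node (.node (.node (.leaf 1952) (.leaf 2030)) (.node (.leaf 2399) (.leaf 0))) (.node (.node (.leaf 2473) (.leaf 0)) (.node (.leaf 719) (.leaf 0)))) (.node (.node (.node (.leaf 2335) (.leaf 1709)) (.node (.leaf 2342) (.leaf 0))) (.node (.node (.leaf 1525) (.leaf 0)) (.node (.leaf 2125) (.leaf 0))))) (.node (.node (.node (.node (.leaf 529) (.leaf 1895)) (.node (.leaf 2022) (.leaf 0))) (.node (.node (.leaf 2398) (.leaf 0)) (.node (.leaf 2096) (.leaf 0)))) (.node (.node (.node (.leaf 2382) (.leaf 0)) (.node (.leaf 118) (.leaf 0))) (.node (.node (.leaf 1964) (.leaf 0)) (.node (.leaf 1238) (.leaf 0))))))))) (.node (.node (.node (.node (.node (.node (.node (.node (.leaf 915) (.leaf 2178)) (.node (.leaf 315) (.leaf 0))) (.node (.node (.leaf 1002) (.leaf 0)) (.node (.leaf 211) (.leaf 0)))) (.node (.node (.node (.leaf 1752) (.leaf 1259)) (.node (.leaf 2044) (.leaf 0))) (.node (.node (.leaf 870) (.leaf 0)) (.node (.leaf 247) (.leaf 0))))) (.node (.node (.node (.node (.leaf 2410) (.leaf 1973)) (.node (.leaf 2350)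 (.leaf 0))) (.node (.node (.leaf 1165) (.leaf 0)) (.node (.leaf 1003) (.leaf 0)))) (.node (.node (.node (.leaf 1405) (.leaf 30)) (.node (.leaf 1464) (.leaf 0))) (.node (.node (.leaf 1459) (.leaf 0)) (.node (.leaf 1132) (.leaf 0)))))) (.node (.node (.node (.node (.node (.leaf 2204) (.leaf 784)) (.node (.leaf 72) (.leaf 0))) (.node (.node (.leaf 44) (.leaf 0)) (.node (.leaf 35) (.leaf 0)))) (.node (.node (.node (.leaf 1560) (.leaf 1383)) (.node (.leaf 499) (.leaf 0))) (.node (.node (.leaf 1796) (.leaf 0)) (.node (.leaf 698) (.leaf 0))))) (.node (.node (.node (.node (.leaf 1666) (.leaf 2181)) (.node (.leaf 2183) (.leaf 0))) (.node (.node (.leaf 1858) (.leaf 0)) (.node (.leaf 2132) (.leaf 0)))) (.node (.node (.node (.leaf 825) (.leaf 0)) (.node (.leaf 392) (.leaf 0))) (.node (.node (.leaf 1954) (.leaf 0)) (.node (.leaf 892) (.leaf 0))))))) (.node (.node (.node (.node (.node (.node (.leaf 1645) (.leaf 1421)) (.node (.leaf 2442) (.leaf 0))) (.node (.node (.leaf 642) (.leaf 0)) (.node (.leaf 1484) (.leaf 0)))) (.node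 (.node (.node (.leaf 1607) (.leaf 469)) (.node (.leaf 1463) (.leaf 0))) (.node (.node (.leaf 428) (.leaf 0)) (.node (.leaf 1211) (.leaf 0))))) (.node (.node (.node (.node (.leaf 1885) (.leaf 1146)) (.node (.leaf 2405) (.leaf 0))) (.node (.node (.leaf 2462) (.leaf 0)) (.node (.leaf 1487) (.leaf 0)))) (.node (.node (.node (.leaf 1782) (.leaf 186)) (.node (.leaf 1750) (.leaf 0))) (.node (.node (.leaf 2075) (.leaf 0)) (.node (.leaf 449) (.leaf 0)))))) (.node (.node (.node (.node (.node (.leaf 1555) (.leaf 2061)) (.node (.leaf 713) (.leaf 0))) (.node (.node (.leaf 2138) (.leaf 0)) (.node (.leaf 1683) (.leaf 0)))) (.node (.node (.node (.leaf 1628) (.leaf 1225)) (.node (.leaf 695) (.leaf 0))) (.node (.node (.leaf 950) (.leaf 0)) (.node (.leaf 1434) (.leaf 0))))) (.node (.node (.node (.node (.leaf 246) (.leaf 1501)) (.node (.leaf 679) (.leaf 0))) (.node (.node (.leaf 1775) (.leaf 0)) (.node (.leaf 2230) (.leaf 0)))) (.node (.node (.node (.leaf 564) (.leaf 0)) (.node (.leaf 846) (.leaf 0))) (.node (.node (.leaf 743)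 (.leaf 0)) (.node (.leaf 1544) (.leaf 0)))))))) (.node (.node (.node (.node (.node (.node (.node (.leaf 2231) (.leaf 1694)) (.node (.leaf 1231) (.leaf 0))) (.node (.node (.leaf 1837) (.leaf 0)) (.node (.leaf 983) (.leaf 0)))) (.node (.node (.node (.leaf 918) (.leaf 436)) (.node (.leaf 628) (.leaf 0))) (.node (.node (.leaf 262) (.leaf 0)) (.node (.leaf 1435) (.leaf 0))))) (.node (.node (.node (.node (.leaf 1957) (.leaf 1894)) (.node (.leaf 276) (.leaf 0))) (.node (.node (.leaf 560) (.leaf 0)) (.node (.leaf 739) (.leaf 0)))) (.node (.node (.node (.leaf 981) (.leaf 1267)) (.node (.leaf 1297) (.leaf 0))) (.node (.node (.leaf 549) (.leaf 0)) (.node (.leaf 725) (.leaf 0)))))) (.node (.node (.node (.node (.node (.leaf 480) (.leaf 80)) (.node (.leaf 1180) (.leaf 0))) (.node (.node (.leaf 2487) (.leaf 0)) (.node (.leaf 220) (.leaf 0)))) (.node (.node (.node (.leaf 1174) (.leaf 477)) (.node (.leaf 2177) (.leaf 0))) (.node (.node (.leaf 1035) (.leaf 0)) (.node (.leaf 583) (.leaf 0))))) (.node (.node (.node (.node (.leaf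 1508) (.leaf 1372)) (.node (.leaf 1094) (.leaf 0))) (.node (.node (.leaf 123) (.leaf 0)) (.node (.leaf 399) (.leaf 0)))) (.node (.node (.node (.leaf 306) (.leaf 0)) (.node (.leaf 2420) (.leaf 0))) (.node (.node (.leaf 1803) (.leaf 0)) (.node (.leaf 2336) (.leaf 0))))))) (.node (.node (.node (.node (.node (.node (.leaf 1095) (.leaf 803)) (.node (.leaf 349) (.leaf 0))) (.node (.node (.leaf 1650) (.leaf 0)) (.node (.leaf 389) (.leaf 0)))) (.node (.node (.node (.leaf 1723) (.leaf 594)) (.node (.leaf 2284) (.leaf 0))) (.node (.node (.leaf 2411) (.leaf 0)) (.node (.leaf 1305) (.leaf 0))))) (.node (.node (.node (.node (.leaf 1212) (.leaf 996)) (.node (.leaf 526) (.leaf 0))) (.node (.node (.leaf 194) (.leaf 0)) (.node (.leaf 1365) (.leaf 0)))) (.node (.node (.node (.leaf 700) (.leaf 444)) (.node (.leaf 1755) (.leaf 0))) (.node (.node (.leaf 61) (.leaf 0)) (.node (.leaf 1467) (.leaf 0)))))) (.node (.node (.node (.node (.node (.leaf 279) (.leaf 1876)) (.node (.leaf 1722) (.leaf 0))) (.node (.node (.leaf 1324) (.leaf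 0)) (.node (.leaf 1537) (.leaf 0)))) (.node (.node (.node (.leaf 1072) (.leaf 1945)) (.node (.leaf 1602) (.leaf 0))) (.node (.node (.leaf 1272) (.leaf 0)) (.node (.leaf 2303) (.leaf 0))))) (.node (.node (.node (.node (.leaf 1890) (.leaf 1972)) (.node (.leaf 541) (.leaf 0))) (.node (.node (.leaf 1677) (.leaf 0)) (.node (.leaf 63) (.leaf 0)))) (.node (.node (.node (.leaf 509) (.leaf 0)) (.node (.leaf 470) (.leaf 0))) (.node (.node (.leaf 1449) (.leaf 0)) (.node (.leaf 1343) (.leaf 0)))))))))) (.node (.node (.node (.node (.node (.node (.node (.node (.node (.leaf 2296) (.leaf 507)) (.node (.leaf 1889) (.leaf 0))) (.node (.node (.leaf 1704) (.leaf 0)) (.node (.leaf 862) (.leaf 0)))) (.node (.node (.node (.leaf 872) (.leaf 1187)) (.node (.leaf 2128) (.leaf 0))) (.node (.node (.leaf 1252) (.leaf 0)) (.node (.leaf 40) (.leaf 0))))) (.node (.node (.node (.node (.leaf 1771) (.leaf 1733)) (.node (.leaf 890) (.leaf 0))) (.node (.node (.leaf 1192) (.leaf 0)) (.node (.leaf 2483) (.leaf 0)))) (.node (.node (.node (.leaf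 1001) (.leaf 1351)) (.node (.leaf 2195) (.leaf 0))) (.node (.node (.leaf 703) (.leaf 0)) (.node (.leaf 1243) (.leaf 0)))))) (.node (.node (.node (.node (.node (.leaf 977) (.leaf 1008)) (.node (.leaf 1302) (.leaf 0))) (.node (.node (.leaf 113) (.leaf 0)) (.node (.leaf 183) (.leaf 0)))) (.node (.node (.node (.leaf 1367) (.leaf 905)) (.node (.leaf 208) (.leaf 0))) (.node (.node (.leaf 27) (.leaf 0)) (.node (.leaf 1270) (.leaf 0))))) (.node (.node (.node (.node (.leaf 2328) (.leaf 2201)) (.node (.leaf 1080) (.leaf 0))) (.node (.node (.leaf 124) (.leaf 0)) (.node (.leaf 2351) (.leaf 0)))) (.node (.node (.node (.leaf 2171) (.leaf 0)) (.node (.leaf 508) (.leaf 0))) (.node (.node (.leaf 424) (.leaf 0)) (.node (.leaf 790) (.leaf 0))))))) (.node (.node (.node (.node (.node (.node (.leaf 2278) (.leaf 1528)) (.node (.leaf 1298) (.leaf 0))) (.node (.node (.leaf 782) (.leaf 0)) (.node (.leaf 2322) (.leaf 0)))) (.node (.node (.node (.leaf 1364) (.leaf 661)) (.node (.leaf 1932) (.leaf 0))) (.node (.node (.leaf 903) (.leaf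 0)) (.node (.leaf 1257) (.leaf 0))))) (.node (.node (.node (.node (.leaf 570) (.leaf 1235)) (.node (.leaf 987) (.leaf 0))) (.node (.node (.leaf 47) (.leaf 0)) (.node (.leaf 385) (.leaf 0)))) (.node (.node (.node (.leaf 1676) (.leaf 557)) (.node (.leaf 1836) (.leaf 0))) (.node (.node (.leaf 573) (.leaf 0)) (.node (.leaf 544) (.leaf 0)))))) (.node (.node (.node (.node (.node (.leaf 778) (.leaf 2048)) (.node (.leaf 1646) (.leaf 0))) (.node (.node (.leaf 2235) (.leaf 0)) (.node (.leaf 732) (.leaf 0)))) (.node (.node (.node (.leaf 991) (.leaf 1390)) (.node (.leaf 1613) (.leaf 0))) (.node (.node (.leaf 864) (.leaf 0)) (.node (.leaf 1483) (.leaf 0))))) (.node (.node (.node (.node (.leaf 1275) (.leaf 1448)) (.node (.leaf 602) (.leaf 0))) (.node (.node (.leaf 777) (.leaf 0)) (.node (.leaf 2270) (.leaf 0)))) (.node (.node (.node (.leaf 596) (.leaf 0)) (.node (.leaf 2012) (.leaf 0))) (.node (.node (.leaf 1535) (.leaf 0)) (.node (.leaf 543) (.leaf 0)))))))) (.node (.node (.node (.node (.node (.node (.node (.leaf 674)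 (.leaf 1668)) (.node (.leaf 2344) (.leaf 0))) (.node (.node (.leaf 1381) (.leaf 0)) (.node (.leaf 366) (.leaf 0)))) (.node (.node (.node (.leaf 1462) (.leaf 609)) (.node (.leaf 710) (.leaf 0))) (.node (.node (.leaf 2467) (.leaf 0)) (.node (.leaf 1396) (.leaf 0))))) (.node (.node (.node (.node (.leaf 1201) (.leaf 1949)) (.node (.leaf 2371) (.leaf 0))) (.node (.node (.leaf 1661) (.leaf 0)) (.node (.leaf 1640) (.leaf 0)))) (.node (.node (.node (.leaf 1801) (.leaf 545)) (.node (.leaf 1420) (.leaf 0))) (.node (.node (.leaf 844) (.leaf 0)) (.node (.leaf 1038) (.leaf 0)))))) (.node (.node (.node (.node (.node (.leaf 1481) (.leaf 84)) (.node (.leaf 58) (.leaf 0))) (.node (.node (.leaf 2279) (.leaf 0)) (.node (.leaf 1569) (.leaf 0)))) (.node (.node (.node (.leaf 1107) (.leaf 833)) (.node (.leaf 2393) (.leaf 0))) (.node (.node (.leaf 1641) (.leaf 0)) (.node (.leaf 494) (.leaf 0))))) (.node (.node (.node (.node (.leaf 60) (.leaf 2222)) (.node (.leaf 1631) (.leaf 0))) (.node (.node (.leaf 666) (.leaf 0)) (.node (.leaf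 412) (.leaf 0)))) (.node (.node (.node (.leaf 774) (.leaf 0)) (.node (.leaf 2243) (.leaf 0))) (.node (.node (.leaf 759) (.leaf 0)) (.node (.leaf 244) (.leaf 0))))))) (.node (.node (.node (.node (.node (.node (.leaf 2190) (.leaf 1506)) (.node (.leaf 2353) (.leaf 0))) (.node (.node (.leaf 1699) (.leaf 0)) (.node (.leaf 1789) (.leaf 0)))) (.node (.node (.node (.leaf 397) (.leaf 487)) (.node (.leaf 612) (.leaf 0))) (.node (.node (.leaf 2316) (.leaf 0)) (.node (.leaf 1179) (.leaf 0))))) (.node (.node (.node (.node (.leaf 827) (.leaf 842)) (.node (.leaf 1509) (.leaf 0))) (.node (.node (.leaf 1774) (.leaf 0)) (.node (.leaf 1523) (.leaf 0)))) (.node (.node (.node (.leaf 1213) (.leaf 1568)) (.node (.leaf 2484) (.leaf 0))) (.node (.node (.leaf 1163) (.leaf 0)) (.node (.leaf 1496) (.leaf 0)))))) (.node (.node (.node (.node (.node (.leaf 432) (.leaf 1852)) (.node (.leaf 2206) (.leaf 0))) (.node (.node (.leaf 677) (.leaf 0)) (.node (.leaf 2470) (.leaf 0)))) (.node (.node (.node (.leaf 2093) (.leaf 1786)) (.node (.leaf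 1104) (.leaf 0))) (.node (.node (.leaf 2449) (.leaf 0)) (.node (.leaf 2122) (.leaf 0))))) (.node (.node (.node (.node (.leaf 1705) (.leaf 1857)) (.node (.leaf 175) (.leaf 0))) (.node (.node (.leaf 923) (.leaf 0)) (.node (.leaf 2293) (.leaf 0)))) (.node (.node (.node (.leaf 156) (.leaf 0)) (.node (.leaf 159) (.leaf 0))) (.node (.node (.leaf 139) (.leaf 0)) (.node (.leaf 1049) (.leaf 0))))))))) (.node (.node (.node (.node (.node (.node (.node (.node (.leaf 1987) (.leaf 2209)) (.node (.leaf 1743) (.leaf 0))) (.node (.node (.leaf 2264) (.leaf 0)) (.node (.leaf 595) (.leaf 0)))) (.node (.node (.node (.leaf 231) (.leaf 1032)) (.node (.leaf 2459) (.leaf 0))) (.node (.node (.leaf 185) (.leaf 0)) (.node (.leaf 1482) (.leaf 0))))) (.node (.node (.node (.node (.leaf 37) (.leaf 1859)) (.node (.leaf 2077) (.leaf 0))) (.node (.node (.leaf 1214) (.leaf 0)) (.node (.leaf 1134) (.leaf 0)))) (.node (.node (.node (.leaf 1626) (.leaf 1234)) (.node (.leaf 1639) (.leaf 0))) (.node (.node (.leaf 1984) (.leaf 0)) (.node (.leaf 1254)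 (.leaf 0)))))) (.node (.node (.node (.node (.node (.leaf 1054) (.leaf 82)) (.node (.leaf 1413) (.leaf 0))) (.node (.node (.leaf 2321) (.leaf 0)) (.node (.leaf 1604) (.leaf 0)))) (.node (.node (.node (.leaf 699) (.leaf 1382)) (.node (.leaf 1315) (.leaf 0))) (.node (.node (.leaf 1145) (.leaf 0)) (.node (.leaf 454) (.leaf 0))))) (.node (.node (.node (.node (.leaf 1281) (.leaf 2084)) (.node (.leaf 1940) (.leaf 0))) (.node (.node (.leaf 2277) (.leaf 0)) (.node (.leaf 2205) (.leaf 0)))) (.node (.node (.node (.leaf 1721) (.leaf 0)) (.node (.leaf 1970) (.leaf 0))) (.node (.node (.leaf 245) (.leaf 0)) (.node (.leaf 865) (.leaf 0))))))) (.node (.node (.node (.node (.node (.node (.leaf 2332) (.leaf 1441)) (.node (.leaf 1575) (.leaf 0))) (.node (.node (.leaf 38) (.leaf 0)) (.node (.leaf 1303) (.leaf 0)))) (.node (.node (.node (.leaf 704) (.leaf 531)) (.node (.leaf 629) (.leaf 0))) (.node (.node (.leaf 141) (.leaf 0)) (.node (.leaf 1149) (.leaf 0))))) (.node (.node (.node (.node (.leaf 1928) (.leaf 1051)) (.node (.leaf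 293) (.leaf 0))) (.node (.node (.leaf 2028) (.leaf 0)) (.node (.leaf 1563) (.leaf 0)))) (.node (.node (.node (.leaf 1707) (.leaf 333)) (.node (.leaf 1617) (.leaf 0))) (.node (.node (.leaf 433) (.leaf 0)) (.node (.leaf 1520) (.leaf 0)))))) (.node (.node (.node (.node (.node (.leaf 740) (.leaf 2005)) (.node (.leaf 1971) (.leaf 0))) (.node (.node (.leaf 748) (.leaf 0)) (.node (.leaf 2194) (.leaf 0)))) (.node (.node (.node (.leaf 2218) (.leaf 2043)) (.node (.leaf 331) (.leaf 0))) (.node (.node (.leaf 353) (.leaf 0)) (.node (.leaf 1392) (.leaf 0))))) (.node (.node (.node (.node (.leaf 1387) (.leaf 1747)) (.node (.leaf 227) (.leaf 0))) (.node (.node (.leaf 1273) (.leaf 0)) (.node (.leaf 2363) (.leaf 0)))) (.node (.node (.node (.leaf 362) (.leaf 0)) (.node (.leaf 1708) (.leaf 0))) (.node (.node (.leaf 2261) (.leaf 0)) (.node (.leaf 1542) (.leaf 0)))))))) (.node (.node (.node (.node (.node (.node (.node (.leaf 472) (.leaf 1665)) (.node (.leaf 326) (.leaf 0))) (.node (.node (.leaf 2298) (.leaf 0)) (.node (.leaf 1832)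 (.leaf 0)))) (.node (.node (.node (.leaf 2103) (.leaf 590)) (.node (.leaf 2228) (.leaf 0))) (.node (.node (.leaf 2011) (.leaf 0)) (.node (.leaf 1570) (.leaf 0))))) (.node (.node (.node (.node (.leaf 1045) (.leaf 1322)) (.node (.leaf 8) (.leaf 0))) (.node (.node (.leaf 375) (.leaf 0)) (.node (.leaf 154) (.leaf 0)))) (.node (.node (.node (.leaf 800) (.leaf 989)) (.node (.leaf 758) (.leaf 0))) (.node (.node (.leaf 310) (.leaf 0)) (.node (.leaf 692) (.leaf 0)))))) (.node (.node (.node (.node (.node (.leaf 1916) (.leaf 81)) (.node (.leaf 2415) (.leaf 0))) (.node (.node (.leaf 1114) (.leaf 0)) (.node (.leaf 25) (.leaf 0)))) (.node (.node (.node (.leaf 623) (.leaf 1767)) (.node (.leaf 513) (.leaf 0))) (.node (.node (.leaf 1944) (.leaf 0)) (.node (.leaf 1584) (.leaf 0))))) (.node (.node (.node (.node (.leaf 1240) (.leaf 1595)) (.node (.leaf 1205) (.leaf 0))) (.node (.node (.leaf 2403) (.leaf 0)) (.node (.leaf 374) (.leaf 0)))) (.node (.node (.node (.leaf 760) (.leaf 0)) (.node (.leaf 229) (.leaf 0))) (.node (.node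 (.leaf 483) (.leaf 0)) (.node (.leaf 2400) (.leaf 0))))))) (.node (.node (.node (.node (.node (.node (.leaf 1150) (.leaf 762)) (.node (.leaf 1845) (.leaf 0))) (.node (.node (.leaf 2071) (.leaf 0)) (.node (.leaf 1436) (.leaf 0)))) (.node (.node (.node (.leaf 2172) (.leaf 127)) (.node (.leaf 868) (.leaf 0))) (.node (.node (.leaf 1685) (.leaf 0)) (.node (.leaf 1118) (.leaf 0))))) (.node (.node (.node (.node (.leaf 2050) (.leaf 750)) (.node (.leaf 2212) (.leaf 0))) (.node (.node (.leaf 2475) (.leaf 0)) (.node (.leaf 2149) (.leaf 0)))) (.node (.node (.node (.leaf 2052) (.leaf 522)) (.node (.leaf 1882) (.leaf 0))) (.node (.node (.leaf 100) (.leaf 0)) (.node (.leaf 1342) (.leaf 0)))))) (.node (.node (.node (.node (.node (.leaf 1620) (.leaf 1899)) (.node (.leaf 57) (.leaf 0))) (.node (.node (.leaf 168) (.leaf 0)) (.node (.leaf 21) (.leaf 0)))) (.node (.node (.node (.leaf 1427) (.leaf 963)) (.node (.leaf 2253) (.leaf 0))) (.node (.node (.leaf 881) (.leaf 0)) (.node (.leaf 2338) (.leaf 0))))) (.node (.node (.node (.node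 (.leaf 971) (.leaf 1950)) (.node (.leaf 381) (.leaf 0))) (.node (.node (.leaf 645) (.leaf 0)) (.node (.leaf 172) (.leaf 0)))) (.node (.node (.node (.leaf 1856) (.leaf 0)) (.node (.leaf 2127) (.leaf 0))) (.node (.node (.leaf 1028) (.leaf 0)) (.node (.leaf 1534) (.leaf 0))))))))))))

noncomputable def tvT : Trie Nat := .node (.node (.node (.node (.node (.node (.node (.node (.leaf 4294971408) (.leaf 28368206967)) (.node (.leaf 26310213633) (.leaf 26577600513))) (.node (.node (.leaf 28401777367) (.leaf 3201804742)) (.node (.leaf 25887311622) (.leaf 0)))) (.node (.node (.node (.leaf 26106901968) (.leaf 26123687088)) (.node (.leaf 34150433360) (.leaf 0))) (.node (.node (.leaf 1835437047) (.leaf 29236885872)) (.node (.leaf 34217547584) (.leaf 0))))) (.node (.node (.node (.node (.leaf 2615578103) (.leaf 3585545238)) (.node (.leaf 29872321904) (.leaf 0))) (.node (.node (.leaf 34284662112) (.leaf 28702128592)) (.node (.leaf 4295389302) (.leaf 0)))) (.node (.node (.node (.leaf 26865619383) (.leaf 32495828993)) (.node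 (.leaf 33700212582) (.leaf 0))) (.node (.node (.leaf 2481328663) (.leaf 3652701862)) (.node (.leaf 28168411568) (.leaf 0)))))) (.node (.node (.node (.node (.node (.leaf 3885410247) (.leaf 4295463143)) (.node (.leaf 27656585217) (.leaf 0))) (.node (.node (.leaf 4295372838) (.leaf 1987515926)) (.node (.leaf 27100477559) (.leaf 0)))) (.node (.node (.node (.leaf 33232558822) (.leaf 30772583494)) (.node (.leaf 4295016608) (.leaf 0))) (.node (.node (.leaf 32980245472) (.leaf 26274638128)) (.node (.leaf 29069092144) (.leaf 0))))) (.node (.node (.node (.node (.leaf 33481485712) (.leaf 4295446599)) (.node (.leaf 27016608983) (.leaf 0))) (.node (.node (.leaf 25803424518) (.leaf 30215835143)) (.node (.leaf 31123855430) (.leaf 0)))) (.node (.node (.node (.leaf 33514998608) (.leaf 33414354912)) (.node (.leaf 27283958839) (.leaf 0))) (.node (.node (.leaf 33047990598) (.leaf 33165471638)) (.node (.leaf 25954422022) (.leaf 0))))))) (.node (.node (.node (.node (.node (.node (.leaf 31411601409) (.leaf 1129771655)) (.node (.leaf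 2037886662) (.leaf 4034920449))) (.node (.node (.leaf 3818291959) (.leaf 30299719943)) (.node (.leaf 28618227312) (.leaf 0)))) (.node (.node (.node (.leaf 30856505494) (.leaf 29671604183)) (.node (.leaf 27520982967) (.leaf 0))) (.node (.node (.leaf 1042807174) (.leaf 1734743831)) (.node (.leaf 32261952320) (.leaf 0))))) (.node (.node (.node (.node (.leaf 1954018694) (.leaf 29271392257)) (.node (.leaf 33817663718) (.leaf 0))) (.node (.node (.leaf 1464268679) (.leaf 31682134017)) (.node (.leaf 908576422) (.leaf 0)))) (.node (.node (.node (.leaf 32085401414) (.leaf 4295483543)) (.node (.leaf 29102650912) (.leaf 0))) (.node (.node (.leaf 33282877542) (.leaf 25820201478)) (.node (.leaf 32118971622) (.leaf 0)))))) (.node (.node (.node (.node (.node (.leaf 1196853239) (.leaf 1667670727)) (.node (.leaf 28084481584) (.leaf 0))) (.node (.node (.leaf 1397146279) (.leaf 30385017568)) (.node (.leaf 34318248848) (.leaf 0)))) (.node (.node (.node (.leaf 27403514231) (.leaf 30165501447)) (.node (.leaf 30519217488) (.leaf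 0))) (.node (.node (.leaf 775362838) (.leaf 3231711233)) (.node (.leaf 32446507872) (.leaf 0))))) (.node (.node (.node (.node (.leaf 27250425719) (.leaf 30739025750)) (.node (.leaf 3801486103) (.leaf 0))) (.node (.node (.leaf 29956226768) (.leaf 29554127143)) (.node (.leaf 28034184912) (.leaf 0)))) (.node (.node (.node (.leaf 1650901927) (.leaf 29789005879)) (.node (.leaf 2548484007) (.leaf 0))) (.node (.node (.leaf 2163212289) (.leaf 2649140167)) (.node (.leaf 31006433254) (.leaf 0)))))))) (.node (.node (.node (.node (.node (.node (.node (.leaf 30148723719) (.leaf 32946675008)) (.node (.leaf 31967961446) (.leaf 27554495527))) (.node (.node (.leaf 26140440176) (.leaf 29085906128)) (.node (.leaf 1531358663) (.leaf 0)))) (.node (.node (.node (.leaf 32345835344) (.leaf 29705166007)) (.node (.leaf 958864918) (.leaf 0))) (.node (.node (.leaf 32812458592) (.leaf 27317557943)) (.node (.leaf 30806141542) (.leaf 0))))) (.node (.node (.node (.node (.leaf 2464609159) (.leaf 25987975942)) (.node (.leaf 16843008) (.leaf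 0))) (.node (.node (.leaf 33767316038) (.leaf 201394688)) (.node (.leaf 4295000304) (.leaf 0)))) (.node (.node (.node (.leaf 30552775488) (.leaf 32278766224)) (.node (.leaf 134287104) (.leaf 0))) (.node (.node (.leaf 1801911687) (.leaf 28217188663)) (.node (.leaf 27588045367) (.leaf 0)))))) (.node (.node (.node (.node (.node (.leaf 624424070) (.leaf 29905901232)) (.node (.leaf 3602380422) (.leaf 0))) (.node (.node (.leaf 33582760278) (.leaf 4295442519)) (.node (.leaf 27638413527) (.leaf 0)))) (.node (.node (.node (.leaf 28017390704) (.leaf 607634854)) (.node (.leaf 33330455392) (.leaf 0))) (.node (.node (.leaf 4295368758) (.leaf 3568805318)) (.node (.leaf 4295028864) (.leaf 0))))) (.node (.node (.node (.node (.leaf 3117940358) (.leaf 32879601552)) (.node (.leaf 3067578102) (.leaf 0))) (.node (.node (.leaf 29889078320) (.leaf 26190757408)) (.node (.leaf 4295450727) (.leaf 0)))) (.node (.node (.node (.leaf 4295413942) (.leaf 30621602278)) (.node (.leaf 30452115296) (.leaf 0))) (.node (.node (.leaf 1970767094)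 (.leaf 26983018295)) (.node (.leaf 30131946759) (.leaf 0))))))) (.node (.node (.node (.node (.node (.node (.leaf 1380353015) (.leaf 30368261008)) (.node (.leaf 28452116663) (.leaf 0))) (.node (.node (.leaf 1263934743) (.leaf 1112974279)) (.node (.leaf 875005430) (.leaf 0)))) (.node (.node (.node (.leaf 4295405782) (.leaf 32152545942)) (.node (.leaf 28334636839) (.leaf 0))) (.node (.node (.leaf 269484033) (.leaf 32412966368)) (.node (.leaf 27132998103) (.leaf 0))))) (.node (.node (.node (.node (.leaf 34133677024) (.leaf 32202836054)) (.node (.leaf 33733799062) (.leaf 0))) (.node (.node (.leaf 641181382) (.leaf 3952528807)) (.node (.leaf 3986094983) (.leaf 0)))) (.node (.node (.node (.leaf 33347228224) (.leaf 33198984278)) (.node (.leaf 2696937473) (.leaf 0))) (.node (.node (.leaf 4295008448) (.leaf 28567873072)) (.node (.leaf 28551099424) (.leaf 0)))))) (.node (.node (.node (.node (.node (.leaf 2121779622) (.leaf 33832763393)) (.node (.leaf 31039974502) (.leaf 0))) (.node (.node (.leaf 31073520214) (.leaf 1297533863))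 (.node (.leaf 28534363568) (.leaf 0)))) (.node (.node (.node (.leaf 3033994518) (.leaf 28736618497)) (.node (.leaf 27050129959) (.leaf 0))) (.node (.node (.leaf 891790534) (.leaf 28000597280)) (.node (.leaf 32795673424) (.leaf 0))))) (.node (.node (.node (.node (.leaf 691506934) (.leaf 30889009558)) (.node (.leaf 3736570358) (.leaf 0))) (.node (.node (.leaf 29153025712) (.leaf 30040078624)) (.node (.leaf 1564875543) (.leaf 0)))) (.node (.node (.node (.leaf 27367847975) (.leaf 29738695287)) (.node (.leaf 31144214529) (.leaf 0))) (.node (.node (.leaf 167840768) (.leaf 251725824)) (.node (.leaf 3050816678) (.leaf 0))))))))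

noncomputable def parT : Trie Nat := .node (.node (.node (.node (.node (.node (.node (.node (.leaf 0) (.leaf 196)) (.node (.leaf 88) (.leaf 372))) (.node (.node (.leaf 43) (.leaf 267)) (.node (.leaf 136) (.leaf 0)))) (.node (.node (.node (.leaf 19) (.leaf 230)) (.node (.leaf 111) (.leaf 0))) (.node (.node (.leaf 65) (.leaf 318)) (.node (.leaf 169) (.leaf 0))))) (.node (.node (.node (.node (.leaf 9) (.leaf 217)) (.node (.leaf 99) (.leaf 0))) (.node (.node (.leaf 55) (.leaf 290)) (.node (.leaf 153) (.leaf 0)))) (.node (.node (.node (.leaf 32) (.leaf 249)) (.node (.leaf 123) (.leaf 0))) (.node (.node (.leaf 77) (.leaf 345)) (.node (.leaf 179) (.leaf 0)))))) (.node (.node (.node (.node (.node (.leaf 5) (.leaf 201)) (.node (.leaf 95) (.leaf 0))) (.node (.node (.leaf 47) (.leaf 273)) (.node (.leaf 144) (.leaf 0)))) (.node (.node (.node (.leaf 24) (.leaf 238)) (.node (.leaf 118) (.leaf 0))) (.node (.node (.leaf 71) (.leaf 331)) (.node (.leaf 174) (.leaf 0))))) (.node (.node (.node (.node (.leaf 15) (.leaf 225))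 (.node (.leaf 105) (.leaf 0))) (.node (.node (.leaf 61) (.leaf 304)) (.node (.leaf 160) (.leaf 0)))) (.node (.node (.node (.leaf 37) (.leaf 261)) (.node (.leaf 127) (.leaf 0))) (.node (.node (.leaf 83) (.leaf 358)) (.node (.leaf 185) (.leaf 0))))))) (.node (.node (.node (.node (.node (.node (.leaf 2) (.leaf 198)) (.node (.leaf 91) (.leaf 382))) (.node (.node (.leaf 45) (.leaf 270)) (.node (.leaf 141) (.leaf 0)))) (.node (.node (.node (.leaf 22) (.leaf 233)) (.node (.leaf 115) (.leaf 0))) (.node (.node (.leaf 68) (.leaf 325)) (.node (.leaf 171) (.leaf 0))))) (.node (.node (.node (.node (.leaf 12) (.leaf 221)) (.node (.leaf 103) (.leaf 0))) (.node (.node (.leaf 59) (.leaf 297)) (.node (.leaf 157) (.leaf 0)))) (.node (.node (.node (.leaf 34) (.leaf 255)) (.node (.leaf 125) (.leaf 0))) (.node (.node (.leaf 80) (.leaf 349)) (.node (.leaf 183) (.leaf 0)))))) (.node (.node (.node (.node (.node (.leaf 7) (.leaf 212)) (.node (.leaf 97) (.leaf 0))) (.node (.node (.leaf 53) (.leaf 286)) (.node (.leaf 148) (.leaf 0))))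 (.node (.node (.node (.leaf 29) (.leaf 247)) (.node (.leaf 120) (.leaf 0))) (.node (.node (.leaf 73) (.leaf 338)) (.node (.leaf 176) (.leaf 0))))) (.node (.node (.node (.node (.leaf 17) (.leaf 228)) (.node (.leaf 108) (.leaf 0))) (.node (.node (.leaf 63) (.leaf 311)) (.node (.leaf 164) (.leaf 0)))) (.node (.node (.node (.leaf 39) (.leaf 263)) (.node (.leaf 132) (.leaf 0))) (.node (.node (.leaf 85) (.leaf 368)) (.node (.leaf 191) (.leaf 0)))))))) (.node (.node (.node (.node (.node (.node (.node (.leaf 1) (.leaf 197)) (.node (.leaf 89) (.leaf 374))) (.node (.node (.leaf 44) (.leaf 269)) (.node (.leaf 137) (.leaf 0)))) (.node (.node (.node (.leaf 21) (.leaf 231)) (.node (.leaf 112) (.leaf 0))) (.node (.node (.leaf 67) (.leaf 319)) (.node (.leaf 170) (.leaf 0))))) (.node (.node (.node (.node (.leaf 11) (.leaf 219)) (.node (.leaf 102) (.leaf 0))) (.node (.node (.leaf 56) (.leaf 295)) (.node (.leaf 155) (.leaf 0)))) (.node (.node (.node (.leaf 33) (.leaf 252)) (.node (.leaf 124) (.leaf 0))) (.node (.node (.leaf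 79) (.leaf 346)) (.node (.leaf 180) (.leaf 0)))))) (.node (.node (.node (.node (.node (.leaf 6) (.leaf 202)) (.node (.leaf 96) (.leaf 0))) (.node (.node (.leaf 50) (.leaf 280)) (.node (.leaf 147) (.leaf 0)))) (.node (.node (.node (.leaf 28) (.leaf 243)) (.node (.leaf 119) (.leaf 0))) (.node (.node (.leaf 72) (.leaf 334)) (.node (.leaf 175) (.leaf 0))))) (.node (.node (.node (.node (.leaf 16) (.leaf 227)) (.node (.leaf 107) (.leaf 0))) (.node (.node (.leaf 62) (.leaf 305)) (.node (.leaf 161) (.leaf 0)))) (.node (.node (.node (.leaf 38) (.leaf 262)) (.node (.leaf 130) (.leaf 0))) (.node (.node (.leaf 84) (.leaf 366)) (.node (.leaf 190) (.leaf 0))))))) (.node (.node (.node (.node (.node (.node (.leaf 3) (.leaf 199)) (.node (.leaf 92) (.leaf 0))) (.node (.node (.leaf 46) (.leaf 271)) (.node (.leaf 143) (.leaf 0)))) (.node (.node (.node (.leaf 23) (.leaf 235)) (.node (.leaf 117) (.leaf 0))) (.node (.node (.leaf 69) (.leaf 327)) (.node (.leaf 173) (.leaf 0))))) (.node (.node (.node (.node (.leaf 13) (.leaf 224))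 (.node (.leaf 104) (.leaf 0))) (.node (.node (.leaf 60) (.leaf 299)) (.node (.leaf 158) (.leaf 0)))) (.node (.node (.node (.leaf 35) (.leaf 258)) (.node (.leaf 126) (.leaf 0))) (.node (.node (.leaf 81) (.leaf 355)) (.node (.leaf 184) (.leaf 0)))))) (.node (.node (.node (.node (.node (.leaf 8) (.leaf 213)) (.node (.leaf 98) (.leaf 0))) (.node (.node (.leaf 54) (.leaf 287)) (.node (.leaf 152) (.leaf 0)))) (.node (.node (.node (.leaf 31) (.leaf 248)) (.node (.leaf 121) (.leaf 0))) (.node (.node (.leaf 76) (.leaf 341)) (.node (.leaf 177) (.leaf 0))))) (.node (.node (.node (.node (.leaf 18) (.leaf 229)) (.node (.leaf 109) (.leaf 0))) (.node (.node (.leaf 64) (.leaf 316)) (.node (.leaf 165) (.leaf 0)))) (.node (.node (.node (.leaf 41) (.leaf 265)) (.node (.leaf 133) (.leaf 0))) (.node (.node (.leaf 87) (.leaf 369)) (.node (.leaf 194) (.leaf 0))))))))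

def mA : List Nat := [550, 87907557, 100, 79, 126986721, 133388596, 137395173, 129924221, 30418726, 180535006, 144741671, 9691639]

def mAi : List Nat := [550, 87907557, 100, 79, 126986721, 133388596, 137395173, 129924221, 30418726, 180535006, 144741671, 9691639]

def mB : List Nat := [224627741, 42809801, 97969603, 185548854, 78100736, 84904396, 55786081, 124597138, 105025173, 11094888, 55785930, 120032373]

def mBi : List Nat := [234931305, 168001182, 91112597, 18128128, 167153554, 223360686, 224782904, 227269296, 214944873, 126193777, 208687854, 19497278]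

def r13 : List Nat := [93665739, 132340030, 166641453, 233090393, 34644738, 96536758, 96868963, 8557203, 87095184, 206646038, 191865913, 129346563]

def basisInv : List Nat := [117989100, 70976156, 69024577, 96409373, 162293437, 183971815, 57279943, 165713976, 23232380, 182156113, 14490602, 145864874]

def sel : List Nat := [0, 1, 2, 3, 5, 6, 7, 8, 10, 11, 12, 13]

end CfsgLib.U3Four.Data
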